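import Cfsg.Agent.Lib.Recog.SporBound.Fi22Aut.Checks
import Cfsg.Agent.Lib.Recog.SporBound.Fi22U6.Class
import Cfsg.Prelude.Def_KGroupFacts
import Mathlib.GroupTheory.Perm.Cycle.Type
import Mathlib.GroupTheory.Sylow

set_option autoImplicit false
set_option maxRecDepth 4000

/-!
The outer automorphism group of Fi22 has order 2 (owner: helper6).
-/

namespace CfsgLib.Recog.SporBound.Fi22Aut

open Cfsg CfsgLib.ThreeTrans.CosetIndex
open scoped Pointwise
open CfsgLib.Recog.SporBound.Fi22Group (a act K card_and_faithful finite_fi22)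
open CfsgLib.Recog.SporBound.Fi22U6 (trace_eq_act a_sq center_a stab_eq centralizer_a origin)
open Cfsg.Agent.S1687 (fits gens)

local notation "G" => Cfsg.Spor.Fi22

/-- Rows. -/
abbrev Row : Type := Fin FiHat3510.data.n

theorem trace_act (w : List ℕ) (c : Row) :
    FiHat3510.data.trace c w = ((act (w.reverse.map a).prod c : Row) : ℕ) := by
  rw [← trace_eq_act, List.reverse_reverse]

/-- An element moving the first row to a given one. -/
noncomputable def gr (r : Row) : G := ((path r).reverse.map a).prod

theorem gr_origin (r : Row) : act (gr r) origin = r := by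
  refine Fin.ext ?_
  rw [gr, ← trace_act]
  exact Nat.eq_of_beq_eq_true (List.all_eq_true.1 path_ok r (List.mem_range.2 r.2))

/-- The transposition of a row. -/
noncomputable def T (r : Row) : G := gr r * a 0 * (gr r)⁻¹

theorem T_act (h : G) : T (act h origin) = h * a 0 * h⁻¹ := by
  set r := act h origin
  have hk : h⁻¹ * gr r ∈ K := stab_eq.1 (by
    rw [map_mul, Equiv.Perm.mul_apply, gr_origin, map_inv, Equiv.Perm.inv_eq_iff_eq])
  calc T r = h * ((h⁻¹ * gr r) * a 0 * (h⁻¹ * gr r)⁻¹) * h⁻¹ := by rw [T]; group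
    _ = h * a 0 * h⁻¹ := by rw [center_a _ hk, mul_inv_cancel_right]

theorem T_equiv (h : G) (r : Row) : T (act h r) = h * T r * h⁻¹ := by
  conv_lhs => rw [← gr_origin r, ← Equiv.Perm.mul_apply, ← map_mul, T_act]
  rw [T]; group

theorem T_inj {r s : Row} (h : T r = T s) : r = s := by
  have hk : (gr s)⁻¹ * gr r ∈ K := by
    rw [← centralizer_a, Subgroup.mem_centralizer_singleton_iff]
    calc (gr s)⁻¹ * gr r * a 0 = (gr s)⁻¹ * T r * gr r := by rw [T]; group
      _ = a 0 * ((gr s)⁻¹ * gr r) := by rw [h, T]; group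
  have h' := stab_eq.2 hk
  rw [map_mul, Equiv.Perm.mul_apply, gr_origin, map_inv, Equiv.Perm.inv_eq_iff_eq, gr_origin] at h'
  exact h'

theorem T_origin : T origin = a 0 := by
  have h := T_act 1
  rwa [map_one, Equiv.Perm.one_apply, one_mul, inv_one, mul_one] at h

theorem T_sq (r : Row) : T r * T r = 1 := by
  rw [T, show gr r * a 0 * (gr r)⁻¹ * (gr r * a 0 * (gr r)⁻¹) = gr r * (a 0 * a 0) * (gr r)⁻¹ by group, a_sq,
    mul_one, mul_inv_cancel]

theorem pal_eq (r : Row) : ((pal r).map a).prod = T r := by
  rw [pal, List.map_append, List.map_append, List.prod_append, List.prod_append, List.map_cons, List.map_nil,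
    List.prod_cons, List.prod_nil, mul_one, T, gr, ← prod_reverse_eq_inv a a_sq (path r).reverse,
    List.reverse_reverse]

theorem pal_reverse (r : ℕ) : (pal r).reverse = pal r := by simp [pal]

theorem trace_pal (r c : Row) : FiHat3510.data.trace c (pal r) = ((act (T r) c : Row) : ℕ) := by
  rw [trace_act, pal_reverse, pal_eq]

/-- The transpositions of two rows commute. -/
def com (r s : Row) : Prop := act (T r) s = s

theorem com_iff {r s : Row} : com r s ↔ T r * T s = T s * T r := by
  constructor
  · intro h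
    have h' := T_equiv (T r) s
    rw [h] at h'
    conv_rhs => rw [h']
    group
  · intro h
    refine T_inj ?_
    rw [T_equiv, h, mul_inv_cancel_right]

theorem com_act (h : G) {r s : Row} : com (act h r) (act h s) ↔ com r s := by
  unfold com
  rw [T_equiv, map_mul, map_mul, Equiv.Perm.mul_apply, Equiv.Perm.mul_apply, map_inv, Equiv.Perm.coe_inv,
    Equiv.symm_apply_apply]
  exact (act h).injective.eq_iff

theorem comB_iff (r s : Row) : comB r s = true ↔ com r s := by
  have hu : FiHat3510.data.trace s (path r).reverse = ((act (gr r)⁻¹ s : Row) : ℕ) := by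
    rw [trace_act, List.reverse_reverse, gr, ← prod_reverse_eq_inv a a_sq (path r).reverse, List.reverse_reverse]
  have ht : ∀ c : Row, FiHat3510.data.tab c 0 = ((act (a 0) c : Row) : ℕ) := fun c => by
    have h := trace_act [0] c
    rw [List.reverse_singleton, List.map_cons, List.map_nil, List.prod_cons, List.prod_nil, mul_one] at h
    exact h
  unfold comB com
  rw [hu, ht, Nat.beq_eq, ← Fin.ext_iff, T, map_mul, map_mul, Equiv.Perm.mul_apply, Equiv.Perm.mul_apply]
  constructor <;> intro h
  · rw [h, map_inv, Equiv.Perm.coe_inv, Equiv.apply_symm_apply]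
  · apply (act (gr r)).injective
    rw [h, map_inv, Equiv.Perm.coe_inv, Equiv.apply_symm_apply]

/-- The element of order 11. -/
noncomputable def y : G := (yWord.map a).prod

theorem y_tab (r : Row) : yTree.get r = ((act y r : Row) : ℕ) := by
  have h := (Bool.and_eq_true_iff.1 (List.all_eq_true.1 y_ok r (List.mem_range.2 r.2))).1
  rw [← Nat.eq_of_beq_eq_true h, trace_act, List.reverse_reverse, y]

theorem it_eq (k : ℕ) (r : Row) : it k r = ((act (y ^ k) r : Row) : ℕ) := by
  induction k with
  | zero => rw [pow_zero, map_one]; rfl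
  | succ k ih =>
    show yTree.get (it k r) = _
    rw [ih, y_tab, pow_succ', map_mul, Equiv.Perm.mul_apply]

theorem y_fix {r : Row} (h : act y r = r) : r = origin := by
  have h' := (Bool.and_eq_true_iff.1 (List.all_eq_true.1 y_ok r (List.mem_range.2 r.2))).2
  rw [y_tab, h, Bool.or_eq_true] at h'
  rcases h' with h' | h'
  · exact Fin.ext (Nat.eq_of_beq_eq_true h')
  · simp at h'

theorem y_eleven' : y ^ 11 = 1 := by
  refine card_and_faithful.2.1 (Equiv.ext fun c => Fin.ext ?_)
  rw [← it_eq, Nat.eq_of_beq_eq_true (List.all_eq_true.1 y_eleven c (List.mem_range.2 c.2)), map_one]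
  rfl

theorem orderOf_y : orderOf y = 11 := by
  have : Fact (Nat.Prime 11) := ⟨by norm_num⟩
  refine orderOf_eq_prime y_eleven' fun e => ?_
  have h := y_fix (r := ⟨1, by decide⟩) (by rw [e, map_one]; rfl)
  exact absurd (congrArg Fin.val h) (show (1 : ℕ) ≠ 0 by omega)

/-- The row 1. -/
noncomputable abbrev one' : Row := ⟨1, by decide⟩

theorem close_fix {h : G} (hy : h * y = y * h) (h1 : act h one' = one') : h = 1 := by
  have hcyc : ∀ k < 11, ∀ r : Row, (r : ℕ) = cycData.getD k 0 → act h r = r := by
    intro k hk r hr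
    have e : r = act (y ^ k) one' := Fin.ext (by
      rw [hr, ← it_eq, Nat.eq_of_beq_eq_true (List.all_eq_true.1 cyc_ok k (List.mem_range.2 hk))])
    have hc : h * y ^ k = y ^ k * h := (Commute.pow_right (show Commute h y from hy) k).eq
    rw [e, ← Equiv.Perm.mul_apply, ← map_mul, hc, map_mul, Equiv.Perm.mul_apply, h1]
  have hlen : cycData.length = 11 := by decide
  have hmem : ∀ r : Row, (r : ℕ) ∈ cycData → act h r = r := fun r hr => by
    obtain ⟨k, hk, e⟩ := List.getElem_of_mem hr
    exact hcyc k (hlen ▸ hk) r (by rw [List.getD_eq_getElem _ _ hk]; exact e.symm)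
  have hone : cycData.getD 0 0 = 1 ∧ 1 ∈ cycData := by decide
  have main : ∀ (steps : List (ℕ × ℕ)) (acc : ℕ),
      (∀ p, acc.testBit p = true → ∃ r : Row, (r : ℕ) = p ∧ act h r = r) →
      ∀ p, (closeFrom steps acc).testBit p = true → ∃ r : Row, (r : ℕ) = p ∧ act h r = r := by
    intro steps
    induction steps with
    | nil => exact fun acc hacc => hacc
    | cons e es ih =>
      intro acc hacc
      refine ih _ fun p hp => ?_
      cases hb : acc.testBit e.1 with
      | false => rw [hb] at hp; exact hacc p hp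
      | true =>
        rw [hb] at hp
        change (acc ||| 1 <<< FiHat3510.data.trace e.1 (pal (cycData.getD e.2 1)) : ℕ).testBit p = true at hp
        rw [Nat.testBit_or, Nat.one_shiftLeft, Nat.testBit_two_pow, Bool.or_eq_true, decide_eq_true_eq] at hp
        rcases hp with hp | hp
        · exact hacc p hp
        obtain ⟨r, hr, hfr⟩ := hacc e.1 hb
        have hc : cycData.getD e.2 1 < 3510 ∧ ∀ s : Row, (s : ℕ) = cycData.getD e.2 1 → act h s = s := by
          by_cases he : e.2 < cycData.length
          · rw [List.getD_eq_getElem _ _ he]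
            exact ⟨by
              have := List.all_eq_true.1 (show cycData.all (fun r => decide (r < 3510)) = true by decide) _ (List.getElem_mem he)
              simpa using this, fun s hs => hmem s (hs ▸ List.getElem_mem he)⟩
          · rw [List.getD_eq_default _ _ (by omega)]
            exact ⟨by omega, fun s hs => hmem s (hs ▸ hone.2)⟩
        set s : Row := ⟨cycData.getD e.2 1, hc.1⟩
        refine ⟨act (T s) r, ?_, ?_⟩
        · rw [← trace_pal, hr, ← hp]
        · have hs := T_equiv h s
          rw [hc.2 s rfl] at hs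
          have hcomm : h * T s = T s * h := by
            conv_rhs => rw [hs]
            group
          rw [← Equiv.Perm.mul_apply, ← map_mul, hcomm, map_mul, Equiv.Perm.mul_apply, hfr]
  refine card_and_faithful.2.1 (Equiv.ext fun c => ?_)
  have hacc : ∀ (L : List ℕ), (∀ q ∈ L, q ∈ cycData) → ∀ p,
      (L.foldr (fun r acc => Nat.lor acc (Nat.shiftLeft 1 r)) 0).testBit p = true → p ∈ cycData := by
    intro L
    induction L with
    | nil => intro _ p hp; simp at hp
    | cons q L ih =>
      intro hL p hp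
      rw [List.foldr_cons] at hp
      change (_ ||| 1 <<< q : ℕ).testBit p = true at hp
      rw [Nat.testBit_or, Nat.one_shiftLeft, Nat.testBit_two_pow, Bool.or_eq_true, decide_eq_true_eq] at hp
      rcases hp with hp | hp
      · exact ih (fun q hq => hL q (List.mem_cons_of_mem _ hq)) p hp
      · exact hp ▸ hL q List.mem_cons_self
  have hlt : ∀ q ∈ cycData, q < 3510 := fun q hq => by
    have := List.all_eq_true.1 (show cycData.all (fun r => decide (r < 3510)) = true by decide) q hq
    simpa using this
  obtain ⟨r, hr, hfr⟩ := main cycSteps cycMask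
    (fun p hp => ⟨⟨p, hlt p (hacc cycData (fun _ hq => hq) p hp)⟩, rfl, hmem _ (hacc cycData (fun _ hq => hq) p hp)⟩)
    c (by
      rw [Nat.eq_of_beq_eq_true close_ok, Nat.testBit_two_pow_sub_one]
      exact decide_eq_true c.2)
  rw [map_one, Equiv.Perm.one_apply]
  exact (Fin.ext hr : r = c) ▸ hfr

theorem cent_y_fix {h : G} (hy : h * y = y * h) : act h origin = origin := by
  refine y_fix ?_
  have h0 : act y origin = origin := Fin.ext (by rw [← y_tab]; decide +kernel)
  rw [← Equiv.Perm.mul_apply, ← map_mul, ← hy, map_mul, Equiv.Perm.mul_apply, h0]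

theorem card_cent_y : Nat.card (Subgroup.centralizer ({y} : Set G)) ≤ 22 := by
  classical
  have := finite_fi22
  let S : Finset ℕ := (Finset.range 3510).filter fun r => FiHat3510.mask1.testBit r = true ∧ survB r = true
  have hS : S.card ≤ 22 := by
    have h := surv_count
    rw [Nat.ble_eq, List.countP_eq_length_filter] at h
    refine le_trans (le_of_eq ?_) h
    rw [← List.toFinset_card_of_nodup (List.nodup_range.filter _)]
    refine congrArg Finset.card (Finset.ext fun r => ?_)
    simp only [S, List.mem_toFinset, List.mem_filter, List.mem_range, Finset.mem_filter, Finset.mem_range,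
      Bool.and_eq_true]
  have hmaps : ∀ h : Subgroup.centralizer ({y} : Set G), ((act (h : G) one' : Row) : ℕ) ∈ S := by
    rintro ⟨h, hh⟩
    have hy : h * y = y * h := Subgroup.mem_centralizer_singleton_iff.1 hh
    have hK : h ∈ K := stab_eq.1 (cent_y_fix hy)
    have hm : FiHat3510.mask1.testBit (act h one' : Row) = true := (Fi22U6.orbit1_iff _).2 ⟨h, hK, rfl⟩
    set r := act h one'
    have hit : ∀ k, (⟨it k r, by rw [it_eq]; exact Fin.isLt _⟩ : Row) = act h (act (y ^ k) one') := fun k => by
      refine Fin.ext ?_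
      show it k r = _
      rw [it_eq, ← Equiv.Perm.mul_apply, ← map_mul, ← (Commute.pow_right (show Commute h y from hy) k).eq,
        map_mul, Equiv.Perm.mul_apply]
    have hpow : ∀ k, (⟨it k one', by rw [it_eq]; exact Fin.isLt _⟩ : Row) = act (y ^ k) one' := fun k =>
      Fin.ext (it_eq k one')
    have e1 : ∀ k, comB r (it k r) = comB 1 (it k 1) := fun k => by
      rw [Bool.eq_iff_iff]
      refine (comB_iff r ⟨it k r, by rw [it_eq]; exact Fin.isLt _⟩).trans ?_
      rw [hit, com_act, ← hpow]
      exact (comB_iff one' ⟨it k one', by rw [it_eq]; exact Fin.isLt _⟩).symm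
    have e2 : comB (FiHat3510.data.trace (it 5 r) (pal r)) (it 6 r) =
        comB (FiHat3510.data.trace (it 5 1) (pal 1)) (it 6 1) := by
      have hu : ∀ s : Row, FiHat3510.data.trace (it 5 s) (pal s) = ((act (T s) (act (y ^ 5) s) : Row) : ℕ) :=
        fun s => by rw [it_eq, trace_pal]
      have hu' : act (T r) (act (y ^ 5) r) = act h (act (T one') (act (y ^ 5) one')) := by
        have e5 : act (y ^ 5) r = act h (act (y ^ 5) one') := by
          refine Eq.trans ?_ (hit 5)
          exact Fin.ext (it_eq 5 r).symm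
        rw [T_equiv, e5, map_mul, map_mul, Equiv.Perm.mul_apply, Equiv.Perm.mul_apply, map_inv,
          Equiv.Perm.coe_inv, Equiv.symm_apply_apply]
      rw [Bool.eq_iff_iff, hu r, show FiHat3510.data.trace (it 5 1) (pal 1) =
        ((act (T one') (act (y ^ 5) one') : Row) : ℕ) from hu one']
      refine (comB_iff _ ⟨it 6 r, by rw [it_eq]; exact Fin.isLt _⟩).trans ?_
      rw [hit 6, hu', com_act, ← hpow 6]
      exact (comB_iff _ ⟨it 6 one', by rw [it_eq]; exact Fin.isLt _⟩).symm
    have hsurv : survB r = true := by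
      have h := surv_one
      unfold survB at h ⊢
      rwa [e1, e1, e2]
    simp only [S, Finset.mem_filter, Finset.mem_range]
    exact ⟨r.2, hm, hsurv⟩
  refine le_trans (Nat.card_le_card_of_injective (fun h => (⟨_, hmaps h⟩ : S)) ?_) (by simpa using hS)
  rintro ⟨h, hh⟩ ⟨h', hh'⟩ e
  have e' : act h one' = act h' one' := Fin.ext (congrArg Subtype.val e)
  have hy : h * y = y * h := Subgroup.mem_centralizer_singleton_iff.1 hh
  have hy' : h' * y = y * h' := Subgroup.mem_centralizer_singleton_iff.1 hh'
  have h1 : h'⁻¹ * h = 1 := close_fix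
    (((show Commute h' y from hy').inv_left).mul_left (show Commute h y from hy)).eq
    (by rw [map_mul, Equiv.Perm.mul_apply, e', map_inv, Equiv.Perm.coe_inv, Equiv.symm_apply_apply])
  exact Subtype.ext (inv_mul_eq_one.1 h1).symm

theorem a_y : a 0 * y = y * a 0 := by
  have hyK : y ∈ K := stab_eq.1 (cent_y_fix rfl)
  exact (center_a y hyK).symm

theorem involution_cent_y {x : G} (hx : x * x = 1) (hx1 : x ≠ 1) (hxy : x * y = y * x) : x = a 0 := by
  have := finite_fi22
  have hy11 := orderOf_y
  have ha2 : orderOf (a 0) = 2 :=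
    orderOf_eq_prime (by rw [pow_two, a_sq]) Fi22U6.a_ne_one
  let f : Fin 11 × Fin 2 → Subgroup.centralizer ({y} : Set G) := fun p =>
    ⟨y ^ (p.1 : ℕ) * a 0 ^ (p.2 : ℕ), Subgroup.mem_centralizer_singleton_iff.2
      (((Commute.refl y).pow_left _).mul_left ((show Commute (a 0) y from a_y).pow_left _)).eq⟩
  have hc : Commute y (a 0) := (show Commute (a 0) y from a_y).symm
  have hf : Function.Injective f := by
    rintro ⟨i, j⟩ ⟨i', j'⟩ e
    have e' : y ^ (i : ℕ) * a 0 ^ (j : ℕ) = y ^ (i' : ℕ) * a 0 ^ (j' : ℕ) := congrArg Subtype.val e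
    have sq : ∀ (i j : ℕ), (y ^ i * a 0 ^ j) ^ 2 = y ^ (2 * i) := fun i j => by
      rw [(hc.pow_pow i j).mul_pow, ← pow_mul, ← pow_mul, mul_comm j 2, pow_mul (a 0),
        pow_two (a 0), a_sq, one_pow, mul_one, mul_comm]
    have e2 := congrArg (fun z => z ^ 2) e'
    simp only [sq] at e2
    rw [pow_eq_pow_iff_modEq, hy11, Nat.ModEq] at e2
    have hi : i = i' := Fin.ext (by omega)
    subst hi
    have e3 := mul_left_cancel e'
    rw [pow_eq_pow_iff_modEq, ha2, Nat.ModEq] at e3
    exact Prod.ext rfl (Fin.ext (show (j : ℕ) = (j' : ℕ) by omega))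
  have hb := (Nat.bijective_iff_injective_and_card f).2 ⟨hf, le_antisymm
    (Nat.card_le_card_of_injective f hf) (card_cent_y.trans (by simp))⟩
  obtain ⟨⟨i, j⟩, e⟩ := hb.2 ⟨x, Subgroup.mem_centralizer_singleton_iff.2 hxy⟩
  have e' : y ^ (i : ℕ) * a 0 ^ (j : ℕ) = x := congrArg Subtype.val e
  have e2 := congrArg (fun z => z ^ 2) e'
  simp only [(hc.pow_pow (i : ℕ) (j : ℕ)).mul_pow, pow_two x, hx, ← pow_mul, mul_comm (j : ℕ) 2] at e2
  rw [pow_mul (a 0), pow_two (a 0), a_sq, one_pow, mul_one, ← pow_zero y, pow_eq_pow_iff_modEq, hy11, Nat.ModEq] at e2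
  have hi : (i : ℕ) = 0 := by omega
  rw [hi, pow_zero, one_mul] at e'
  rcases (show (j : ℕ) = 0 ∨ (j : ℕ) = 1 by omega) with h | h
  · rw [h, pow_zero] at e'; exact absurd e'.symm hx1
  · rw [h, pow_one] at e'; exact e'.symm

theorem image_a (α : G ≃* G) : ∃ r : Row, α (a 0) = T r := by
  have := finite_fi22
  have : Fact (Nat.Prime 11) := ⟨by norm_num⟩
  have hcard := card_and_faithful.1
  have hc : ∀ g : G, orderOf g = 11 → Nat.card (Subgroup.zpowers g) = 11 ^ (Nat.card G).factorization 11 := by
    intro g hg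
    rw [Nat.card_zpowers, hg, hcard]
    have : (64561751654400 : ℕ).factorization 11 = 1 := by
      rw [show (64561751654400 : ℕ) = 11 * 5869250150400 by norm_num, Nat.factorization_mul (by norm_num) (by norm_num),
        Finsupp.add_apply, Nat.Prime.factorization_self (by norm_num), Nat.factorization_eq_zero_of_not_dvd (by norm_num)]
    rw [this, pow_one]
  let P : Sylow 11 G := Sylow.ofCard (Subgroup.zpowers y) (hc y orderOf_y)
  let Q : Sylow 11 G := Sylow.ofCard (Subgroup.zpowers (α y))
    (hc _ (by rw [MulEquiv.orderOf_eq, orderOf_y]))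
  obtain ⟨g, hg⟩ := MulAction.exists_smul_eq G Q P
  have hmem : g * α y * g⁻¹ ∈ Subgroup.zpowers y := by
    have h := Subgroup.smul_mem_pointwise_smul (α y) (MulAut.conj g) (Q : Subgroup G) (Subgroup.mem_zpowers _)
    have e : (P : Subgroup G) = MulAut.conj g • (Q : Subgroup G) := by rw [← hg]; rfl
    rw [← e] at h
    exact h
  have hfull : y ∈ Subgroup.zpowers (g * α y * g⁻¹) := by
    have h : (⟨y, Subgroup.mem_zpowers y⟩ : Subgroup.zpowers y) ∈
        Subgroup.zpowers (⟨g * α y * g⁻¹, hmem⟩ : Subgroup.zpowers y) := by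
      refine mem_zpowers_of_prime_card (p := 11) (by rw [Nat.card_zpowers, orderOf_y]) ?_
      intro e
      have e' := congrArg Subtype.val e
      rw [OneMemClass.coe_one, conj_eq_one_iff, map_eq_one_iff α α.injective] at e'
      have := orderOf_y
      rw [e', orderOf_one] at this
      omega
    obtain ⟨k, hk⟩ := Subgroup.mem_zpowers_iff.1 h
    exact Subgroup.mem_zpowers_iff.2 ⟨k, congrArg Subtype.val hk⟩
  have hyK : y ∈ K := stab_eq.1 (cent_y_fix rfl)
  have hcomm : Commute (g * α (a 0) * g⁻¹) y := by
    have h0 : Commute (g * α (a 0) * g⁻¹) (g * α y * g⁻¹) := by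
      show _ = _
      calc g * α (a 0) * g⁻¹ * (g * α y * g⁻¹) = g * α (a 0 * y) * g⁻¹ := by rw [map_mul]; group
        _ = _ := by rw [a_y, map_mul]; group
    obtain ⟨k, hk⟩ := Subgroup.mem_zpowers_iff.1 hfull
    rw [← hk]
    exact h0.zpow_right k
  have hx := involution_cent_y (x := g * α (a 0) * g⁻¹)
    (by rw [show g * α (a 0) * g⁻¹ * (g * α (a 0) * g⁻¹) = g * α (a 0 * a 0) * g⁻¹ by rw [map_mul]; group, a_sq,
      map_one, mul_one, mul_inv_cancel])
    (fun e => Fi22U6.a_ne_one ((map_eq_one_iff α α.injective).1 (conj_eq_one_iff.1 e))) hcomm.eq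
  refine ⟨act g⁻¹ origin, ?_⟩
  rw [T_act]
  calc α (a 0) = g⁻¹ * (g * α (a 0) * g⁻¹) * g := by group
    _ = _ := by rw [hx]; group

theorem conj_letter {x : ℕ} (hx : x < 9) : ∃ h : G, a x = h * a 0 * h⁻¹ := by
  have step : ∀ p q, (relWords Spor.Fi22.edges Spor.Fi22.extra gens).contains [p, q, p, q, p, q] = true →
      (∃ h : G, a p = h * a 0 * h⁻¹) → ∃ h : G, a q = h * a 0 * h⁻¹ := by
    rintro p q hr ⟨h, hh⟩
    have e := relWord_one Fi22Group.nodes (List.contains_iff_mem.1 hr)
    simp only [List.map_cons, List.map_nil, List.prod_cons, List.prod_nil, mul_one] at e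
    refine ⟨a p * a q * h, ?_⟩
    have h3 := congrArg (fun z => z * a q) e
    simp only [one_mul, mul_assoc, a_sq, mul_one] at h3
    calc a q = a p * (a q * (a p * (a q * a p))) := h3.symm
      _ = a p * a q * a p * (a p * a q)⁻¹ := by
        rw [mul_inv_rev, inv_eq_of_mul_eq_one_right (a_sq p), inv_eq_of_mul_eq_one_right (a_sq q)]
        simp only [mul_assoc]
      _ = _ := by rw [hh]; group
  have e0 : ∃ h : G, a 0 = h * a 0 * h⁻¹ := ⟨1, by group⟩
  have e1 := step 0 1 (by decide +kernel) e0
  have e2 := step 1 2 (by decide +kernel) e1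
  have e3 := step 2 3 (by decide +kernel) e2
  have e4 := step 3 4 (by decide +kernel) e3
  have e7 := step 3 7 (by decide +kernel) e3
  have e5 := step 4 5 (by decide +kernel) e4
  have e6 := step 5 6 (by decide +kernel) e5
  have e8 := step 7 8 (by decide +kernel) e7
  interval_cases x <;> assumption

/-- A tuple of rows in the pattern of the diagram. -/
def Valid (t : ℕ → Row) : Prop :=
  ∀ j k, j < k → k < 9 → t k ≠ t j ∧ (com (t j) (t k) ↔ adjB j k = false)

theorem Valid.move {t : ℕ → Row} (h : Valid t) (g : G) : Valid (fun j => act g (t j)) := fun j k hjk hk =>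
  ⟨fun e => (h j k hjk hk).1 ((act g).injective e), (com_act g).trans (h j k hjk hk).2⟩

theorem classify : ∀ i, i < 22 → ∀ t : ℕ → Row, Valid t →
    (∀ j < (nodeData.getD i ([], [], [])).1.length, (t j : ℕ) = (nodeData.getD i ([], [], [])).1.getD j 0) →
    ∃ g : G, ∃ f ∈ finalData, ∀ j < 9, ((act g (t j) : Row) : ℕ) = f.getD j 0 := by
  intro i
  induction i using Nat.strong_induction_on with
  | _ i ih =>
    intro hi t ht hpre
    have h := List.all_eq_true.1 nodes_ok i (List.mem_range.2 hi)
    unfold nodeOK at h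
    generalize hn : nodeData.getD i ([], [], []) = e at h hpre
    obtain ⟨pre, ws, kids⟩ := e
    simp only [Bool.and_eq_true, List.all_eq_true, decide_eq_true_eq] at h
    obtain ⟨⟨⟨hlen, hfix⟩, hkids⟩, hcand⟩ := h
    have hlen' : pre.length < 9 := by simpa using hlen
    set s := t pre.length
    have hv : validB pre s = true := by
      refine List.all_eq_true.2 fun j hj => ?_
      rw [List.mem_range] at hj
      obtain ⟨hne, hiff⟩ := ht j pre.length hj hlen'
      rw [← hpre j hj, Bool.and_eq_true, Bool.not_eq_true']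
      refine ⟨Bool.eq_false_iff.2 fun e => hne (Fin.ext (Nat.eq_of_beq_eq_true e)), ?_⟩
      rw [beq_iff_eq, Bool.eq_iff_iff, comB_iff, hiff, Bool.not_eq_true']
    have hs := hcand s (List.mem_range.2 s.2)
    rw [hv, Bool.not_true, Bool.false_or, List.any_eq_true] at hs
    obtain ⟨c, hc, hcs⟩ := hs
    have hk := hkids c hc
    rw [Nat.beq_eq, Nat.blt_eq] at hk
    obtain ⟨hb, hm, hchild⟩ := hk
    rw [← hm] at hcs
    have hfix' : ∀ p ∈ pre, ∀ w ∈ ws, FiHat3510.data.trace p w = p := fun p hp w hw =>
      Nat.eq_of_beq_eq_true ((hfix p hp).2 w hw)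
    set b : Row := ⟨c.1, hb⟩
    obtain ⟨π, hπ, hπs⟩ := OrbitChain.exists_of_mask FiHat3510.valid act (a := a) (toPerm_gen FiHat3510.valid fits)
      hfix' b c.2.2 (Nat.shiftLeft 1 c.1) (by
        intro p hp
        change (1 <<< c.1 : ℕ).testBit p = true at hp
        rw [Nat.one_shiftLeft, Nat.testBit_two_pow, decide_eq_true_eq] at hp
        exact ⟨1, one_mem _, hp⟩) s hcs
    obtain ⟨⟨h, rfl⟩, hfixh⟩ := hπ
    have hπs' : act h b = s := Fin.ext hπs
    have hlist : ∀ j < pre.length + 1, ((act h⁻¹ (t j) : Row) : ℕ) = (pre ++ [c.1]).getD j 0 := by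
      intro j hj
      rcases Nat.lt_succ_iff_lt_or_eq.1 hj with hj | rfl
      · have e : act h (t j) = t j := hfixh (t j) (by
          rw [hpre j hj, List.getD_eq_getElem _ _ hj]; exact List.getElem_mem hj)
        rw [map_inv, Equiv.Perm.coe_inv, ← e, Equiv.symm_apply_apply, hpre j hj, List.getD_append _ _ _ _ hj]
      · rw [map_inv, Equiv.Perm.coe_inv, show t pre.length = act h b from hπs'.symm, Equiv.symm_apply_apply]
        simp [b]
    rw [Bool.or_eq_true, List.any_eq_true, List.contains_iff_mem] at hchild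
    rcases hchild with hfin | ⟨j, hj, hje⟩
    · refine ⟨h⁻¹, _, hfin, fun j hj => hlist j ?_⟩
      have := List.all_eq_true.1 node_root.2.2.2 _ hfin
      rw [Nat.beq_eq, List.length_append, List.length_singleton] at this
      omega
    · rw [List.mem_range] at hj
      rw [beq_iff_eq] at hje
      obtain ⟨g, f, hf, hg⟩ := ih j hj (by omega) (fun k => act h⁻¹ (t k)) (ht.move _) (by
        rw [hje]
        intro k hk
        rw [List.length_append, List.length_singleton] at hk
        exact hlist k hk)
      exact ⟨g * h⁻¹, f, hf, fun k hk => by rw [map_mul, Equiv.Perm.mul_apply]; exact hg k hk⟩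

theorem exists_class (α : G ≃* G) : ∃ i < 2, ∃ g : G, ∀ x < 9, ∀ r : Row, (r : ℕ) = (finalData.getD i []).getD x 0 →
    g * α (a x) * g⁻¹ = T r := by
  classical
  obtain ⟨r₀, hr₀⟩ := image_a α
  have hD : ∀ x < 9, ∃ r, α (a x) = T r := fun x hx => by
    obtain ⟨h, hh⟩ := conj_letter hx
    refine ⟨act (α h) r₀, ?_⟩
    rw [T_equiv, ← hr₀, hh, map_mul, map_mul, map_inv]
  choose r hr using hD
  let t : ℕ → Row := fun x => if hx : x < 9 then r x hx else origin
  have ht : ∀ x < 9, T (t x) = α (a x) := fun x hx => by simp only [t, dif_pos hx, hr x hx]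
  have hvalid : Valid t := by
    intro j k hjk hk
    have hj : j < 9 := by omega
    have hne : a j ≠ a k := fun e => by
      have h := List.all_eq_true.1 (List.all_eq_true.1 tab_ne j (List.mem_range.2 hj)) k (List.mem_range.2 hk)
      rw [Bool.or_eq_true, List.any_eq_true] at h
      rcases h with h | ⟨c, hc, h⟩
      · exact absurd (Nat.eq_of_beq_eq_true h) (by omega)
      · have h1 := trace_act [j] ⟨c, List.mem_range.1 hc⟩
        have h2 := trace_act [k] ⟨c, List.mem_range.1 hc⟩
        rw [List.reverse_singleton, List.map_cons, List.map_nil, List.prod_cons, List.prod_nil, mul_one] at h1 h2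
        rw [e, ← h2] at h1
        change FiHat3510.data.tab c j = FiHat3510.data.tab c k at h1
        simp [h1] at h
    refine ⟨fun e => hne (α.injective (by rw [← ht j hj, ← ht k hk, e])), ?_⟩
    rw [com_iff, ht j hj, ht k hk, ← map_mul, ← map_mul, α.injective.eq_iff]
    have hall := List.all_eq_true.1 (show ((List.range 9).all fun j => (List.range 9).all fun k => !Nat.blt j k ||
        (relWords Spor.Fi22.edges Spor.Fi22.extra gens).contains
          (if adjB j k then [j, k, j, k, j, k] else [j, k, j, k])) = true by decide +kernel) j (List.mem_range.2 hj)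
    have hw := List.all_eq_true.1 hall k (List.mem_range.2 hk)
    rw [show Nat.blt j k = true by rw [Nat.blt_eq]; exact hjk, Bool.not_true, Bool.false_or] at hw
    have e := relWord_one Fi22Group.nodes (List.contains_iff_mem.1 hw)
    cases hb : adjB j k
    · rw [hb, if_neg (by simp)] at e
      simp only [List.map_cons, List.map_nil, List.prod_cons, List.prod_nil, mul_one] at e
      refine ⟨fun _ => rfl, fun _ => ?_⟩
      have e2 := congrArg (fun z => z * (a k * a j)) e
      simp only [one_mul, mul_assoc, a_sq, mul_one, ← mul_assoc (a k) (a k), ← mul_assoc (a j) (a j)] at e2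
      exact e2
    · rw [hb, if_pos rfl] at e
      simp only [List.map_cons, List.map_nil, List.prod_cons, List.prod_nil, mul_one] at e
      refine ⟨fun hc => absurd ?_ hne, fun h => absurd h (by simp)⟩
      have h2 : a j * (a k * (a j * a k)) = 1 := by
        rw [← mul_assoc (a k), ← hc]
        simp only [mul_assoc]
        rw [a_sq, mul_one, a_sq]
      have h3 : a j * a k = 1 := by
        have := e
        rw [show a j * (a k * (a j * (a k * (a j * a k)))) = (a j * (a k * (a j * a k))) * (a j * a k) by
          simp only [mul_assoc], h2, one_mul] at this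
        exact this
      calc a j = a j * (a k * a k) := by rw [a_sq, mul_one]
        _ = a k := by rw [← mul_assoc, h3, one_mul]
  have hroot := node_root
  obtain ⟨g, f, hf, hg⟩ := classify 21 (by omega) t hvalid (by rw [hroot.2.1]; intro j hj; simp at hj)
  obtain ⟨i, hi, rfl⟩ := List.getElem_of_mem hf
  refine ⟨i, hroot.2.2.1 ▸ hi, g, fun x hx s hs => ?_⟩
  rw [List.getD_eq_getElem _ _ hi] at hs
  rw [← ht x hx, ← T_equiv]
  congr 1
  exact Fin.ext ((hg x hx).trans hs.symm)

theorem final_lt : ∀ i < 2, ∀ x < 9, (finalData.getD i []).getD x 0 < 3510 := by decide +kernel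

theorem hom_ext {f f' : G →* G} (h : ∀ x < 9, f (a x) = f' (a x)) : f = f' := by
  refine MonoidHom.eq_of_eqOn_dense (gen_generates fits) ?_
  rintro _ ⟨x, rfl⟩
  by_cases hx : x < 9
  · exact h x hx
  · rw [gen_big fits (show FiHat3510.data.ng ≤ x from by
      have : FiHat3510.data.ng = 9 := rfl
      omega), map_one, map_one]

theorem card_out_le : Nat.card (Cfsg.Out G) ≤ 2 := by
  classical
  choose i hi g hg using exists_class
  have key : ∀ α β : G ≃* G, i α = i β → (β : MulAut G)⁻¹ * α ∈ Cfsg.Inn G := by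
    intro α β e
    have hconj : ∀ x < 9, g α * α (a x) * (g α)⁻¹ = g β * β (a x) * (g β)⁻¹ := fun x hx => by
      rw [hg α x hx ⟨_, final_lt _ (hi α) x hx⟩ rfl,
        hg β x hx ⟨_, final_lt _ (hi α) x hx⟩ (congrArg (fun k => (finalData.getD k []).getD x 0) e)]
    refine ⟨β.symm ((g α)⁻¹ * g β), ?_⟩
    have hh := hom_ext (f := ((β : MulAut G)⁻¹ * α : MulAut G).toMonoidHom)
      (f' := (MulAut.conj (β.symm ((g α)⁻¹ * g β))).toMonoidHom) (fun x hx => by
        show β.symm (α (a x)) = _
        rw [MulEquiv.coe_toMonoidHom, MulAut.conj_apply]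
        refine β.injective ?_
        rw [map_mul, map_mul, map_inv, β.apply_symm_apply, β.apply_symm_apply]
        calc α (a x) = (g α)⁻¹ * (g α * α (a x) * (g α)⁻¹) * g α := by group
          _ = _ := by rw [hconj x hx]; group)
    exact MulEquiv.toMonoidHom_injective hh.symm
  refine le_trans (Nat.card_le_card_of_injective
    (fun q : Cfsg.Out G => (⟨i (Quotient.out q : MulAut G), hi _⟩ : Fin 2)) ?_) (by simp)
  intro p q e
  rw [← QuotientGroup.out_eq' p, ← QuotientGroup.out_eq' q]
  exact (QuotientGroup.eq.2 (key _ _ (congrArg Fin.val e).symm))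

theorem exists_sigma : ∃ σ : G ≃* G, ∀ x < 9, σ (a x) = a (rv x) := by
  have hw : ∀ w ∈ relWords Spor.Fi22.edges Spor.Fi22.extra gens, (w.map fun x => a (rv x)).prod = 1 := by
    intro w hw
    have h := List.all_eq_true.1 sig_rels w hw
    rw [show (w.map fun x => a (rv x)) = ((w.map rv).map a) by rw [List.map_map]; rfl]
    rw [Bool.or_eq_true, List.contains_iff_mem] at h
    rcases h with h | h
    · exact relWord_one Fi22Group.nodes h
    · exact Fi22U6.prod_eq_one_of_trace fun c hc => Nat.eq_of_beq_eq_true (List.all_eq_true.1 h c (List.mem_range.2 hc))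
  let f : G →* G := PresentedGroup.toGroup (f := fun z => a (rv (gens.idxOf z))) (fun r hr => by
    rw [hom_eq_prod gens _ (fun x => a (rv x)) (fun z => FreeGroup.lift_apply_of) (fun x => a_sq _)]
    refine hw _ ?_
    rw [relWords, List.mem_append]
    rcases hr with ⟨x, hx, z, hz, rfl⟩ | hr
    · exact Or.inl (List.mem_flatMap.2 ⟨x, hx, List.mem_map.2 ⟨z, hz, rfl⟩⟩)
    · exact Or.inr (List.mem_map.2 ⟨r, hr, rfl⟩))
  have hf : ∀ x < 9, f (a x) = a (rv x) := fun x hx => by
    have hx' : x < gens.length := by simpa [gens] using hx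
    show f (gen _ _ gens x) = _
    rw [gen, List.getElem?_eq_getElem hx', Option.elim_some]
    rw [PresentedGroup.toGroup.of, fits.nodup.idxOf_getElem _ hx']
  have hff : f.comp f = MonoidHom.id G := hom_ext fun x hx => by
    rw [MonoidHom.comp_apply, hf x hx, hf _ (by unfold rv; split_ifs <;> omega), MonoidHom.id_apply]
    congr 1
    unfold rv; split_ifs <;> omega
  exact ⟨MonoidHom.toMulEquiv f f hff hff, hf⟩

theorem sigma_not_inner {σ : G ≃* G} (hσ : ∀ x < 9, σ (a x) = a (rv x)) : (σ : MulAut G) ∉ Cfsg.Inn G := by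
  classical
  rintro ⟨g, hg⟩
  have hc : ∀ z, σ z = g * z * g⁻¹ := fun z => by rw [← MulAut.conj_apply, hg]
  have h6 : T ⟨173, by decide⟩ = a 6 := by
    refine card_and_faithful.2.1 (Equiv.ext fun c => Fin.ext ?_)
    rw [← trace_pal, Nat.eq_of_beq_eq_true (List.all_eq_true.1 pal_six c (List.mem_range.2 c.2))]
    have h := trace_act [6] c
    rw [List.reverse_singleton, List.map_cons, List.map_nil, List.prod_cons, List.prod_nil, mul_one] at h
    exact h
  have h0 : act g origin = ⟨173, by decide⟩ := T_inj (by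
    rw [T_act, h6, ← hc, hσ 0 (by omega)]; rfl)
  have hpi : ∀ r : Row, piTree.get r = ((act g r : Row) : ℕ) := by
    intro r
    have h1 := (Bool.and_eq_true_iff.1 (List.all_eq_true.1 pi_ok r (List.mem_range.2 r.2))).1
    have hw : ∀ w : List ℕ, σ (w.map a).prod = ((w.map rv).map a).prod := by
      intro w
      induction w with
      | nil => simp
      | cons x w ih =>
        simp only [List.map_cons, List.prod_cons, map_mul, ih]
        congr 1
        by_cases hx : x < 9
        · exact hσ x hx
        · have : ∀ z, 9 ≤ z → a z = 1 := fun z hz => gen_big fits (show FiHat3510.data.ng ≤ z from hz)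
          rw [this x (by omega), map_one, this _ (by unfold rv; split_ifs <;> omega)]
    rw [← Nat.eq_of_beq_eq_true h1]
    have ht := trace_act ((path r).map rv) ⟨173, by decide⟩
    rw [← List.map_reverse, ← hw, hc, ← h0, map_mul, map_mul, Equiv.Perm.mul_apply, Equiv.Perm.mul_apply,
      map_inv, Equiv.Perm.coe_inv, Equiv.symm_apply_apply, ← gr, gr_origin] at ht
    rw [h0] at ht
    exact ht
  set π := act g
  have hinv : π ^ 2 = 1 := Equiv.ext fun r => Fin.ext (by
    rw [pow_two, Equiv.Perm.mul_apply, ← hpi, ← hpi,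
      Nat.eq_of_beq_eq_true (Bool.and_eq_true_iff.1 (List.all_eq_true.1 pi_ok r (List.mem_range.2 r.2))).2]
    rfl)
  have hfix : Fintype.card (Function.fixedPoints π) = 360 := by
    rw [← pi_fixed, Fintype.card_congr (Equiv.subtypeEquivRight (fun r => Iff.rfl) :
      Function.fixedPoints π ≃ {r : Row // π r = r}), Fintype.card_subtype, List.countP_eq_length_filter,
      ← List.toFinset_card_of_nodup (List.nodup_range.filter _), ← Finset.card_map Fin.valEmbedding]
    congr 1
    ext c
    simp only [List.mem_toFinset, List.mem_filter, List.mem_range, Finset.mem_map, Finset.mem_filter,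
      Finset.mem_univ, true_and, Fin.valEmbedding_apply, Nat.beq_eq]
    constructor
    · rintro ⟨r, hr, rfl⟩
      exact ⟨r.2, by rw [hpi, hr]⟩
    · rintro ⟨hc', h⟩
      refine ⟨⟨c, hc'⟩, Fin.ext ?_, rfl⟩
      rw [← hpi]; exact h
  have hodd : Equiv.Perm.sign π = -1 := by
    rw [Equiv.Perm.sign_of_pow_two_eq_one hinv, hfix, Fintype.card_fin, show FiHat3510.data.n = 3510 from rfl]
    decide
  have heven : Equiv.Perm.sign π = 1 := by
    haveI : IsSimpleGroup G := Fi22Group.isSimple
    have := finite_fi22
    set χ := (Equiv.Perm.sign).comp act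
    rcases (inferInstance : χ.ker.Normal).eq_bot_or_eq_top with h | h
    · exfalso
      have hinj : Function.Injective χ := (MonoidHom.ker_eq_bot_iff χ).1 h
      have := Nat.card_le_card_of_injective χ hinj
      rw [card_and_faithful.1, Nat.card_eq_fintype_card, Fintype.card_units_int] at this
      omega
    · have hm : g ∈ χ.ker := by rw [h]; exact Subgroup.mem_top g
      exact hm
  rw [hodd] at heven
  exact absurd heven (by decide)

/-- The outer automorphism group of Fi22 has order 2. -/
theorem card_out : Nat.card (Cfsg.Out G) = 2 := by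
  have := finite_fi22
  obtain ⟨σ, hσ⟩ := exists_sigma
  refine le_antisymm card_out_le ?_
  haveI : Finite (MulAut G) := Finite.of_injective (fun α : MulAut G => (α : G → G)) DFunLike.coe_injective
  haveI : Nontrivial (Cfsg.Out G) := ⟨⟨(σ : MulAut G), 1, fun e => sigma_not_inner hσ ((QuotientGroup.eq_one_iff _).1 e)⟩⟩
  exact Finite.one_lt_card

end CfsgLib.Recog.SporBound.Fi22Aut
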