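import Cfsg.Agent.Lib.Recog.SporBound.Check

set_option autoImplicit false
set_option maxRecDepth 20000

/-! Words to the rows (owner: helper6). -/

namespace CfsgLib.Recog.SporBound.Fi22Aut

def pathTree0 : SporBound.Q (List ℕ) := (.node (.node (.node (.node (.leaf []) (.leaf [1, 2, 3, 4, 5, 6, 7, 3, 2, 1, 4, 8, 7, 3, 2, 1, 4, 3, 7, 8]) (.leaf [1, 2, 3, 4, 5, 6, 7, 3, 2, 1, 4, 3, 5, 7, 8, 7, 3, 2, 1, 4, 3, 2, 5, 4, 3]) (.leaf [1, 2, 3, 4, 5, 6, 7, 3, 2, 1, 4, 3, 5, 8, 7, 3, 2, 1, 4, 3, 2, 5, 4, 7, 3, 2, 1, 4, 5])) (.node (.leaf [1, 0, 2, 3, 4, 5, 6, 7, 3, 2, 4, 5, 8, 7]) (.leaf [1, 2, 3, 4, 5, 6, 7, 3, 2, 4, 3, 5, 4, 7, 3, 8, 7, 3, 4, 5,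 6]) (.leaf [1, 2, 3, 4, 5, 6, 7, 3, 2, 1, 4, 3, 5, 7, 8, 7, 3, 2, 1, 4, 3, 2, 5, 6, 7, 8]) (.leaf [1, 2, 3, 4, 5, 6, 7, 3, 2, 1, 4, 3, 2, 5, 7, 3, 8, 7, 3, 2, 1, 4, 3, 2, 7, 3, 4, 5, 8, 7, 3])) (.node (.leaf [1, 0, 2, 3, 4, 5, 6, 7, 3, 2, 4, 3, 5, 8, 7, 3, 4]) (.leaf [1, 2, 3, 4, 5, 6, 7, 3, 2, 1, 4, 3, 2, 5, 4, 8, 7, 3, 2, 1, 4, 5, 6]) (.leaf [1, 2, 3, 4, 5, 6, 7, 3, 2, 1, 4, 3, 5, 7, 8, 7, 3, 2, 1, 4, 3, 2, 5, 4, 7, 3, 8]) (.leaf [])) (.node (.leaf [1, 2, 3, 4, 5, 6, 7, 3, 2, 4, 3, 8, 7, 3, 2, 1, 0, 4]) (.leaf [1, 2, 3, 4, 5, 6, 7, 3, 2, 1, 4, 3, 5, 4, 8, 7, 3, 2, 1, 0, 4, 3, 2, 7]) (.leaf [1, 2, 3, 4, 5, 6, 7, 3, 2, 1, 4, 3, 5, 7, 8,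 7, 3, 2, 1, 4, 3, 2, 5, 4, 7, 3, 4, 8]) (.leaf []))) (.node (.node (.leaf [1, 2, 3, 4, 7, 3, 2, 8]) (.leaf [1, 2, 3, 4, 5, 6, 7, 3, 2, 1, 4, 8, 7, 3, 2, 1, 4, 3, 5, 6]) (.leaf [1, 2, 3, 4, 5, 6, 7, 3, 2, 1, 4, 5, 8, 7, 3, 2, 4, 3, 5, 4, 7, 3, 2, 1, 8]) (.leaf [1, 2, 3, 4, 5, 6, 7, 3, 2, 1, 4, 3, 2, 5, 4, 8, 7, 3, 2, 1, 0, 4, 3, 5, 4, 7, 3, 2, 8, 7])) (.node (.leaf [1, 0, 2, 3, 4, 5, 7, 3, 2, 4, 3, 7, 8, 7, 3]) (.leaf [1, 0, 2, 3, 4, 5, 6, 7, 3, 2, 4, 5, 8, 7, 3, 2, 1, 0, 4, 3, 5, 6]) (.leaf [1, 2, 3, 4, 5, 6, 7, 3, 2, 1, 4, 3, 2, 5, 4, 3, 8, 7, 3, 2, 1, 0, 4, 3, 5, 4, 7]) (.leaf [1, 2, 3, 4, 5, 6, 7, 3, 2, 1, 4, 3, 5, 8, 7, 3, 2, 1, 4,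 3, 2, 5, 4, 3, 7, 3, 2, 4, 5, 8, 7])) (.node (.leaf [1, 2, 3, 4, 5, 7, 3, 2, 1, 4, 3, 8, 7, 3, 2, 4, 5]) (.leaf [1, 2, 3, 4, 5, 6, 7, 3, 2, 1, 4, 3, 5, 4, 8, 7, 3, 2, 1, 4, 3, 7, 8]) (.leaf [1, 2, 3, 4, 5, 6, 7, 3, 2, 1, 4, 3, 2, 5, 4, 3, 8, 7, 3, 2, 4, 3, 5, 4, 6, 7, 3, 2]) (.leaf [])) (.node (.leaf [1, 2, 3, 4, 5, 6, 7, 3, 2, 1, 4, 3, 2, 5, 7, 8, 7, 3, 2]) (.leaf [1, 2, 3, 4, 5, 6, 7, 3, 2, 1, 4, 3, 8, 7, 3, 2, 1, 4, 3, 2, 5, 4, 3, 7]) (.leaf [1, 2, 3, 4, 5, 6, 7, 3, 2, 1, 4, 3, 2, 5, 4, 7, 8, 7, 3, 2, 1, 4, 3, 2, 5, 4, 7, 3, 2]) (.leaf []))) (.node (.node (.leaf [1, 0, 2, 3, 4, 5, 6, 7, 3, 2, 8]) (.leaf [1, 0, 2, 3, 4, 5, 6, 7, 3, 2,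 4, 3, 5, 7, 8, 7, 3, 2, 4, 5, 6]) (.leaf [1, 2, 3, 4, 5, 6, 7, 3, 2, 1, 4, 3, 2, 5, 4, 8, 7, 3, 2, 4, 3, 5, 4, 6, 7, 8]) (.leaf [1, 2, 3, 4, 5, 6, 7, 3, 2, 1, 4, 3, 2, 5, 8, 7, 3, 2, 1, 4, 3, 2, 5, 4, 7, 3, 2, 1, 0, 8])) (.node (.leaf [1, 2, 3, 4, 5, 7, 3, 2, 4, 3, 8, 7, 3, 4, 5]) (.leaf [1, 2, 3, 4, 5, 6, 7, 3, 2, 1, 4, 3, 5, 4, 8, 7, 3, 2, 1, 4, 3, 7]) (.leaf [1, 2, 3, 4, 5, 6, 7, 3, 2, 1, 4, 3, 2, 5, 4, 8, 7, 3, 2, 4, 3, 5, 4, 7, 3, 8, 7]) (.leaf [1, 2, 3, 4, 5, 6, 7, 3, 2, 1, 4, 3, 2, 5, 8, 7, 3, 2, 1, 4, 3, 2, 5, 4, 7, 3, 2, 1, 4, 5, 8, 7])) (.node (.leaf [1, 0, 2, 3, 4, 5, 6, 7, 3, 2, 4, 3, 5, 4, 7, 8, 7, 3]) (.leaf [1, 2, 3, 4, 5,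 6, 7, 3, 2, 1, 4, 5, 8, 7, 3, 2, 1, 4, 3, 5, 4, 7, 3]) (.leaf [1, 2, 3, 4, 5, 6, 7, 3, 2, 1, 4, 3, 2, 5, 4, 8, 7, 3, 2, 4, 3, 5, 4, 7, 3, 2, 1, 0]) (.leaf [])) (.node (.leaf [1, 2, 3, 4, 5, 6, 7, 3, 2, 1, 4, 5, 8, 7, 3, 2, 1, 4, 5]) (.leaf [1, 2, 3, 4, 5, 6, 7, 3, 2, 1, 4, 3, 2, 5, 4, 7, 8, 7, 3, 2, 1, 4, 3, 7, 8]) (.leaf [1, 2, 3, 4, 5, 6, 7, 3, 2, 1, 4, 3, 2, 5, 7, 3, 8, 7, 3, 2, 1, 4, 3, 2, 7, 3, 4, 5, 8]) (.leaf []))) (.node (.node (.leaf [1, 2, 3, 4, 5, 7, 3, 2, 4, 8, 7, 3]) (.leaf [1, 2, 3, 4, 5, 6, 7, 3, 2, 1, 4, 3, 5, 4, 7, 8, 7, 3, 4, 5, 6]) (.leaf [1, 2, 3, 4, 5, 6, 7, 3, 2, 1, 4, 3, 2, 8, 7, 3, 2, 4, 3, 5, 4, 6, 7, 3, 2, 1])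 (.leaf [1, 2, 3, 4, 5, 6, 7, 3, 2, 1, 4, 3, 5, 8, 7, 3, 2, 1, 4, 3, 2, 5, 4, 7, 3, 2, 1, 4, 8, 7])) (.node (.leaf [1, 2, 3, 4, 5, 6, 7, 3, 2, 1, 4, 3, 7, 8, 7, 3]) (.leaf [1, 2, 3, 4, 5, 6, 7, 3, 2, 1, 4, 8, 7, 3, 2, 1, 0, 4, 3, 5, 4, 7]) (.leaf [1, 2, 3, 4, 5, 6, 7, 3, 2, 1, 4, 3, 2, 8, 7, 3, 2, 1, 4, 3, 5, 4, 7, 3, 2, 1, 0]) (.leaf [])) (.node (.leaf [1, 2, 3, 4, 5, 6, 7, 3, 2, 1, 4, 3, 5, 7, 8, 7, 3, 2]) (.leaf [1, 2, 3, 4, 5, 6, 7, 3, 2, 1, 4, 3, 2, 5, 4, 8, 7, 3, 2, 4, 3, 5, 4, 7]) (.leaf [1, 2, 3, 4, 5, 6, 7, 3, 2, 1, 4, 3, 2, 5, 8, 7, 3, 2, 1, 4, 3, 5, 4, 7, 3, 2, 1, 8]) (.leaf [])) (.node (.leaf [1, 0, 2, 3, 4, 5, 6, 7, 3, 2, 4,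 3, 5, 4, 7, 8, 7, 3, 4, 5]) (.leaf [1, 2, 3, 4, 5, 6, 7, 3, 2, 1, 4, 3, 2, 5, 8, 7, 3, 2, 1, 4, 3, 5, 6, 7, 8]) (.leaf [1, 2, 3, 4, 5, 6, 7, 3, 2, 1, 4, 3, 5, 4, 7, 8, 7, 3, 2, 1, 4, 3, 2, 5, 4, 6, 7, 3, 8]) (.leaf [])))) (.node (.node (.node (.leaf [1, 2, 3, 7]) (.leaf [1, 2, 3, 4, 5, 6, 7, 3, 2, 1, 4, 3, 5, 7, 8, 7, 3, 2, 4, 3]) (.leaf [1, 2, 3, 4, 5, 6, 7, 3, 2, 1, 4, 3, 5, 8, 7, 3, 2, 1, 0, 4, 3, 2, 5, 6, 7]) (.leaf [1, 2, 3, 4, 5, 6, 7, 3, 2, 1, 4, 3, 2, 5, 4, 3, 8, 7, 3, 2, 1, 0, 4, 3, 2, 5, 7, 3, 8, 7])) (.node (.leaf [1, 2, 3, 4, 5, 7, 3, 2, 1, 4, 3, 2, 7, 3]) (.leaf [1, 2, 3, 4, 5, 6, 7, 3, 2, 4, 3, 5, 7, 8, 7, 3, 2, 1, 0, 4, 5])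 (.leaf [1, 2, 3, 4, 5, 6, 7, 3, 2, 1, 4, 3, 5, 8, 7, 3, 2, 1, 4, 3, 2, 5, 4, 7, 3, 2]) (.leaf [1, 2, 3, 4, 5, 6, 7, 3, 2, 1, 4, 3, 2, 5, 8, 7, 3, 2, 1, 0, 4, 3, 2, 5, 4, 7, 3, 4, 8, 7, 3])) (.node (.leaf [1, 0, 2, 3, 4, 5, 6, 7, 3, 2, 4, 5, 8, 7, 3, 4, 5]) (.leaf [1, 2, 3, 4, 5, 6, 7, 3, 2, 1, 4, 3, 2, 5, 8, 7, 3, 2, 1, 0, 4, 3, 2]) (.leaf [1, 2, 3, 4, 5, 6, 7, 3, 2, 1, 4, 3, 5, 8, 7, 3, 2, 1, 4, 3, 2, 5, 4, 7, 3, 4, 5]) (.leaf [])) (.node (.leaf [1, 2, 3, 4, 5, 6, 7, 3, 2, 4, 5, 8, 7, 3, 2, 4, 3, 7]) (.leaf [1, 2, 3, 4, 5, 6, 7, 3, 2, 1, 4, 3, 5, 4, 8, 7, 3, 2, 4, 3, 5, 4, 7, 3]) (.leaf [1, 2, 3, 4, 5, 6, 7, 3, 2, 1, 4, 3, 5, 8, 7, 3,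 2, 1, 4, 3, 2, 5, 4, 7, 3, 2, 1, 4]) (.leaf []))) (.node (.node (.leaf [1, 0, 2, 1, 3, 4, 7, 3, 8, 7]) (.leaf [1, 2, 3, 4, 5, 6, 7, 3, 2, 4, 3, 5, 4, 8, 7, 3, 2, 4, 5, 6]) (.leaf [1, 2, 3, 4, 5, 6, 7, 3, 2, 1, 4, 3, 2, 5, 4, 3, 8, 7, 3, 2, 1, 0, 4, 3, 5, 4]) (.leaf [1, 2, 3, 4, 5, 6, 7, 3, 2, 1, 4, 3, 2, 5, 4, 8, 7, 3, 2, 1, 4, 3, 2, 5, 7, 3, 4, 5, 6, 8])) (.node (.leaf [1, 0, 2, 1, 3, 4, 5, 6, 7, 3, 4, 5, 8, 7, 3, 4]) (.leaf [1, 2, 3, 4, 5, 6, 7, 3, 2, 1, 4, 3, 2, 5, 7, 3, 8, 7, 3, 2, 1, 4]) (.leaf [1, 2, 3, 4, 5, 6, 7, 3, 2, 1, 4, 3, 2, 5, 4, 7, 8, 7, 3, 2, 1, 4, 3, 2, 5, 7, 3]) (.leaf [1, 2, 3, 4, 5, 6, 7, 3, 2, 1, 4, 3, 2, 5, 4, 7,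 8, 7, 3, 2, 1, 4, 3, 2, 5, 4, 7, 3, 2, 8, 7, 3])) (.node (.leaf [1, 2, 3, 4, 5, 6, 7, 3, 2, 1, 8, 7, 3, 2, 4, 3, 5]) (.leaf [1, 2, 3, 4, 5, 6, 7, 3, 2, 1, 4, 3, 5, 7, 8, 7, 3, 2, 4, 3, 5, 6, 7]) (.leaf [1, 2, 3, 4, 5, 6, 7, 3, 2, 1, 4, 3, 2, 5, 4, 8, 7, 3, 2, 1, 0, 4, 3, 2, 1, 5, 6, 7]) (.leaf [])) (.node (.leaf [1, 2, 3, 4, 5, 7, 3, 2, 1, 4, 3, 2, 7, 8, 7, 3, 2, 1, 4]) (.leaf [1, 2, 3, 4, 5, 6, 7, 3, 2, 1, 4, 5, 8, 7, 3, 2, 1, 4, 3, 2, 5, 6, 7, 8]) (.leaf [1, 2, 3, 4, 5, 6, 7, 3, 2, 1, 4, 3, 2, 5, 4, 8, 7, 3, 2, 1, 0, 4, 3, 2, 5, 4, 3, 7, 3]) (.leaf []))) (.node (.node (.leaf [1, 2, 3, 4, 5, 7, 3, 2, 1, 8, 7]) (.leaf [1, 2, 3, 4, 5, 6,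 7, 3, 2, 1, 4, 3, 2, 5, 4, 7, 8, 7, 3, 2, 4]) (.leaf [1, 2, 3, 4, 5, 6, 7, 3, 2, 1, 4, 3, 2, 5, 7, 8, 7, 3, 2, 1, 4, 3, 2, 5, 4, 3]) (.leaf [1, 2, 3, 4, 5, 6, 7, 3, 2, 1, 4, 3, 5, 4, 7, 3, 8, 7, 3, 2, 4, 3, 5, 4, 7, 3, 2, 1, 8, 7])) (.node (.leaf [1, 0, 2, 3, 4, 5, 6, 7, 3, 2, 4, 3, 5, 4, 8, 7]) (.leaf [1, 2, 3, 4, 5, 6, 7, 3, 2, 1, 4, 3, 5, 8, 7, 3, 2, 1, 0, 4, 3, 2]) (.leaf [1, 2, 3, 4, 5, 6, 7, 3, 2, 1, 4, 3, 2, 5, 7, 8, 7, 3, 2, 1, 4, 3, 2, 5, 4, 7, 8]) (.leaf [1, 2, 3, 4, 5, 6, 7, 3, 2, 1, 4, 3, 5, 8, 7, 3, 2, 1, 4, 3, 2, 5, 4, 3, 7, 3, 2, 1, 4, 8, 7, 3])) (.node (.leaf [1, 0, 2, 3, 4, 5, 7, 3, 2, 4, 3, 7, 8, 7, 3, 2, 1, 0]) (.leaf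 [1, 2, 3, 4, 5, 6, 7, 3, 2, 4, 3, 5, 4, 8, 7, 3, 2, 1, 0, 4, 3, 5, 4]) (.leaf [1, 2, 3, 4, 5, 6, 7, 3, 2, 1, 4, 3, 2, 5, 7, 8, 7, 3, 2, 1, 4, 3, 2, 5, 4, 3, 7, 3]) (.leaf [])) (.node (.leaf [1, 2, 3, 4, 5, 6, 7, 3, 2, 1, 8, 7, 3, 2, 4, 3, 5, 4, 6]) (.leaf [1, 2, 3, 4, 5, 6, 7, 3, 2, 1, 4, 3, 2, 5, 4, 8, 7, 3, 2, 1, 4, 3, 5, 4, 7]) (.leaf [1, 2, 3, 4, 5, 6, 7, 3, 2, 1, 4, 3, 2, 5, 7, 8, 7, 3, 2, 1, 4, 3, 2, 7, 3, 4, 5, 8, 7]) (.leaf []))) (.node (.node (.leaf [1, 0, 2, 3, 4, 5, 7, 3, 2, 8, 7, 3, 4]) (.leaf [1, 2, 3, 4, 5, 6, 7, 3, 2, 1, 4, 3, 5, 8, 7, 3, 2, 1, 4, 3, 5]) (.leaf [1, 2, 3, 4, 5, 6, 7, 3, 2, 1, 4, 3, 5, 4, 7, 8, 7, 3, 2, 4,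 3, 5, 4, 6, 7, 8]) (.leaf [1, 2, 3, 4, 5, 6, 7, 3, 2, 1, 4, 3, 2, 5, 4, 3, 8, 7, 3, 2, 4, 3, 5, 4, 6, 7, 3, 2, 8, 7, 3])) (.node (.leaf [1, 2, 3, 4, 5, 7, 3, 2, 1, 4, 8, 7, 3, 2, 4, 5]) (.leaf [1, 2, 3, 4, 5, 6, 7, 3, 2, 4, 3, 5, 4, 8, 7, 3, 2, 1, 4, 3, 5, 6]) (.leaf [1, 2, 3, 4, 5, 6, 7, 3, 2, 1, 4, 3, 5, 4, 7, 8, 7, 3, 2, 4, 3, 5, 4, 7, 3, 2, 8]) (.leaf [])) (.node (.leaf [1, 2, 3, 4, 5, 7, 3, 2, 1, 4, 3, 7, 8, 7, 3, 2, 4, 5]) (.leaf [1, 2, 3, 4, 5, 6, 7, 3, 2, 1, 4, 3, 2, 5, 7, 8, 7, 3, 2, 4, 3, 5, 7, 8]) (.leaf [1, 2, 3, 4, 5, 6, 7, 3, 2, 1, 4, 3, 5, 4, 7, 8, 7, 3, 2, 1, 4, 3, 5, 4, 7, 3, 8, 7]) (.leaf [])) (.node (.leaf [1, 0, 2, 3,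 4, 5, 6, 7, 3, 2, 4, 3, 7, 8, 7, 3, 2, 1, 4, 5]) (.leaf [1, 2, 3, 4, 5, 6, 7, 3, 2, 1, 4, 3, 5, 4, 7, 3, 8, 7, 3, 2, 4, 3, 5, 7, 8]) (.leaf [1, 2, 3, 4, 5, 6, 7, 3, 2, 1, 4, 3, 5, 4, 8, 7, 3, 2, 1, 0, 4, 3, 2, 5, 4, 7, 3, 2, 4]) (.leaf [])))) (.node (.node (.node (.leaf [1, 0, 2, 1, 3, 2, 4]) (.leaf [1, 2, 3, 4, 5, 6, 7, 3, 2, 1, 4, 3, 8, 7, 3, 2, 1, 0, 4, 5]) (.leaf [1, 2, 3, 4, 5, 6, 7, 3, 2, 1, 4, 3, 5, 8, 7, 3, 2, 1, 4, 3, 2, 7, 3, 4, 8]) (.leaf [1, 2, 3, 4, 5, 6, 7, 3, 2, 1, 4, 3, 2, 5, 4, 7, 8, 7, 3, 2, 1, 4, 3, 2, 5, 4, 3, 7, 3, 2])) (.node (.leaf [1, 2, 3, 4, 5, 7, 3, 2, 1, 8, 7, 3, 2, 4]) (.leaf [1, 2, 3, 4, 5, 6, 7, 3, 2, 4, 3,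 5, 8, 7, 3, 2, 1, 4, 3, 5, 7]) (.leaf [1, 2, 3, 4, 5, 6, 7, 3, 2, 1, 4, 3, 8, 7, 3, 2, 1, 4, 3, 2, 5, 4, 7, 3, 2, 1]) (.leaf [1, 2, 3, 4, 5, 6, 7, 3, 2, 1, 4, 3, 2, 5, 8, 7, 3, 2, 1, 4, 3, 2, 5, 4, 7, 3, 2, 4, 8, 7, 3])) (.node (.leaf [1, 2, 3, 4, 5, 6, 7, 3, 2, 1, 4, 3, 2, 5, 4, 8, 7]) (.leaf [1, 2, 3, 4, 5, 6, 7, 3, 2, 1, 4, 3, 2, 7, 8, 7, 3, 2, 1, 4, 3, 5, 4]) (.leaf [1, 2, 3, 4, 5, 6, 7, 3, 2, 1, 4, 5, 8, 7, 3, 2, 1, 0, 4, 3, 2, 5, 4, 7, 3, 2, 8]) (.leaf [])) (.node (.leaf [1, 0, 2, 3, 4, 5, 6, 7, 3, 2, 4, 3, 5, 7, 8, 7, 3, 2, 4]) (.leaf [1, 2, 3, 4, 5, 6, 7, 3, 2, 1, 4, 3, 5, 7, 8, 7, 3, 2, 1, 4, 3, 5, 6, 7]) (.leaf [1, 2, 3, 4, 5,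 6, 7, 3, 2, 1, 4, 5, 8, 7, 3, 2, 1, 4, 3, 2, 5, 4, 7, 3, 2, 1, 4, 5]) (.leaf []))) (.node (.node (.leaf [1, 2, 3, 4, 5, 7, 3, 8, 7]) (.leaf [1, 2, 3, 4, 5, 6, 7, 3, 2, 4, 3, 5, 8, 7, 3, 2, 4, 3, 7, 8]) (.leaf [1, 2, 3, 4, 5, 6, 7, 3, 2, 1, 4, 3, 2, 5, 4, 7, 8, 7, 3, 2, 1, 4, 3, 2, 7, 3]) (.leaf [1, 2, 3, 4, 5, 6, 7, 3, 2, 1, 4, 3, 2, 5, 7, 8, 7, 3, 2, 1, 0, 4, 3, 2, 5, 4, 7, 3, 8, 7])) (.node (.leaf [1, 2, 3, 4, 5, 6, 7, 3, 2, 1, 4, 3, 5, 8, 7]) (.leaf [1, 2, 3, 4, 5, 6, 7, 3, 2, 1, 4, 3, 2, 5, 8, 7, 3, 2, 4, 3, 7, 8]) (.leaf [1, 2, 3, 4, 5, 6, 7, 3, 2, 1, 4, 3, 2, 5, 4, 8, 7, 3, 2, 1, 0, 4, 3, 2, 5, 7, 8]) (.leaf [1, 2, 3, 4, 5, 6, 7,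 3, 2, 1, 4, 3, 2, 5, 4, 8, 7, 3, 2, 1, 4, 3, 2, 5, 4, 3, 7, 3, 2, 1, 8, 7])) (.node (.leaf [1, 2, 3, 4, 5, 6, 7, 3, 2, 4, 3, 7, 8, 7, 3, 4, 5]) (.leaf [1, 2, 3, 4, 5, 6, 7, 3, 2, 1, 4, 3, 5, 8, 7, 3, 2, 1, 4, 3, 5, 6, 7]) (.leaf [1, 2, 3, 4, 5, 6, 7, 3, 2, 1, 4, 3, 2, 5, 4, 8, 7, 3, 2, 1, 0, 4, 3, 2, 7, 3, 8, 7]) (.leaf [])) (.node (.leaf [1, 2, 3, 4, 5, 6, 7, 3, 2, 1, 4, 3, 5, 7, 8, 7, 3, 4, 5]) (.leaf [1, 2, 3, 4, 5, 6, 7, 3, 2, 4, 3, 5, 4, 8, 7, 3, 2, 1, 0, 4, 3, 2, 5, 4]) (.leaf [1, 2, 3, 4, 5, 6, 7, 3, 2, 1, 4, 3, 2, 5, 4, 8, 7, 3, 2, 1, 4, 3, 2, 5, 4, 3, 6, 7, 3]) (.leaf []))) (.node (.node (.leaf [1, 0, 2, 3, 4, 5, 7, 3, 2, 4, 3,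 8]) (.leaf [1, 2, 3, 4, 5, 6, 7, 3, 2, 1, 4, 3, 2, 5, 8, 7, 3, 2, 4, 3, 5]) (.leaf [1, 2, 3, 4, 5, 6, 7, 3, 2, 1, 4, 3, 2, 5, 8, 7, 3, 2, 1, 0, 4, 3, 2, 5, 7, 8]) (.leaf [1, 2, 3, 4, 5, 6, 7, 3, 2, 1, 4, 3, 5, 4, 8, 7, 3, 2, 1, 0, 4, 3, 2, 5, 4, 7, 3, 2, 8, 7])) (.node (.leaf [1, 0, 2, 3, 4, 5, 7, 3, 2, 4, 8, 7, 3, 2, 1, 0]) (.leaf [1, 2, 3, 4, 5, 6, 7, 3, 2, 1, 4, 3, 7, 8, 7, 3, 2, 1, 4, 3, 5, 4]) (.leaf [1, 2, 3, 4, 5, 6, 7, 3, 2, 1, 4, 3, 2, 5, 8, 7, 3, 2, 1, 0, 4, 3, 2, 5, 6, 7, 8]) (.leaf [1, 2, 3, 4, 5, 6, 7, 3, 2, 1, 4, 3, 2, 5, 4, 8, 7, 3, 2, 1, 4, 3, 2, 5, 4, 3, 7, 3, 2, 8, 7, 3, 4])) (.node (.leaf [1, 0, 2, 3, 4, 5, 7, 3, 2, 4,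 8, 7, 3, 2, 1, 4, 5, 6]) (.leaf [1, 2, 3, 4, 5, 6, 7, 3, 2, 4, 3, 5, 8, 7, 3, 2, 1, 4, 3, 2, 7, 3, 4]) (.leaf [1, 2, 3, 4, 5, 6, 7, 3, 2, 1, 4, 3, 2, 5, 8, 7, 3, 2, 1, 0, 4, 3, 2, 5, 4, 3, 7, 8]) (.leaf [])) (.node (.leaf [1, 2, 3, 4, 5, 6, 7, 3, 2, 4, 3, 5, 8, 7, 3, 2, 1, 0, 4]) (.leaf [1, 2, 3, 4, 5, 6, 7, 3, 2, 1, 4, 3, 2, 5, 7, 8, 7, 3, 2, 1, 0, 4, 3, 5, 7]) (.leaf [1, 2, 3, 4, 5, 6, 7, 3, 2, 1, 4, 3, 2, 5, 8, 7, 3, 2, 1, 0, 4, 3, 2, 5, 6, 7, 3, 4, 8]) (.leaf []))) (.node (.node (.leaf [1, 2, 3, 4, 5, 6, 7, 3, 2, 1, 4, 5, 8]) (.leaf [1, 2, 3, 4, 5, 6, 7, 3, 2, 1, 4, 3, 8, 7, 3, 2, 1, 0, 4, 3, 2]) (.leaf [1, 2, 3, 4, 5, 6, 7, 3, 2, 1,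 4, 3, 5, 4, 8, 7, 3, 2, 1, 0, 4, 3, 5, 4, 7, 8]) (.leaf [1, 2, 3, 4, 5, 6, 7, 3, 2, 1, 4, 3, 2, 5, 4, 8, 7, 3, 2, 1, 0, 4, 3, 2, 1, 5, 7, 3, 4, 8, 7])) (.node (.leaf [1, 2, 3, 4, 5, 6, 7, 3, 2, 4, 3, 7, 8, 7, 3, 2]) (.leaf [1, 2, 3, 4, 5, 6, 7, 3, 2, 4, 3, 5, 8, 7, 3, 2, 1, 4, 3, 2, 5, 6]) (.leaf [1, 2, 3, 4, 5, 6, 7, 3, 2, 1, 4, 3, 5, 4, 8, 7, 3, 2, 1, 0, 4, 3, 5, 4, 7, 3, 8]) (.leaf [])) (.node (.leaf [1, 2, 3, 4, 5, 6, 7, 3, 2, 1, 4, 8, 7, 3, 2, 4, 3, 5]) (.leaf [1, 2, 3, 4, 5, 6, 7, 3, 2, 1, 4, 3, 2, 5, 8, 7, 3, 2, 1, 4, 3, 5, 7, 8]) (.leaf [1, 2, 3, 4, 5, 6, 7, 3, 2, 1, 4, 3, 5, 4, 8, 7, 3, 2, 1, 0, 4, 3, 5, 4, 6, 5, 7, 8]) (.leaf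 [])) (.node (.leaf [1, 2, 3, 4, 5, 6, 7, 3, 2, 1, 4, 3, 2, 5, 4, 8, 7, 3, 2, 1]) (.leaf [1, 2, 3, 4, 5, 6, 7, 3, 2, 1, 4, 3, 5, 4, 8, 7, 3, 2, 1, 0, 4, 3, 2, 5, 6]) (.leaf [1, 2, 3, 4, 5, 6, 7, 3, 2, 1, 4, 3, 5, 4, 8, 7, 3, 2, 1, 4, 3, 2, 5, 4, 7, 3, 2, 1, 8]) (.leaf [])))) (.node (.node (.node (.leaf [1, 0, 2, 3, 4, 5, 6, 7]) (.leaf [1, 2, 3, 4, 5, 7, 3, 2, 1, 4, 3, 8, 7, 3, 2, 1, 4, 3, 2, 7]) (.leaf [1, 2, 3, 4, 5, 6, 7, 3, 2, 1, 4, 5, 8, 7, 3, 2, 1, 0, 4, 3, 5, 4, 6, 7, 8]) (.leaf [1, 2, 3, 4, 5, 6, 7, 3, 2, 1, 4, 3, 2, 5, 4, 8, 7, 3, 2, 1, 0, 4, 3, 2, 1, 7, 3, 2, 8, 7])) (.node (.leaf [1, 2, 3, 4, 5, 6, 7, 3, 2, 4, 8, 7, 3, 4]) (.leaf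 [1, 0, 2, 3, 4, 5, 6, 7, 3, 2, 4, 3, 5, 4, 7, 8, 7, 3, 2, 4, 5, 6]) (.leaf [1, 2, 3, 4, 5, 6, 7, 3, 2, 1, 4, 5, 8, 7, 3, 2, 1, 4, 3, 2, 5, 6, 7, 3, 4, 5]) (.leaf [1, 2, 3, 4, 5, 6, 7, 3, 2, 1, 4, 3, 5, 4, 8, 7, 3, 2, 1, 0, 4, 3, 2, 5, 4, 7, 3, 2, 4, 8, 7])) (.node (.leaf [1, 2, 3, 4, 5, 6, 7, 3, 2, 1, 4, 3, 5, 4, 7, 8, 7]) (.leaf [1, 2, 3, 4, 5, 6, 7, 3, 2, 1, 4, 3, 5, 4, 7, 8, 7, 3, 2, 1, 4, 3, 5]) (.leaf [1, 2, 3, 4, 5, 6, 7, 3, 2, 1, 4, 3, 2, 5, 4, 3, 8, 7, 3, 2, 1, 0, 4, 3, 2, 1, 7, 3]) (.leaf [])) (.node (.leaf [1, 0, 2, 3, 4, 5, 6, 7, 3, 2, 4, 3, 8, 7, 3, 2, 4, 5, 6]) (.leaf [1, 2, 3, 4, 5, 6, 7, 3, 2, 1, 4, 3, 5, 8, 7, 3, 2, 1, 4,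 3, 2, 5, 4, 6]) (.leaf [1, 2, 3, 4, 5, 6, 7, 3, 2, 1, 4, 3, 2, 5, 4, 3, 8, 7, 3, 2, 1, 4, 3, 2, 5, 7, 3, 4, 8]) (.leaf []))) (.node (.node (.leaf [1, 2, 3, 4, 5, 6, 7, 3, 2, 1]) (.leaf [1, 2, 3, 4, 5, 6, 7, 3, 2, 4, 5, 8, 7, 3, 2, 4, 3, 5, 7, 8]) (.leaf [1, 2, 3, 4, 5, 6, 7, 3, 2, 1, 4, 3, 2, 5, 4, 8, 7, 3, 2, 1, 0, 4, 3, 5, 7, 8]) (.leaf [1, 2, 3, 4, 5, 6, 7, 3, 2, 1, 4, 3, 2, 5, 8, 7, 3, 2, 1, 0, 4, 3, 2, 5, 4, 6, 7, 3, 4, 8])) (.node (.leaf [1, 2, 3, 4, 5, 7, 3, 2, 1, 8, 7, 3, 4, 5, 6]) (.leaf [1, 2, 3, 4, 5, 6, 7, 3, 2, 1, 4, 3, 2, 8, 7, 3, 2, 4, 3, 5, 4, 6]) (.leaf [1, 2, 3, 4, 5, 6, 7, 3, 2, 1, 4, 3, 2, 5, 4, 8, 7, 3, 2, 1, 4, 3,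 2, 5, 7, 3, 4]) (.leaf [1, 2, 3, 4, 5, 6, 7, 3, 2, 1, 4, 3, 2, 5, 7, 8, 7, 3, 2, 1, 4, 3, 2, 5, 4, 3, 7, 3, 4, 8, 7, 3])) (.node (.leaf [1, 2, 3, 4, 5, 6, 7, 3, 2, 4, 5, 8, 7, 3, 2, 1, 0]) (.leaf [1, 2, 3, 4, 5, 6, 7, 3, 2, 1, 4, 5, 8, 7, 3, 2, 1, 0, 4, 3, 2, 5, 4]) (.leaf [1, 2, 3, 4, 5, 6, 7, 3, 2, 1, 4, 3, 2, 5, 4, 8, 7, 3, 2, 1, 4, 3, 2, 5, 7, 3, 4, 8]) (.leaf [])) (.node (.leaf [1, 2, 3, 4, 5, 6, 7, 3, 2, 1, 4, 3, 8, 7, 3, 2, 4, 5, 6]) (.leaf [1, 2, 3, 4, 5, 6, 7, 3, 2, 1, 4, 3, 2, 5, 4, 3, 8, 7, 3, 2, 1, 0, 4, 3, 7]) (.leaf [1, 2, 3, 4, 5, 6, 7, 3, 2, 1, 4, 3, 2, 5, 4, 8, 7, 3, 2, 1, 4, 3, 2, 5, 7, 3, 4, 8, 7]) (.leaf []))) (.node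 (.node (.leaf [1, 2, 3, 4, 5, 7, 3, 2, 1, 4, 3, 7]) (.leaf [1, 2, 3, 4, 5, 6, 7, 3, 2, 1, 4, 3, 2, 8, 7, 3, 2, 4, 3, 5, 7]) (.leaf [1, 2, 3, 4, 5, 6, 7, 3, 2, 1, 4, 3, 2, 5, 8, 7, 3, 2, 1, 4, 3, 2, 7, 3, 4, 5]) (.leaf [1, 2, 3, 4, 5, 6, 7, 3, 2, 1, 4, 3, 5, 4, 8, 7, 3, 2, 1, 4, 3, 2, 5, 4, 7, 3, 4, 5, 8, 7])) (.node (.leaf [1, 2, 3, 4, 5, 6, 7, 3, 2, 1, 4, 3, 2, 5, 8, 7]) (.leaf [1, 2, 3, 4, 5, 6, 7, 3, 2, 1, 4, 5, 8, 7, 3, 2, 1, 0, 4, 3, 5, 7]) (.leaf [1, 2, 3, 4, 5, 6, 7, 3, 2, 1, 4, 3, 2, 5, 8, 7, 3, 2, 1, 4, 3, 2, 5, 6, 7, 3, 8]) (.leaf [1, 2, 3, 4, 5, 6, 7, 3, 2, 1, 4, 3, 5, 8, 7, 3, 2, 1, 4, 3, 2, 5, 4, 3, 7, 3, 2, 1, 4, 8, 7, 3,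 2])) (.node (.leaf [1, 2, 3, 4, 5, 6, 7, 3, 2, 1, 4, 3, 2, 7, 8, 7, 3, 4]) (.leaf [1, 2, 3, 4, 5, 6, 7, 3, 2, 1, 4, 3, 2, 5, 4, 7, 8, 7, 3, 2, 1, 4, 3, 5]) (.leaf [1, 2, 3, 4, 5, 6, 7, 3, 2, 1, 4, 3, 2, 5, 8, 7, 3, 2, 1, 4, 3, 2, 5, 4, 6, 7, 3, 8]) (.leaf [])) (.node (.leaf [1, 2, 3, 4, 5, 6, 7, 3, 2, 4, 3, 8, 7, 3, 2, 4, 3, 5, 4]) (.leaf [1, 2, 3, 4, 5, 6, 7, 3, 2, 1, 4, 3, 2, 5, 8, 7, 3, 2, 1, 0, 4, 3, 5, 4, 6]) (.leaf [1, 2, 3, 4, 5, 6, 7, 3, 2, 1, 4, 3, 2, 5, 8, 7, 3, 2, 1, 4, 3, 2, 5, 4, 7, 3, 2, 8, 7]) (.leaf []))) (.node (.node (.leaf [1, 2, 3, 4, 5, 6, 7, 3, 2, 4, 8, 7, 3]) (.leaf [1, 2, 3, 4, 5, 6, 7, 3, 2, 1, 4, 5, 8, 7, 3, 2,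 1, 4, 3, 2, 7]) (.leaf [1, 2, 3, 4, 5, 6, 7, 3, 2, 1, 4, 3, 5, 4, 8, 7, 3, 2, 1, 4, 3, 5, 4, 6, 7, 8]) (.leaf [1, 2, 3, 4, 5, 6, 7, 3, 2, 1, 4, 3, 2, 5, 4, 8, 7, 3, 2, 1, 4, 3, 2, 5, 4, 3, 7, 3, 4, 5, 8])) (.node (.leaf [1, 2, 3, 4, 5, 6, 7, 3, 2, 4, 8, 7, 3, 2, 1, 0]) (.leaf [1, 0, 2, 3, 4, 5, 6, 7, 3, 2, 4, 3, 5, 4, 8, 7, 3, 2, 1, 4, 3, 5, 7]) (.leaf [1, 2, 3, 4, 5, 6, 7, 3, 2, 1, 4, 3, 5, 4, 8, 7, 3, 2, 1, 4, 3, 5, 4, 6, 7, 3, 8]) (.leaf [])) (.node (.leaf [1, 2, 3, 4, 5, 6, 7, 3, 2, 4, 3, 5, 4, 8, 7, 3, 2, 1]) (.leaf [1, 2, 3, 4, 5, 6, 7, 3, 2, 1, 4, 3, 5, 4, 7, 3, 8, 7, 3, 2, 4, 3, 5, 4]) (.leaf [1, 2, 3, 4, 5, 6, 7, 3, 2, 1, 4, 3,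 5, 4, 8, 7, 3, 2, 1, 4, 3, 2, 5, 4, 7, 3, 8, 7]) (.leaf [])) (.node (.leaf [1, 2, 3, 4, 5, 6, 7, 3, 2, 1, 4, 3, 2, 7, 8, 7, 3, 2, 4, 3]) (.leaf [1, 2, 3, 4, 5, 6, 7, 3, 2, 1, 4, 3, 5, 4, 8, 7, 3, 2, 1, 4, 3, 5, 4, 6, 5]) (.leaf [1, 2, 3, 4, 5, 6, 7, 3, 2, 1, 4, 3, 5, 7, 8, 7, 3, 2, 1, 4, 3, 2, 5, 4, 7, 3, 2, 4, 8]) (.leaf [])))))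
def pathTree1 : SporBound.Q (List ℕ) := (.node (.node (.node (.node (.leaf [1]) (.leaf [1, 2, 3, 4, 5, 7, 3, 2, 1, 4, 3, 2, 8, 7, 3, 2, 4, 3, 5, 4]) (.leaf [1, 2, 3, 4, 5, 6, 7, 3, 2, 1, 4, 3, 5, 7, 8, 7, 3, 2, 1, 4, 3, 2, 5, 4, 6]) (.leaf [1, 2, 3, 4, 5, 6, 7, 3, 2, 1, 4, 3, 5, 8, 7, 3, 2, 1, 4, 3, 2, 5, 4, 7, 3, 2, 1, 4, 8])) (.node (.leaf [1, 0, 2, 3, 4, 5, 6, 7, 3, 2, 4, 8, 7, 3]) (.leaf [1, 2, 3, 4, 5, 6, 7, 3, 2, 4, 3, 5, 4, 7, 8, 7, 3, 2, 1, 4, 3]) (.leaf [1, 2, 3, 4, 5, 6, 7, 3, 2, 1, 4, 3, 5, 7, 8, 7, 3, 2, 1, 4, 3, 2, 5, 7, 3, 4]) (.leaf [1, 2, 3, 4, 5, 6, 7, 3, 2, 1, 4, 3, 2, 5, 7, 8, 7, 3, 2, 1, 0, 4, 3, 2, 1, 5, 4, 7, 3, 8,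 7])) (.node (.leaf [1, 0, 2, 3, 4, 5, 6, 7, 3, 2, 4, 3, 7, 8, 7, 3, 2]) (.leaf [1, 2, 3, 4, 5, 6, 7, 3, 2, 1, 4, 3, 2, 5, 4, 8, 7, 3, 2, 4, 3, 5, 4]) (.leaf [1, 2, 3, 4, 5, 6, 7, 3, 2, 1, 4, 3, 5, 7, 8, 7, 3, 2, 1, 4, 3, 2, 5, 6, 7, 3, 8]) (.leaf [])) (.node (.leaf [1, 2, 3, 4, 5, 6, 7, 3, 2, 4, 3, 8, 7, 3, 2, 1, 4, 3]) (.leaf [1, 2, 3, 4, 5, 6, 7, 3, 2, 1, 4, 3, 5, 4, 8, 7, 3, 2, 1, 0, 4, 3, 5, 4]) (.leaf [1, 2, 3, 4, 5, 6, 7, 3, 2, 1, 4, 3, 5, 7, 8, 7, 3, 2, 1, 4, 3, 2, 5, 4, 7, 3, 8, 7]) (.leaf []))) (.node (.node (.leaf [1, 2, 3, 4, 5, 7, 3, 4]) (.leaf [1, 2, 3, 4, 5, 6, 7, 3, 2, 1, 4, 8, 7, 3, 2, 1, 4, 3, 5, 7]) (.leaf [1, 2, 3, 4,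 5, 6, 7, 3, 2, 1, 4, 8, 7, 3, 2, 1, 0, 4, 3, 5, 4, 7, 3, 2, 1]) (.leaf [1, 2, 3, 4, 5, 6, 7, 3, 2, 1, 4, 3, 2, 5, 4, 8, 7, 3, 2, 1, 4, 3, 2, 5, 4, 3, 6, 7, 3, 8])) (.node (.leaf [1, 0, 2, 3, 4, 5, 7, 3, 2, 4, 3, 8, 7, 3, 2]) (.leaf [1, 2, 3, 4, 5, 6, 7, 3, 2, 1, 4, 3, 2, 5, 4, 3, 8, 7, 3, 2, 1, 0]) (.leaf [1, 2, 3, 4, 5, 6, 7, 3, 2, 1, 4, 3, 2, 5, 4, 3, 8, 7, 3, 2, 1, 0, 4, 3, 5, 6, 7]) (.leaf [1, 2, 3, 4, 5, 6, 7, 3, 2, 1, 4, 3, 5, 8, 7, 3, 2, 1, 4, 3, 2, 5, 4, 3, 7, 3, 2, 4, 8, 7, 3])) (.node (.leaf [1, 2, 3, 4, 5, 7, 3, 2, 1, 4, 3, 8, 7, 3, 4, 5, 6]) (.leaf [1, 2, 3, 4, 5, 6, 7, 3, 2, 1, 4, 3, 5, 4, 8, 7, 3, 2, 4, 3, 5, 4, 6]) (.leaf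 [1, 2, 3, 4, 5, 6, 7, 3, 2, 1, 4, 3, 2, 5, 4, 3, 8, 7, 3, 2, 4, 3, 5, 4, 6, 7, 3, 8]) (.leaf [])) (.node (.leaf [1, 2, 3, 4, 5, 6, 7, 3, 2, 1, 4, 3, 2, 5, 7, 8, 7, 3, 4]) (.leaf [1, 2, 3, 4, 5, 6, 7, 3, 2, 1, 4, 3, 8, 7, 3, 2, 1, 4, 3, 2, 5, 4, 7, 3]) (.leaf [1, 2, 3, 4, 5, 6, 7, 3, 2, 1, 4, 3, 2, 5, 4, 7, 8, 7, 3, 2, 1, 4, 3, 2, 5, 4, 7, 3, 4]) (.leaf []))) (.node (.node (.leaf [1, 0, 2, 3, 4, 5, 7, 3, 2, 8, 7]) (.leaf [1, 0, 2, 3, 4, 5, 6, 7, 3, 2, 4, 3, 5, 8, 7, 3, 2, 1, 0, 4, 3]) (.leaf [1, 2, 3, 4, 5, 6, 7, 3, 2, 1, 4, 3, 2, 5, 4, 8, 7, 3, 2, 4, 3, 5, 4, 7, 3, 2]) (.leaf [1, 2, 3, 4, 5, 6, 7, 3, 2, 1, 4, 3, 2, 5, 8, 7, 3, 2, 1, 4,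 3, 2, 5, 4, 7, 3, 2, 1, 4, 5])) (.node (.leaf [1, 2, 3, 4, 5, 6, 7, 3, 2, 4, 5, 8, 7, 3, 2]) (.leaf [1, 2, 3, 4, 5, 6, 7, 3, 2, 1, 4, 3, 5, 4, 8, 7, 3, 2, 1, 4, 5, 6]) (.leaf [1, 2, 3, 4, 5, 6, 7, 3, 2, 1, 4, 3, 2, 5, 7, 3, 8, 7, 3, 2, 1, 0, 4, 3, 2, 1, 7]) (.leaf [1, 2, 3, 4, 5, 6, 7, 3, 2, 1, 4, 3, 2, 5, 8, 7, 3, 2, 1, 4, 3, 2, 5, 4, 7, 3, 2, 1, 4, 8, 7, 3])) (.node (.leaf [1, 0, 2, 3, 4, 5, 6, 7, 3, 2, 4, 3, 5, 4, 8, 7, 3, 2]) (.leaf [1, 2, 3, 4, 5, 6, 7, 3, 2, 1, 4, 5, 8, 7, 3, 2, 1, 4, 3, 5, 4, 7, 8]) (.leaf [1, 2, 3, 4, 5, 6, 7, 3, 2, 1, 4, 3, 2, 5, 4, 8, 7, 3, 2, 4, 3, 5, 4, 7, 3, 2, 1, 8]) (.leaf [])) (.node (.leaf [1, 2, 3, 4,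 5, 6, 7, 3, 2, 1, 4, 5, 8, 7, 3, 2, 4, 3, 5]) (.leaf [1, 2, 3, 4, 5, 6, 7, 3, 2, 1, 4, 3, 2, 5, 4, 7, 8, 7, 3, 2, 4, 3, 5, 4, 7]) (.leaf [1, 2, 3, 4, 5, 6, 7, 3, 2, 1, 4, 3, 2, 5, 7, 3, 8, 7, 3, 2, 1, 4, 3, 2, 7, 3, 4, 8, 7]) (.leaf []))) (.node (.node (.leaf [1, 2, 3, 4, 5, 6, 7, 3, 2, 8, 7, 3]) (.leaf [1, 2, 3, 4, 5, 6, 7, 3, 2, 1, 4, 3, 5, 4, 8, 7, 3, 2, 1, 0, 4]) (.leaf [1, 2, 3, 4, 5, 6, 7, 3, 2, 1, 4, 3, 2, 8, 7, 3, 2, 4, 3, 5, 4, 7, 3, 2, 1, 0]) (.leaf [1, 2, 3, 4, 5, 6, 7, 3, 2, 1, 4, 3, 5, 8, 7, 3, 2, 1, 4, 3, 2, 5, 4, 7, 3, 2, 4, 5, 8, 7])) (.node (.leaf [1, 2, 3, 4, 5, 6, 7, 3, 2, 1, 4, 3, 8, 7, 3, 2]) (.leaf [1, 2, 3, 4, 5,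 6, 7, 3, 2, 1, 4, 8, 7, 3, 2, 1, 4, 3, 5, 4, 7, 3]) (.leaf [1, 2, 3, 4, 5, 6, 7, 3, 2, 1, 4, 3, 5, 4, 7, 3, 8, 7, 3, 2, 4, 3, 5, 4, 6, 7, 3]) (.leaf [])) (.node (.leaf [1, 2, 3, 4, 5, 6, 7, 3, 2, 1, 4, 3, 5, 7, 8, 7, 3, 4]) (.leaf [1, 2, 3, 4, 5, 6, 7, 3, 2, 1, 4, 3, 2, 5, 4, 8, 7, 3, 2, 4, 3, 5, 6, 7]) (.leaf [1, 2, 3, 4, 5, 6, 7, 3, 2, 1, 4, 3, 2, 5, 8, 7, 3, 2, 4, 3, 5, 4, 6, 7, 3, 2, 1, 8]) (.leaf [])) (.node (.leaf [1, 0, 2, 3, 4, 5, 6, 7, 3, 2, 4, 3, 5, 4, 8, 7, 3, 2, 1, 4]) (.leaf [1, 2, 3, 4, 5, 6, 7, 3, 2, 1, 4, 3, 2, 5, 8, 7, 3, 2, 4, 3, 5, 4, 6, 5, 7]) (.leaf [1, 2, 3, 4, 5, 6, 7, 3, 2, 1, 4, 3, 5, 4, 7, 8, 7, 3, 2, 1, 4, 3,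 2, 5, 4, 7, 3, 2, 1]) (.leaf [])))) (.node (.node (.node (.leaf [1, 0, 2, 3, 4]) (.leaf [1, 2, 3, 4, 5, 6, 7, 3, 2, 1, 4, 3, 5, 7, 8, 7, 3, 2, 4, 5]) (.leaf [1, 2, 3, 4, 5, 6, 7, 3, 2, 1, 4, 3, 5, 8, 7, 3, 2, 1, 0, 4, 3, 2, 5, 7, 8]) (.leaf [1, 2, 3, 4, 5, 6, 7, 3, 2, 1, 4, 3, 2, 5, 4, 3, 8, 7, 3, 2, 1, 0, 4, 3, 2, 7, 3, 4, 5, 8])) (.node (.leaf [1, 2, 3, 4, 5, 7, 3, 2, 1, 4, 3, 2, 7, 8]) (.leaf [1, 2, 3, 4, 5, 6, 7, 3, 2, 4, 3, 5, 7, 8, 7, 3, 2, 1, 4, 3, 2]) (.leaf [1, 2, 3, 4, 5, 6, 7, 3, 2, 1, 4, 3, 5, 8, 7, 3, 2, 1, 4, 3, 2, 5, 4, 7, 3, 4]) (.leaf [1, 2, 3, 4, 5, 6, 7, 3, 2, 1, 4, 3, 2, 5, 8, 7, 3, 2, 1, 0, 4, 3, 2, 5, 6, 7, 3, 4, 5,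 8, 7])) (.node (.leaf [1, 0, 2, 3, 4, 5, 6, 7, 3, 2, 4, 8, 7, 3, 2, 1, 0]) (.leaf [1, 2, 3, 4, 5, 6, 7, 3, 2, 1, 4, 3, 2, 5, 8, 7, 3, 2, 1, 0, 4, 3, 5]) (.leaf [1, 2, 3, 4, 5, 6, 7, 3, 2, 1, 4, 3, 5, 8, 7, 3, 2, 1, 4, 3, 2, 5, 4, 7, 3, 4, 8]) (.leaf [])) (.node (.leaf [1, 2, 3, 4, 5, 6, 7, 3, 2, 4, 5, 8, 7, 3, 2, 4, 5, 6]) (.leaf [1, 2, 3, 4, 5, 6, 7, 3, 2, 1, 4, 3, 5, 4, 8, 7, 3, 2, 4, 3, 5, 4, 7, 8]) (.leaf [1, 2, 3, 4, 5, 6, 7, 3, 2, 1, 4, 3, 5, 8, 7, 3, 2, 1, 4, 3, 2, 5, 4, 7, 3, 2, 1, 8]) (.leaf []))) (.node (.node (.leaf [1, 0, 2, 1, 3, 4, 5, 6]) (.leaf [1, 2, 3, 4, 5, 6, 7, 3, 2, 4, 3, 5, 7, 8, 7, 3, 2, 1, 0, 4]) (.leaf [1, 2, 3,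 4, 5, 6, 7, 3, 2, 1, 4, 3, 2, 5, 4, 3, 8, 7, 3, 2, 1, 0, 4, 3, 5, 6]) (.leaf [1, 2, 3, 4, 5, 6, 7, 3, 2, 1, 4, 3, 2, 5, 4, 8, 7, 3, 2, 1, 4, 3, 2, 5, 7, 3, 4, 5, 8, 7])) (.node (.leaf [1, 0, 2, 1, 3, 4, 5, 6, 7, 3, 4, 8, 7, 3, 2, 1]) (.leaf [1, 2, 3, 4, 5, 6, 7, 3, 2, 1, 4, 3, 2, 5, 7, 3, 8, 7, 3, 2, 4, 3]) (.leaf [1, 2, 3, 4, 5, 6, 7, 3, 2, 1, 4, 3, 2, 5, 4, 7, 8, 7, 3, 2, 1, 4, 3, 2, 5, 7, 8]) (.leaf [1, 2, 3, 4, 5, 6, 7, 3, 2, 1, 4, 3, 2, 5, 4, 7, 8, 7, 3, 2, 1, 4, 3, 2, 5, 4, 7, 3, 4, 8, 7, 3])) (.node (.leaf [1, 2, 3, 4, 5, 6, 7, 3, 2, 1, 8, 7, 3, 2, 4, 3, 7]) (.leaf [1, 2, 3, 4, 5, 6, 7, 3, 2, 1, 4, 3, 5, 7, 8, 7, 3, 2, 4, 3, 5, 7,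 8]) (.leaf [1, 2, 3, 4, 5, 6, 7, 3, 2, 1, 4, 3, 2, 5, 4, 8, 7, 3, 2, 1, 0, 4, 3, 2, 1, 5, 7, 3]) (.leaf [])) (.node (.leaf [1, 2, 3, 4, 5, 7, 3, 2, 1, 4, 3, 2, 7, 8, 7, 3, 2, 4, 3]) (.leaf [1, 2, 3, 4, 5, 6, 7, 3, 2, 1, 4, 5, 8, 7, 3, 2, 1, 4, 3, 2, 5, 7, 3, 4]) (.leaf [1, 2, 3, 4, 5, 6, 7, 3, 2, 1, 4, 3, 2, 5, 4, 8, 7, 3, 2, 1, 0, 4, 3, 2, 5, 4, 3, 7, 8]) (.leaf []))) (.node (.node (.leaf [1, 2, 3, 4, 7, 3, 2, 1, 8, 7, 3]) (.leaf [1, 2, 3, 4, 5, 6, 7, 3, 2, 1, 4, 3, 2, 5, 4, 7, 8, 7, 3, 4, 5]) (.leaf [1, 2, 3, 4, 5, 6, 7, 3, 2, 1, 4, 3, 2, 5, 7, 8, 7, 3, 2, 1, 4, 3, 2, 5, 4, 7]) (.leaf [1, 2, 3, 4, 5, 6, 7, 3, 2, 1, 4, 3, 5, 4, 7, 3, 8,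 7, 3, 2, 4, 3, 5, 4, 7, 3, 2, 8, 7, 3])) (.node (.leaf [1, 0, 2, 3, 4, 5, 6, 7, 3, 2, 4, 3, 5, 7, 8, 7]) (.leaf [1, 2, 3, 4, 5, 6, 7, 3, 2, 1, 4, 3, 5, 8, 7, 3, 2, 1, 0, 4, 3, 5]) (.leaf [1, 2, 3, 4, 5, 6, 7, 3, 2, 1, 4, 3, 2, 5, 7, 8, 7, 3, 2, 1, 4, 3, 2, 5, 7, 3, 4]) (.leaf [1, 2, 3, 4, 5, 6, 7, 3, 2, 1, 4, 3, 5, 8, 7, 3, 2, 1, 4, 3, 2, 5, 4, 3, 7, 3, 2, 4, 5, 8, 7, 3])) (.node (.leaf [1, 0, 2, 3, 4, 5, 7, 3, 2, 4, 3, 7, 8, 7, 3, 2, 1, 4]) (.leaf [1, 2, 3, 4, 5, 6, 7, 3, 2, 4, 3, 5, 4, 8, 7, 3, 2, 1, 0, 4, 3, 5, 6]) (.leaf [1, 2, 3, 4, 5, 6, 7, 3, 2, 1, 4, 3, 2, 5, 7, 8, 7, 3, 2, 1, 4, 3, 2, 5, 4, 3, 7, 8]) (.leaf [])) (.node (.leaf [1,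 2, 3, 4, 5, 6, 7, 3, 2, 1, 8, 7, 3, 2, 4, 3, 5, 4, 7]) (.leaf [1, 2, 3, 4, 5, 6, 7, 3, 2, 1, 4, 3, 2, 5, 4, 8, 7, 3, 2, 1, 4, 3, 5, 6, 7]) (.leaf [1, 2, 3, 4, 5, 6, 7, 3, 2, 1, 4, 3, 2, 5, 8, 7, 3, 2, 1, 0, 4, 3, 2, 1, 5, 4, 3, 7, 3]) (.leaf []))) (.node (.node (.leaf [1, 0, 2, 3, 4, 7, 3, 2, 8, 7, 3, 4, 5]) (.leaf [1, 2, 3, 4, 5, 6, 7, 3, 2, 1, 4, 3, 5, 8, 7, 3, 2, 1, 4, 3, 7]) (.leaf [1, 2, 3, 4, 5, 6, 7, 3, 2, 1, 4, 3, 5, 4, 7, 8, 7, 3, 2, 4, 3, 5, 4, 7, 3, 2]) (.leaf [1, 2, 3, 4, 5, 6, 7, 3, 2, 1, 4, 3, 2, 5, 4, 3, 8, 7, 3, 2, 4, 3, 5, 4, 7, 3, 2, 1, 0, 8, 7])) (.node (.leaf [1, 2, 3, 4, 5, 7, 3, 2, 1, 4, 8, 7, 3, 4, 5, 6]) (.leaf [1,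 2, 3, 4, 5, 6, 7, 3, 2, 4, 3, 5, 4, 8, 7, 3, 2, 1, 4, 3, 5, 7]) (.leaf [1, 2, 3, 4, 5, 6, 7, 3, 2, 1, 4, 3, 5, 4, 7, 8, 7, 3, 2, 4, 3, 5, 4, 7, 3, 8, 7]) (.leaf [])) (.node (.leaf [1, 2, 3, 4, 5, 7, 3, 2, 1, 4, 3, 7, 8, 7, 3, 4, 5, 6]) (.leaf [1, 2, 3, 4, 5, 6, 7, 3, 2, 1, 4, 3, 2, 5, 8, 7, 3, 2, 1, 0, 4, 3, 2, 1]) (.leaf [1, 2, 3, 4, 5, 6, 7, 3, 2, 1, 4, 3, 5, 4, 7, 8, 7, 3, 2, 4, 3, 5, 4, 6, 7, 3, 8, 7]) (.leaf [])) (.node (.leaf [1, 0, 2, 3, 4, 5, 6, 7, 3, 2, 4, 3, 7, 8, 7, 3, 2, 4, 3, 5]) (.leaf [1, 2, 3, 4, 5, 6, 7, 3, 2, 1, 4, 3, 5, 4, 7, 8, 7, 3, 2, 1, 4, 3, 2, 5, 4]) (.leaf [1, 2, 3, 4, 5, 6, 7, 3, 2, 1, 4, 3, 5, 4, 8, 7, 3, 2,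 1, 0, 4, 3, 2, 5, 4, 7, 3, 2, 8]) (.leaf [])))) (.node (.node (.node (.leaf [1, 0, 2, 1, 3, 2, 4, 7, 8]) (.leaf [1, 2, 3, 4, 5, 6, 7, 3, 2, 1, 4, 3, 8, 7, 3, 2, 1, 4, 3, 2]) (.leaf [1, 2, 3, 4, 5, 6, 7, 3, 2, 1, 4, 3, 5, 8, 7, 3, 2, 1, 4, 3, 5, 4, 6, 7, 8]) (.leaf [1, 2, 3, 4, 5, 6, 7, 3, 2, 1, 4, 3, 2, 5, 4, 7, 8, 7, 3, 2, 1, 4, 3, 2, 5, 4, 3, 7, 3, 4])) (.node (.leaf [1, 2, 3, 4, 5, 7, 3, 2, 1, 8, 7, 3, 4, 5]) (.leaf [1, 2, 3, 4, 5, 6, 7, 3, 2, 4, 3, 5, 8, 7, 3, 2, 4, 3, 5, 4, 6]) (.leaf [1, 2, 3, 4, 5, 6, 7, 3, 2, 1, 4, 3, 8, 7, 3, 2, 1, 4, 3, 5, 4, 7, 3, 2, 1, 0]) (.leaf [1, 2, 3, 4, 5, 6, 7, 3, 2, 1, 4, 3, 2, 5, 8, 7, 3, 2, 1, 4, 3,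 2, 5, 4, 7, 3, 4, 5, 6, 8, 7])) (.node (.leaf [1, 2, 3, 4, 5, 6, 7, 3, 2, 1, 4, 3, 2, 5, 7, 3, 8]) (.leaf [1, 2, 3, 4, 5, 6, 7, 3, 2, 1, 4, 3, 2, 8, 7, 3, 2, 1, 0, 4, 3, 2, 5]) (.leaf [1, 2, 3, 4, 5, 6, 7, 3, 2, 1, 4, 5, 8, 7, 3, 2, 1, 0, 4, 3, 2, 5, 4, 7, 3, 8, 7]) (.leaf [])) (.node (.leaf [1, 0, 2, 3, 4, 5, 6, 7, 3, 2, 4, 3, 5, 7, 8, 7, 3, 4, 5]) (.leaf [1, 2, 3, 4, 5, 6, 7, 3, 2, 1, 4, 3, 5, 7, 8, 7, 3, 2, 1, 4, 3, 5, 7, 8]) (.leaf [1, 2, 3, 4, 5, 6, 7, 3, 2, 1, 4, 5, 8, 7, 3, 2, 1, 4, 3, 2, 5, 4, 7, 3, 2, 1, 4, 8]) (.leaf []))) (.node (.node (.leaf [1, 0, 2, 3, 4, 5, 7, 3, 2, 4]) (.leaf [1, 2, 3, 4, 5, 6, 7, 3, 2, 4, 3, 7, 8, 7, 3,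 2, 1, 0, 4, 5]) (.leaf [1, 2, 3, 4, 5, 6, 7, 3, 2, 1, 4, 3, 2, 5, 4, 7, 8, 7, 3, 2, 1, 4, 3, 2, 7, 8]) (.leaf [1, 2, 3, 4, 5, 6, 7, 3, 2, 1, 4, 3, 2, 5, 7, 8, 7, 3, 2, 1, 0, 4, 3, 2, 5, 7, 3, 4, 8, 7])) (.node (.leaf [1, 2, 3, 4, 5, 6, 7, 3, 2, 1, 4, 3, 7, 8, 7]) (.leaf [1, 2, 3, 4, 5, 6, 7, 3, 2, 1, 4, 3, 2, 7, 8, 7, 3, 2, 1, 0, 4, 3]) (.leaf [1, 2, 3, 4, 5, 6, 7, 3, 2, 1, 4, 3, 2, 5, 4, 8, 7, 3, 2, 1, 0, 4, 3, 2, 7, 3, 4]) (.leaf [1, 2, 3, 4, 5, 6, 7, 3, 2, 1, 4, 3, 2, 5, 4, 8, 7, 3, 2, 1, 4, 3, 2, 5, 4, 3, 7, 3, 2, 8, 7, 3])) (.node (.leaf [1, 2, 3, 4, 5, 6, 7, 3, 2, 4, 3, 8, 7, 3, 2, 1, 0]) (.leaf [1, 2, 3, 4, 5, 6, 7, 3, 2, 1, 4, 3,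 5, 8, 7, 3, 2, 1, 4, 3, 5, 7, 8]) (.leaf [1, 2, 3, 4, 5, 6, 7, 3, 2, 1, 4, 3, 2, 5, 4, 8, 7, 3, 2, 1, 0, 4, 3, 5, 4, 6, 5, 7]) (.leaf [])) (.node (.leaf [1, 2, 3, 4, 5, 6, 7, 3, 2, 1, 4, 3, 5, 8, 7, 3, 2, 1, 0]) (.leaf [1, 2, 3, 4, 5, 6, 7, 3, 2, 4, 3, 5, 4, 8, 7, 3, 2, 1, 0, 4, 3, 2, 5, 6]) (.leaf [1, 2, 3, 4, 5, 6, 7, 3, 2, 1, 4, 3, 2, 5, 4, 8, 7, 3, 2, 1, 4, 3, 2, 5, 4, 3, 6, 7, 8]) (.leaf []))) (.node (.node (.leaf [1, 0, 2, 3, 4, 5, 6, 7, 3, 2, 4, 5]) (.leaf [1, 2, 3, 4, 5, 6, 7, 3, 2, 1, 4, 3, 2, 5, 8, 7, 3, 2, 4, 3, 7]) (.leaf [1, 2, 3, 4, 5, 6, 7, 3, 2, 1, 4, 3, 2, 5, 8, 7, 3, 2, 1, 0, 4, 3, 2, 7, 3, 8]) (.leaf [1, 2, 3, 4, 5, 6,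 7, 3, 2, 1, 4, 3, 5, 4, 8, 7, 3, 2, 1, 0, 4, 3, 2, 5, 4, 7, 3, 4, 8, 7])) (.node (.leaf [1, 0, 2, 3, 4, 5, 7, 3, 2, 4, 8, 7, 3, 2, 1, 4]) (.leaf [1, 2, 3, 4, 5, 6, 7, 3, 2, 1, 4, 3, 7, 8, 7, 3, 2, 1, 4, 3, 5, 6]) (.leaf [1, 2, 3, 4, 5, 6, 7, 3, 2, 1, 4, 3, 2, 5, 8, 7, 3, 2, 1, 0, 4, 3, 2, 5, 7, 3, 4]) (.leaf [1, 2, 3, 4, 5, 6, 7, 3, 2, 1, 4, 3, 2, 5, 4, 8, 7, 3, 2, 1, 4, 3, 2, 5, 4, 3, 7, 3, 4, 5, 8, 7, 3])) (.node (.leaf [1, 0, 2, 3, 4, 5, 6, 7, 3, 4, 5, 8, 7, 3, 2, 1, 0, 4]) (.leaf [1, 2, 3, 4, 5, 6, 7, 3, 2, 4, 3, 8, 7, 3, 2, 1, 4, 3, 2, 5, 4, 3, 7]) (.leaf [1, 2, 3, 4, 5, 6, 7, 3, 2, 1, 4, 3, 2, 5, 8, 7, 3, 2, 1, 0, 4, 3, 2, 5, 4, 6,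 7, 3]) (.leaf [])) (.node (.leaf [1, 2, 3, 4, 5, 6, 7, 3, 2, 4, 3, 5, 8, 7, 3, 2, 1, 4, 3]) (.leaf [1, 2, 3, 4, 5, 6, 7, 3, 2, 1, 4, 3, 2, 5, 7, 8, 7, 3, 2, 1, 0, 4, 3, 7, 8]) (.leaf [1, 2, 3, 4, 5, 6, 7, 3, 2, 1, 4, 3, 2, 5, 8, 7, 3, 2, 1, 0, 4, 3, 2, 5, 6, 7, 3, 8, 7]) (.leaf []))) (.node (.node (.leaf [1, 2, 3, 4, 5, 6, 7, 3, 2, 1, 4, 8, 7]) (.leaf [1, 2, 3, 4, 5, 6, 7, 3, 2, 1, 4, 3, 8, 7, 3, 2, 1, 0, 4, 3, 5]) (.leaf [1, 2, 3, 4, 5, 6, 7, 3, 2, 1, 4, 3, 5, 4, 8, 7, 3, 2, 1, 0, 4, 3, 5, 6, 7, 8]) (.leaf [1, 2, 3, 4, 5, 6, 7, 3, 2, 1, 4, 3, 2, 5, 4, 8, 7, 3, 2, 1, 0, 4, 3, 2, 5, 4, 3, 6, 7, 3, 8])) (.node (.leaf [1, 2, 3, 4, 5, 6, 7,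 3, 2, 4, 3, 7, 8, 7, 3, 4]) (.leaf [1, 2, 3, 4, 5, 6, 7, 3, 2, 4, 3, 5, 8, 7, 3, 2, 1, 4, 3, 2, 5, 7]) (.leaf [1, 2, 3, 4, 5, 6, 7, 3, 2, 1, 4, 3, 5, 4, 8, 7, 3, 2, 1, 4, 3, 2, 5, 4, 3, 7, 3]) (.leaf [])) (.node (.leaf [1, 2, 3, 4, 5, 6, 7, 3, 2, 1, 4, 8, 7, 3, 2, 4, 3, 7]) (.leaf [1, 2, 3, 4, 5, 6, 7, 3, 2, 1, 4, 3, 2, 5, 8, 7, 3, 2, 4, 3, 5, 4, 6, 5]) (.leaf [1, 2, 3, 4, 5, 6, 7, 3, 2, 1, 4, 3, 5, 4, 8, 7, 3, 2, 1, 0, 4, 3, 5, 4, 6, 7, 3, 2]) (.leaf [])) (.node (.leaf [1, 2, 3, 4, 5, 6, 7, 3, 2, 1, 4, 3, 2, 5, 4, 8, 7, 3, 2, 4]) (.leaf [1, 2, 3, 4, 5, 6, 7, 3, 2, 1, 4, 3, 5, 4, 8, 7, 3, 2, 1, 0, 4, 3, 2, 5, 7]) (.leaf [1, 2, 3, 4, 5,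 6, 7, 3, 2, 1, 4, 3, 5, 4, 8, 7, 3, 2, 1, 4, 3, 2, 5, 4, 7, 3, 2, 4, 5]) (.leaf [])))) (.node (.node (.node (.leaf [1, 0, 2, 3, 4, 5, 7, 8]) (.leaf [1, 2, 3, 4, 5, 7, 3, 2, 1, 4, 3, 8, 7, 3, 2, 1, 4, 3, 5, 6]) (.leaf [1, 2, 3, 4, 5, 6, 7, 3, 2, 1, 4, 5, 8, 7, 3, 2, 1, 0, 4, 3, 5, 4, 7, 3, 2]) (.leaf [1, 2, 3, 4, 5, 6, 7, 3, 2, 1, 4, 3, 2, 5, 4, 8, 7, 3, 2, 1, 0, 4, 3, 2, 5, 4, 3, 6, 7, 3])) (.node (.leaf [1, 2, 3, 4, 5, 7, 3, 2, 4, 8, 7, 3, 2, 1]) (.leaf [1, 0, 2, 3, 4, 5, 6, 7, 3, 2, 4, 3, 5, 4, 8, 7, 3, 2, 1, 4, 3, 2]) (.leaf [1, 2, 3, 4, 5, 6, 7, 3, 2, 1, 4, 5, 8, 7, 3, 2, 1, 4, 3, 2, 5, 6, 7, 3, 4, 8]) (.leaf [1, 2, 3, 4, 5, 6, 7, 3,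 2, 1, 4, 3, 5, 4, 8, 7, 3, 2, 1, 0, 4, 3, 2, 5, 4, 7, 3, 2, 8, 7, 3])) (.node (.leaf [1, 2, 3, 4, 5, 6, 7, 3, 2, 1, 4, 3, 5, 4, 8, 7, 3]) (.leaf [1, 2, 3, 4, 5, 6, 7, 3, 2, 1, 4, 3, 5, 4, 7, 8, 7, 3, 2, 1, 4, 3, 7]) (.leaf [1, 2, 3, 4, 5, 6, 7, 3, 2, 1, 4, 3, 2, 5, 4, 3, 8, 7, 3, 2, 1, 0, 4, 3, 2, 1, 7, 8]) (.leaf [])) (.node (.leaf [1, 0, 2, 3, 4, 5, 6, 7, 3, 2, 4, 5, 8, 7, 3, 2, 1, 0, 4]) (.leaf [1, 2, 3, 4, 5, 6, 7, 3, 2, 1, 4, 3, 5, 8, 7, 3, 2, 1, 4, 3, 2, 5, 4, 7]) (.leaf [1, 2, 3, 4, 5, 6, 7, 3, 2, 1, 4, 3, 2, 5, 4, 3, 8, 7, 3, 2, 1, 4, 3, 2, 5, 7, 3, 8, 7]) (.leaf []))) (.node (.node (.leaf [1, 2, 3, 4, 5, 7, 3, 2, 1, 8]) (.leaf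 [1, 2, 3, 4, 5, 6, 7, 3, 4, 5, 8, 7, 3, 2, 1, 4, 3, 2, 7, 3]) (.leaf [1, 2, 3, 4, 5, 6, 7, 3, 2, 1, 4, 3, 2, 5, 4, 8, 7, 3, 2, 1, 4, 3, 2, 5, 4, 3]) (.leaf [1, 2, 3, 4, 5, 6, 7, 3, 2, 1, 4, 3, 2, 5, 8, 7, 3, 2, 1, 0, 4, 3, 2, 5, 4, 6, 7, 3, 8, 7])) (.node (.leaf [1, 2, 3, 4, 7, 3, 2, 1, 8, 7, 3, 2, 4, 3, 5]) (.leaf [1, 2, 3, 4, 5, 6, 7, 3, 2, 1, 4, 3, 2, 8, 7, 3, 2, 4, 3, 5, 4, 7]) (.leaf [1, 2, 3, 4, 5, 6, 7, 3, 2, 1, 4, 3, 2, 5, 4, 8, 7, 3, 2, 1, 4, 3, 2, 5, 7, 3, 8]) (.leaf [1, 2, 3, 4, 5, 6, 7, 3, 2, 1, 4, 3, 2, 5, 7, 8, 7, 3, 2, 1, 4, 3, 2, 5, 4, 7, 3, 4, 5, 8, 7, 3])) (.node (.leaf [1, 2, 3, 4, 5, 6, 7, 3, 2, 4, 5, 8, 7, 3, 2, 1,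 4]) (.leaf [1, 2, 3, 4, 5, 6, 7, 3, 2, 1, 4, 5, 8, 7, 3, 2, 1, 0, 4, 3, 2, 5, 6]) (.leaf [1, 2, 3, 4, 5, 6, 7, 3, 2, 1, 4, 3, 2, 5, 4, 8, 7, 3, 2, 1, 4, 3, 2, 5, 7, 3, 8, 7]) (.leaf [])) (.node (.leaf [1, 2, 3, 4, 5, 7, 3, 2, 1, 4, 3, 7, 8, 7, 3, 2, 1, 0, 4]) (.leaf [1, 2, 3, 4, 5, 6, 7, 3, 2, 1, 4, 3, 2, 5, 4, 3, 8, 7, 3, 2, 1, 0, 4, 5, 6]) (.leaf [1, 2, 3, 4, 5, 6, 7, 3, 2, 1, 4, 3, 2, 5, 4, 8, 7, 3, 2, 1, 4, 3, 2, 7, 3, 4, 5, 6, 8]) (.leaf []))) (.node (.node (.leaf [1, 2, 3, 4, 5, 7, 3, 2, 1, 4, 3, 8]) (.leaf [1, 2, 3, 4, 5, 6, 7, 3, 2, 1, 4, 3, 2, 8, 7, 3, 2, 4, 3, 7, 8]) (.leaf [1, 2, 3, 4, 5, 6, 7, 3, 2, 1, 4, 3, 2, 5, 8, 7, 3, 2,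 1, 4, 3, 2, 7, 3, 4, 8]) (.leaf [1, 2, 3, 4, 5, 6, 7, 3, 2, 1, 4, 3, 5, 4, 8, 7, 3, 2, 1, 4, 3, 5, 4, 6, 7, 3, 2, 8, 7, 3])) (.node (.leaf [1, 2, 3, 4, 5, 6, 7, 3, 2, 1, 4, 3, 2, 7, 3, 4]) (.leaf [1, 2, 3, 4, 5, 6, 7, 3, 2, 1, 4, 5, 8, 7, 3, 2, 1, 0, 4, 3, 7, 8]) (.leaf [1, 2, 3, 4, 5, 6, 7, 3, 2, 1, 4, 3, 2, 5, 8, 7, 3, 2, 1, 4, 3, 2, 5, 7, 3, 4, 5]) (.leaf [1, 2, 3, 4, 5, 6, 7, 3, 2, 1, 4, 3, 2, 5, 4, 7, 8, 7, 3, 2, 1, 4, 3, 2, 5, 4, 3, 7, 3, 2, 8, 7, 3, 4])) (.node (.leaf [1, 2, 3, 4, 5, 6, 7, 3, 2, 1, 4, 3, 2, 8, 7, 3, 2, 1]) (.leaf [1, 2, 3, 4, 5, 6, 7, 3, 2, 1, 4, 3, 2, 5, 4, 7, 8, 7, 3, 2, 1, 4, 3, 7]) (.leaf [1, 2, 3, 4, 5, 6, 7,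 3, 2, 1, 4, 3, 2, 5, 8, 7, 3, 2, 1, 4, 3, 2, 5, 4, 7, 3, 2, 1]) (.leaf [])) (.node (.leaf [1, 2, 3, 4, 5, 6, 7, 3, 2, 4, 3, 8, 7, 3, 2, 4, 3, 5, 6]) (.leaf [1, 2, 3, 4, 5, 6, 7, 3, 2, 1, 4, 3, 2, 5, 8, 7, 3, 2, 1, 0, 4, 3, 5, 4, 7]) (.leaf [1, 2, 3, 4, 5, 6, 7, 3, 2, 1, 4, 3, 2, 5, 8, 7, 3, 2, 1, 4, 3, 2, 5, 4, 7, 3, 4, 5, 6]) (.leaf []))) (.node (.node (.leaf [1, 2, 3, 4, 5, 7, 3, 2, 4, 8, 7, 3, 2]) (.leaf [1, 2, 3, 4, 5, 6, 7, 3, 2, 1, 4, 5, 8, 7, 3, 2, 1, 4, 3, 5, 4]) (.leaf [1, 2, 3, 4, 5, 6, 7, 3, 2, 1, 4, 3, 5, 4, 8, 7, 3, 2, 1, 4, 3, 5, 4, 7, 3, 2]) (.leaf [1, 2, 3, 4, 5, 6, 7, 3, 2, 1, 4, 3, 2, 5, 4, 8, 7, 3, 2, 1, 4, 3, 2, 5, 4,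 3, 7, 3, 4, 8, 7])) (.node (.leaf [1, 2, 3, 4, 5, 6, 7, 3, 2, 4, 8, 7, 3, 2, 1, 4]) (.leaf [1, 2, 3, 4, 5, 6, 7, 3, 2, 1, 4, 3, 2, 5, 4, 3, 8, 7, 3, 2, 1, 0, 4]) (.leaf [1, 2, 3, 4, 5, 6, 7, 3, 2, 1, 4, 3, 5, 4, 8, 7, 3, 2, 1, 4, 3, 5, 4, 7, 3, 2, 1]) (.leaf [])) (.node (.leaf [1, 2, 3, 4, 5, 6, 7, 3, 2, 4, 3, 5, 4, 8, 7, 3, 2, 4]) (.leaf [1, 2, 3, 4, 5, 6, 7, 3, 2, 1, 4, 3, 5, 4, 7, 3, 8, 7, 3, 2, 4, 3, 5, 6]) (.leaf [1, 2, 3, 4, 5, 6, 7, 3, 2, 1, 4, 3, 5, 4, 8, 7, 3, 2, 1, 4, 3, 2, 5, 7, 3, 4, 5, 6]) (.leaf [])) (.node (.leaf [1, 2, 3, 4, 5, 6, 7, 3, 2, 1, 4, 3, 2, 7, 8, 7, 3, 2, 4, 5]) (.leaf [1, 2, 3, 4, 5, 6, 7, 3, 2, 1, 4, 3, 5, 4,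 8, 7, 3, 2, 1, 4, 3, 5, 4, 6, 7]) (.leaf [1, 2, 3, 4, 5, 6, 7, 3, 2, 1, 4, 3, 5, 7, 8, 7, 3, 2, 1, 4, 3, 2, 5, 4, 7, 3, 2, 8, 7]) (.leaf [])))))
def pathTree2 : SporBound.Q (List ℕ) := (.node (.node (.node (.node (.leaf [1, 2]) (.leaf [1, 2, 3, 4, 5, 6, 7, 3, 2, 1, 4, 3, 8, 7, 3, 2, 4, 3, 7, 8]) (.leaf [1, 2, 3, 4, 5, 6, 7, 3, 2, 1, 4, 3, 5, 7, 8, 7, 3, 2, 1, 4, 3, 2, 5, 4, 7]) (.leaf [1, 2, 3, 4, 5, 6, 7, 3, 2, 1, 4, 3, 5, 8, 7, 3, 2, 1, 4, 3, 2, 5, 4, 7, 3, 2, 1, 8, 7])) (.node (.leaf [1, 0, 2, 3, 4, 5, 7, 3, 2, 4, 8, 7, 3, 2]) (.leaf [1, 2, 3, 4, 5, 6, 7, 3, 2, 4, 3, 5, 4, 7, 8, 7, 3, 2, 1, 4, 5]) (.leaf [1, 2, 3, 4, 5, 6, 7, 3, 2, 1,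 4, 3, 5, 7, 8, 7, 3, 2, 1, 4, 3, 2, 5, 7, 3, 8]) (.leaf [1, 2, 3, 4, 5, 6, 7, 3, 2, 1, 4, 3, 2, 5, 7, 8, 7, 3, 2, 1, 0, 4, 3, 2, 5, 4, 7, 3, 4, 8, 7])) (.node (.leaf [1, 0, 2, 3, 4, 5, 6, 7, 3, 2, 4, 3, 7, 8, 7, 3, 4]) (.leaf [1, 2, 3, 4, 5, 6, 7, 3, 2, 1, 4, 3, 2, 5, 4, 8, 7, 3, 2, 4, 3, 5, 6]) (.leaf [1, 2, 3, 4, 5, 6, 7, 3, 2, 1, 4, 3, 5, 7, 8, 7, 3, 2, 1, 4, 3, 2, 5, 7, 3, 4, 8]) (.leaf [])) (.node (.leaf [1, 2, 3, 4, 5, 6, 7, 3, 2, 4, 3, 8, 7, 3, 2, 1, 4, 5]) (.leaf [1, 2, 3, 4, 5, 6, 7, 3, 2, 1, 4, 3, 5, 4, 8, 7, 3, 2, 1, 0, 4, 3, 5, 6]) (.leaf [1, 2, 3, 4, 5, 6, 7, 3, 2, 1, 4, 3, 5, 8, 7, 3, 2, 1, 0, 4, 3, 2, 5, 4, 7, 3, 2, 1]) (.leaf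 []))) (.node (.node (.leaf [1, 2, 3, 4, 5, 6, 7, 3]) (.leaf [1, 2, 3, 4, 5, 6, 7, 3, 2, 1, 4, 8, 7, 3, 2, 4, 3, 5, 4, 6]) (.leaf [1, 2, 3, 4, 5, 6, 7, 3, 2, 1, 4, 8, 7, 3, 2, 1, 4, 3, 5, 4, 7, 3, 2, 1, 0]) (.leaf [1, 2, 3, 4, 5, 6, 7, 3, 2, 1, 4, 3, 2, 5, 4, 8, 7, 3, 2, 1, 4, 3, 2, 5, 4, 3, 7, 3, 2, 1])) (.node (.leaf [1, 0, 2, 3, 4, 5, 7, 3, 2, 4, 3, 8, 7, 3, 4]) (.leaf [1, 2, 3, 4, 5, 6, 7, 3, 2, 1, 4, 3, 2, 5, 4, 3, 8, 7, 3, 2, 1, 4]) (.leaf [1, 2, 3, 4, 5, 6, 7, 3, 2, 1, 4, 3, 2, 5, 4, 3, 8, 7, 3, 2, 1, 0, 4, 3, 5, 7, 8]) (.leaf [1, 2, 3, 4, 5, 6, 7, 3, 2, 1, 4, 3, 5, 8, 7, 3, 2, 1, 4, 3, 2, 5, 4, 7, 3, 2, 1, 4, 5, 8, 7])) (.node (.leaf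 [1, 2, 3, 4, 5, 6, 7, 3, 2, 1, 4, 5, 8, 7, 3, 2, 1]) (.leaf [1, 2, 3, 4, 5, 6, 7, 3, 2, 1, 4, 3, 5, 4, 8, 7, 3, 2, 4, 3, 5, 4, 7]) (.leaf [1, 2, 3, 4, 5, 6, 7, 3, 2, 1, 4, 3, 2, 5, 4, 3, 8, 7, 3, 2, 4, 3, 5, 4, 7, 3, 2, 1]) (.leaf [])) (.node (.leaf [1, 2, 3, 4, 5, 6, 7, 3, 2, 1, 4, 3, 2, 5, 8, 7, 3, 2, 1]) (.leaf [1, 2, 3, 4, 5, 6, 7, 3, 2, 1, 4, 3, 8, 7, 3, 2, 1, 4, 3, 5, 4, 7, 3, 2]) (.leaf [1, 2, 3, 4, 5, 6, 7, 3, 2, 1, 4, 3, 2, 5, 4, 7, 8, 7, 3, 2, 1, 4, 3, 2, 5, 4, 7, 3, 8]) (.leaf []))) (.node (.node (.leaf [1, 0, 2, 3, 4, 7, 3, 2, 8, 7, 3]) (.leaf [1, 0, 2, 3, 4, 5, 6, 7, 3, 2, 4, 3, 5, 8, 7, 3, 2, 1, 0, 4, 5]) (.leaf [1, 2, 3,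 4, 5, 6, 7, 3, 2, 1, 4, 3, 2, 5, 4, 8, 7, 3, 2, 4, 3, 5, 4, 7, 3, 8]) (.leaf [1, 2, 3, 4, 5, 6, 7, 3, 2, 1, 4, 3, 2, 5, 8, 7, 3, 2, 1, 4, 3, 2, 5, 4, 7, 3, 2, 1, 4, 8])) (.node (.leaf [1, 2, 3, 4, 5, 6, 7, 3, 2, 4, 5, 8, 7, 3, 4]) (.leaf [1, 2, 3, 4, 5, 6, 7, 3, 2, 1, 4, 3, 5, 4, 8, 7, 3, 2, 4, 3, 5, 4]) (.leaf [1, 2, 3, 4, 5, 6, 7, 3, 2, 1, 4, 3, 2, 5, 7, 3, 8, 7, 3, 2, 1, 0, 4, 3, 2, 7, 3]) (.leaf [1, 2, 3, 4, 5, 6, 7, 3, 2, 1, 4, 3, 2, 5, 8, 7, 3, 2, 1, 4, 3, 2, 5, 4, 7, 3, 2, 4, 5, 6, 8, 7])) (.node (.leaf [1, 0, 2, 3, 4, 5, 6, 7, 3, 2, 4, 3, 5, 4, 8, 7, 3, 4]) (.leaf [1, 2, 3, 4, 5, 6, 7, 3, 2, 1, 4, 5, 8, 7, 3, 2, 1, 4, 3, 5, 6, 7,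 8]) (.leaf [1, 2, 3, 4, 5, 6, 7, 3, 2, 1, 4, 3, 2, 5, 4, 8, 7, 3, 2, 4, 3, 5, 4, 7, 3, 2, 8, 7]) (.leaf [])) (.node (.leaf [1, 2, 3, 4, 5, 6, 7, 3, 2, 1, 4, 5, 8, 7, 3, 2, 4, 3, 7]) (.leaf [1, 2, 3, 4, 5, 6, 7, 3, 2, 1, 4, 3, 2, 5, 4, 7, 8, 7, 3, 2, 4, 3, 5, 7, 8]) (.leaf [1, 2, 3, 4, 5, 6, 7, 3, 2, 1, 4, 3, 2, 5, 7, 8, 7, 3, 2, 1, 0, 4, 3, 2, 1, 5, 4, 7, 3]) (.leaf []))) (.node (.node (.leaf [1, 2, 3, 4, 5, 7, 3, 2, 8, 7, 3, 4]) (.leaf [1, 2, 3, 4, 5, 6, 7, 3, 2, 1, 4, 3, 5, 4, 8, 7, 3, 2, 1, 4, 3]) (.leaf [1, 2, 3, 4, 5, 6, 7, 3, 2, 1, 4, 3, 5, 4, 7, 3, 8, 7, 3, 2, 4, 3, 5, 4, 6, 7]) (.leaf [1, 2, 3, 4, 5, 6, 7, 3, 2, 1, 4, 3, 5, 8, 7,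 3, 2, 1, 4, 3, 2, 5, 4, 7, 3, 2, 4, 8, 7, 3])) (.node (.leaf [1, 2, 3, 4, 5, 6, 7, 3, 2, 1, 4, 3, 8, 7, 3, 4]) (.leaf [1, 2, 3, 4, 5, 6, 7, 3, 2, 1, 4, 8, 7, 3, 2, 4, 3, 5, 4, 7, 3, 2]) (.leaf [1, 2, 3, 4, 5, 6, 7, 3, 2, 1, 4, 3, 5, 4, 7, 3, 8, 7, 3, 2, 4, 3, 5, 4, 6, 7, 8]) (.leaf [])) (.node (.leaf [1, 2, 3, 4, 5, 6, 7, 3, 2, 1, 4, 3, 5, 8, 7, 3, 2, 1]) (.leaf [1, 2, 3, 4, 5, 6, 7, 3, 2, 1, 4, 3, 2, 5, 4, 8, 7, 3, 2, 4, 3, 5, 7, 8]) (.leaf [1, 2, 3, 4, 5, 6, 7, 3, 2, 1, 4, 3, 2, 5, 8, 7, 3, 2, 4, 3, 5, 4, 7, 3, 2, 1, 0, 8]) (.leaf [])) (.node (.leaf [1, 0, 2, 3, 4, 5, 6, 7, 3, 2, 4, 3, 5, 4, 8, 7, 3, 2, 4, 3]) (.leaf [1, 2, 3, 4, 5, 6,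 7, 3, 2, 1, 4, 3, 2, 5, 8, 7, 3, 2, 4, 3, 5, 4, 6, 7, 3]) (.leaf [1, 2, 3, 4, 5, 6, 7, 3, 2, 1, 4, 3, 5, 4, 7, 8, 7, 3, 2, 1, 4, 3, 2, 5, 4, 7, 3, 2, 8]) (.leaf [])))) (.node (.node (.node (.leaf [1, 2, 3, 4, 5]) (.leaf [1, 2, 3, 4, 5, 6, 7, 3, 2, 1, 4, 3, 5, 7, 8, 7, 3, 4, 5, 6]) (.leaf [1, 2, 3, 4, 5, 6, 7, 3, 2, 1, 4, 3, 5, 8, 7, 3, 2, 1, 0, 4, 3, 5, 4, 6, 7]) (.leaf [1, 2, 3, 4, 5, 6, 7, 3, 2, 1, 4, 3, 2, 5, 4, 3, 8, 7, 3, 2, 1, 0, 4, 3, 2, 7, 3, 4, 8, 7])) (.node (.leaf [1, 2, 3, 4, 5, 7, 3, 2, 1, 4, 3, 2, 8, 7]) (.leaf [1, 2, 3, 4, 5, 6, 7, 3, 2, 4, 3, 5, 7, 8, 7, 3, 2, 1, 4, 3, 5]) (.leaf [1, 2, 3, 4, 5, 6, 7, 3, 2, 1, 4, 3, 5, 8,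 7, 3, 2, 1, 4, 3, 2, 5, 4, 7, 3, 8]) (.leaf [1, 2, 3, 4, 5, 6, 7, 3, 2, 1, 4, 3, 2, 5, 8, 7, 3, 2, 1, 0, 4, 3, 2, 5, 6, 7, 3, 4, 8, 7, 3])) (.node (.leaf [1, 0, 2, 3, 4, 5, 6, 7, 3, 2, 4, 8, 7, 3, 2, 1, 4]) (.leaf [1, 2, 3, 4, 5, 6, 7, 3, 2, 1, 4, 3, 2, 5, 8, 7, 3, 2, 1, 0, 4, 3, 7]) (.leaf [1, 2, 3, 4, 5, 6, 7, 3, 2, 1, 4, 3, 5, 8, 7, 3, 2, 1, 4, 3, 2, 5, 4, 7, 3, 8, 7]) (.leaf [])) (.node (.leaf [1, 2, 3, 4, 5, 6, 7, 3, 2, 4, 8, 7, 3, 2, 1, 0, 4, 5]) (.leaf [1, 2, 3, 4, 5, 6, 7, 3, 2, 1, 4, 3, 5, 4, 8, 7, 3, 2, 4, 3, 5, 6, 7, 8]) (.leaf [1, 2, 3, 4, 5, 6, 7, 3, 2, 1, 4, 3, 5, 8, 7, 3, 2, 1, 4, 3, 2, 5, 4, 7, 3, 2, 4, 5]) (.leaf [])))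 (.node (.node (.leaf [1, 0, 2, 1, 3, 4, 5, 6, 7, 8]) (.leaf [1, 2, 3, 4, 5, 6, 7, 3, 2, 4, 3, 5, 7, 8, 7, 3, 2, 1, 4, 3]) (.leaf [1, 2, 3, 4, 5, 6, 7, 3, 2, 1, 4, 3, 2, 5, 4, 3, 8, 7, 3, 2, 1, 0, 4, 3, 5, 7]) (.leaf [1, 2, 3, 4, 5, 6, 7, 3, 2, 1, 4, 3, 2, 5, 4, 8, 7, 3, 2, 1, 4, 3, 2, 5, 7, 3, 4, 8, 7, 3])) (.node (.leaf [1, 0, 2, 1, 3, 4, 5, 7, 3, 4, 8, 7, 3, 2, 1, 0]) (.leaf [1, 2, 3, 4, 5, 6, 7, 3, 2, 1, 4, 3, 2, 5, 7, 8, 7, 3, 2, 1, 0, 4]) (.leaf [1, 2, 3, 4, 5, 6, 7, 3, 2, 1, 4, 3, 2, 5, 4, 7, 8, 7, 3, 2, 1, 4, 3, 2, 7, 3, 8]) (.leaf [1, 2, 3, 4, 5, 6, 7, 3, 2, 1, 4, 3, 2, 5, 4, 7, 8, 7, 3, 2, 1, 4, 3, 2, 5, 7, 3, 4, 8, 7, 3, 2]))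 (.node (.leaf [1, 2, 3, 4, 5, 6, 7, 3, 2, 1, 8, 7, 3, 2, 4, 5, 6]) (.leaf [1, 2, 3, 4, 5, 6, 7, 3, 2, 1, 4, 3, 5, 8, 7, 3, 2, 1, 0, 4, 3, 2, 1]) (.leaf [1, 2, 3, 4, 5, 6, 7, 3, 2, 1, 4, 3, 2, 5, 4, 8, 7, 3, 2, 1, 0, 4, 3, 2, 1, 5, 7, 8]) (.leaf [])) (.node (.leaf [1, 2, 3, 4, 5, 7, 3, 2, 1, 4, 3, 2, 8, 7, 3, 2, 1, 0, 4]) (.leaf [1, 2, 3, 4, 5, 6, 7, 3, 2, 1, 4, 5, 8, 7, 3, 2, 1, 4, 3, 2, 5, 7, 3, 8]) (.leaf [1, 2, 3, 4, 5, 6, 7, 3, 2, 1, 4, 3, 2, 5, 4, 8, 7, 3, 2, 1, 0, 4, 3, 2, 5, 4, 6, 5, 7]) (.leaf []))) (.node (.node (.leaf [1, 2, 3, 4, 5, 6, 7, 3, 2, 4, 3]) (.leaf [1, 2, 3, 4, 5, 6, 7, 3, 2, 1, 4, 3, 2, 5, 4, 8, 7, 3, 2, 1, 0]) (.leaf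 [1, 2, 3, 4, 5, 6, 7, 3, 2, 1, 4, 3, 2, 5, 7, 8, 7, 3, 2, 1, 4, 3, 2, 5, 7, 3]) (.leaf [1, 2, 3, 4, 5, 6, 7, 3, 2, 1, 4, 3, 5, 4, 7, 8, 7, 3, 2, 1, 4, 3, 2, 5, 4, 3, 7, 3, 8, 7])) (.node (.leaf [1, 0, 2, 3, 4, 5, 6, 7, 3, 2, 4, 3, 5, 8, 7, 3]) (.leaf [1, 2, 3, 4, 5, 6, 7, 3, 2, 1, 4, 3, 5, 8, 7, 3, 2, 1, 0, 4, 3, 7]) (.leaf [1, 2, 3, 4, 5, 6, 7, 3, 2, 1, 4, 3, 2, 5, 7, 8, 7, 3, 2, 1, 4, 3, 2, 5, 7, 3, 8]) (.leaf [1, 2, 3, 4, 5, 6, 7, 3, 2, 1, 4, 3, 5, 8, 7, 3, 2, 1, 4, 3, 2, 5, 4, 7, 3, 2, 1, 4, 5, 8, 7, 3])) (.node (.leaf [1, 0, 2, 3, 4, 5, 7, 3, 2, 4, 3, 7, 8, 7, 3, 2, 4, 3]) (.leaf [1, 2, 3, 4, 5, 6, 7, 3, 2, 4, 3, 5, 4, 8, 7, 3, 2,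 1, 0, 4, 3, 5, 7]) (.leaf [1, 2, 3, 4, 5, 6, 7, 3, 2, 1, 4, 3, 2, 5, 7, 8, 7, 3, 2, 1, 4, 3, 2, 5, 4, 7, 3, 4]) (.leaf [])) (.node (.leaf [1, 2, 3, 4, 5, 6, 7, 3, 2, 4, 3, 5, 4, 7, 3, 8, 7, 3, 4]) (.leaf [1, 2, 3, 4, 5, 6, 7, 3, 2, 1, 4, 3, 2, 5, 4, 8, 7, 3, 2, 1, 4, 3, 5, 7, 8]) (.leaf [1, 2, 3, 4, 5, 6, 7, 3, 2, 1, 4, 3, 2, 5, 8, 7, 3, 2, 1, 0, 4, 3, 2, 1, 5, 4, 3, 7, 8]) (.leaf []))) (.node (.node (.leaf [1, 0, 2, 3, 4, 5, 6, 7, 3, 4, 5, 8, 7]) (.leaf [1, 2, 3, 4, 5, 6, 7, 3, 2, 1, 4, 3, 5, 8, 7, 3, 2, 1, 4, 5, 6]) (.leaf [1, 2, 3, 4, 5, 6, 7, 3, 2, 1, 4, 3, 5, 4, 7, 8, 7, 3, 2, 4, 3, 5, 4, 7, 3, 8]) (.leaf [1, 2, 3, 4, 5, 6, 7, 3, 2,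 1, 4, 3, 2, 5, 4, 3, 8, 7, 3, 2, 4, 3, 5, 4, 7, 3, 2, 1, 8, 7, 3])) (.node (.leaf [1, 2, 3, 4, 5, 6, 7, 3, 2, 1, 8, 7, 3, 2, 4, 3]) (.leaf [1, 2, 3, 4, 5, 6, 7, 3, 2, 4, 3, 5, 4, 8, 7, 3, 2, 1, 4, 3, 7, 8]) (.leaf [1, 2, 3, 4, 5, 6, 7, 3, 2, 1, 4, 3, 5, 4, 8, 7, 3, 2, 1, 0, 4, 3, 2, 1, 5, 4, 7]) (.leaf [])) (.node (.leaf [1, 2, 3, 4, 5, 7, 3, 2, 1, 4, 3, 8, 7, 3, 2, 1, 0, 4]) (.leaf [1, 2, 3, 4, 5, 6, 7, 3, 2, 1, 4, 3, 2, 5, 8, 7, 3, 2, 1, 0, 4, 3, 2, 5]) (.leaf [1, 2, 3, 4, 5, 6, 7, 3, 2, 1, 4, 3, 5, 4, 7, 8, 7, 3, 2, 4, 3, 5, 4, 7, 3, 2, 1, 0]) (.leaf [])) (.node (.leaf [1, 0, 2, 3, 4, 5, 6, 7, 3, 2, 4, 3, 7, 8, 7, 3, 2, 4, 5, 6]) (.leaf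 [1, 2, 3, 4, 5, 6, 7, 3, 2, 1, 4, 3, 5, 4, 7, 8, 7, 3, 2, 1, 4, 3, 2, 5, 6]) (.leaf [1, 2, 3, 4, 5, 6, 7, 3, 2, 1, 4, 3, 5, 4, 8, 7, 3, 2, 1, 0, 4, 3, 2, 5, 4, 7, 3, 4, 8]) (.leaf [])))) (.node (.node (.node (.leaf [1, 0, 2, 1, 3, 2, 7, 3]) (.leaf [1, 2, 3, 4, 5, 6, 7, 3, 2, 1, 4, 3, 8, 7, 3, 2, 1, 4, 3, 5]) (.leaf [1, 2, 3, 4, 5, 6, 7, 3, 2, 1, 4, 3, 5, 8, 7, 3, 2, 1, 4, 3, 5, 4, 7, 3, 2]) (.leaf [1, 2, 3, 4, 5, 6, 7, 3, 2, 1, 4, 3, 2, 5, 4, 7, 8, 7, 3, 2, 1, 4, 3, 2, 5, 4, 3, 7, 3, 8])) (.node (.leaf [1, 2, 3, 4, 7, 3, 2, 1, 8, 7, 3, 2, 4, 3]) (.leaf [1, 2, 3, 4, 5, 6, 7, 3, 2, 4, 3, 5, 8, 7, 3, 2, 4, 3, 5, 4, 7]) (.leaf [1, 2, 3, 4,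 5, 6, 7, 3, 2, 1, 4, 5, 8, 7, 3, 2, 1, 0, 4, 3, 2, 5, 4, 6, 7, 3]) (.leaf [1, 2, 3, 4, 5, 6, 7, 3, 2, 1, 4, 3, 2, 5, 8, 7, 3, 2, 1, 4, 3, 2, 5, 4, 7, 3, 4, 5, 8, 7, 3])) (.node (.leaf [1, 2, 3, 4, 5, 6, 7, 3, 2, 1, 4, 3, 2, 5, 7, 8, 7]) (.leaf [1, 2, 3, 4, 5, 6, 7, 3, 2, 1, 4, 3, 2, 8, 7, 3, 2, 1, 0, 4, 3, 5, 4]) (.leaf [1, 2, 3, 4, 5, 6, 7, 3, 2, 1, 4, 5, 8, 7, 3, 2, 1, 0, 4, 3, 5, 4, 7, 3, 2, 1, 8]) (.leaf [])) (.node (.leaf [1, 0, 2, 3, 4, 5, 6, 7, 3, 2, 4, 3, 5, 8, 7, 3, 2, 1, 0]) (.leaf [1, 2, 3, 4, 5, 6, 7, 3, 2, 1, 4, 3, 5, 7, 8, 7, 3, 2, 4, 3, 5, 4, 6, 7]) (.leaf [1, 2, 3, 4, 5, 6, 7, 3, 2, 1, 4, 5, 8, 7, 3, 2, 1, 4, 3, 2, 5, 4,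 7, 3, 2, 1, 8, 7]) (.leaf []))) (.node (.node (.leaf [1, 0, 2, 3, 4, 5, 6, 7, 3, 2]) (.leaf [1, 2, 3, 4, 5, 6, 7, 3, 2, 4, 3, 7, 8, 7, 3, 2, 1, 4, 3, 5]) (.leaf [1, 2, 3, 4, 5, 6, 7, 3, 2, 1, 4, 3, 2, 5, 4, 7, 8, 7, 3, 2, 1, 4, 3, 5, 4, 7]) (.leaf [1, 2, 3, 4, 5, 6, 7, 3, 2, 1, 4, 3, 2, 5, 7, 8, 7, 3, 2, 1, 4, 3, 2, 5, 4, 3, 7, 3, 4, 8])) (.node (.leaf [1, 2, 3, 4, 5, 6, 7, 3, 2, 1, 4, 3, 8, 7, 3]) (.leaf [1, 2, 3, 4, 5, 6, 7, 3, 2, 1, 4, 3, 2, 7, 8, 7, 3, 2, 1, 0, 4, 5]) (.leaf [1, 2, 3, 4, 5, 6, 7, 3, 2, 1, 4, 3, 2, 5, 4, 8, 7, 3, 2, 1, 0, 4, 3, 2, 7, 3, 8]) (.leaf [1, 2, 3, 4, 5, 6, 7, 3, 2, 1, 4, 3, 2, 5, 4, 8, 7, 3, 2, 1, 4, 3, 2,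 5, 4, 3, 7, 3, 4, 5, 8, 7])) (.node (.leaf [1, 2, 3, 4, 5, 6, 7, 3, 2, 4, 3, 8, 7, 3, 2, 1, 4]) (.leaf [1, 2, 3, 4, 5, 6, 7, 3, 2, 1, 4, 3, 5, 8, 7, 3, 2, 4, 3, 5, 4, 6, 5]) (.leaf [1, 2, 3, 4, 5, 6, 7, 3, 2, 1, 4, 3, 2, 5, 4, 8, 7, 3, 2, 1, 0, 4, 3, 5, 4, 6, 7, 8]) (.leaf [])) (.node (.leaf [1, 2, 3, 4, 5, 6, 7, 3, 2, 1, 4, 3, 5, 8, 7, 3, 2, 1, 4]) (.leaf [1, 2, 3, 4, 5, 6, 7, 3, 2, 4, 3, 5, 4, 8, 7, 3, 2, 1, 0, 4, 3, 2, 5, 7]) (.leaf [1, 2, 3, 4, 5, 6, 7, 3, 2, 1, 4, 3, 2, 5, 4, 8, 7, 3, 2, 1, 4, 3, 2, 5, 4, 3, 7, 3, 2]) (.leaf []))) (.node (.node (.leaf [1, 0, 2, 3, 4, 5, 6, 7, 3, 2, 4, 8]) (.leaf [1, 2, 3, 4, 5, 6, 7, 3, 2, 1, 4, 3,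 2, 5, 8, 7, 3, 2, 4, 5, 6]) (.leaf [1, 2, 3, 4, 5, 6, 7, 3, 2, 1, 4, 3, 2, 5, 8, 7, 3, 2, 1, 0, 4, 3, 5, 4, 6, 7]) (.leaf [1, 2, 3, 4, 5, 6, 7, 3, 2, 1, 4, 3, 5, 4, 8, 7, 3, 2, 1, 0, 4, 3, 5, 4, 6, 7, 3, 2, 8, 7])) (.node (.leaf [1, 0, 2, 3, 4, 5, 7, 3, 2, 4, 8, 7, 3, 2, 4, 5]) (.leaf [1, 2, 3, 4, 5, 6, 7, 3, 2, 1, 4, 3, 7, 8, 7, 3, 2, 1, 4, 3, 5, 7]) (.leaf [1, 2, 3, 4, 5, 6, 7, 3, 2, 1, 4, 3, 2, 5, 8, 7, 3, 2, 1, 0, 4, 3, 2, 5, 7, 3, 8]) (.leaf [1, 2, 3, 4, 5, 6, 7, 3, 2, 1, 4, 3, 2, 5, 4, 8, 7, 3, 2, 1, 4, 3, 2, 5, 4, 3, 7, 3, 4, 8, 7, 3, 2])) (.node (.leaf [1, 0, 2, 3, 4, 5, 6, 7, 3, 4, 5, 8, 7, 3, 2, 1, 4, 3]) (.leaf [1, 2, 3, 4, 5,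 6, 7, 3, 2, 4, 5, 8, 7, 3, 2, 1, 4, 3, 2, 5, 6, 7, 3]) (.leaf [1, 2, 3, 4, 5, 6, 7, 3, 2, 1, 4, 3, 2, 5, 8, 7, 3, 2, 1, 0, 4, 3, 2, 5, 4, 6, 7, 8]) (.leaf [])) (.node (.leaf [1, 2, 3, 4, 5, 6, 7, 3, 2, 4, 3, 5, 8, 7, 3, 2, 1, 4, 5]) (.leaf [1, 2, 3, 4, 5, 6, 7, 3, 2, 1, 4, 3, 2, 5, 7, 8, 7, 3, 2, 1, 4, 3, 2, 5, 4]) (.leaf [1, 2, 3, 4, 5, 6, 7, 3, 2, 1, 4, 3, 2, 5, 8, 7, 3, 2, 1, 0, 4, 3, 2, 5, 7, 3, 4, 8, 7]) (.leaf []))) (.node (.node (.leaf [1, 2, 3, 4, 5, 7, 3, 2, 1, 4, 8, 7, 3]) (.leaf [1, 2, 3, 4, 5, 6, 7, 3, 2, 1, 4, 3, 8, 7, 3, 2, 1, 0, 4, 3, 7]) (.leaf [1, 2, 3, 4, 5, 6, 7, 3, 2, 1, 4, 3, 5, 4, 8, 7, 3, 2, 1, 4, 3, 2, 5, 4, 3, 6])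 (.leaf [1, 2, 3, 4, 5, 6, 7, 3, 2, 1, 4, 3, 2, 5, 4, 8, 7, 3, 2, 1, 0, 4, 3, 2, 5, 4, 3, 7, 3, 2, 8])) (.node (.leaf [1, 2, 3, 4, 5, 6, 7, 3, 2, 4, 3, 8, 7, 3, 2, 1]) (.leaf [1, 2, 3, 4, 5, 6, 7, 3, 2, 4, 3, 5, 8, 7, 3, 2, 1, 4, 3, 2, 7, 3]) (.leaf [1, 2, 3, 4, 5, 6, 7, 3, 2, 1, 4, 3, 5, 4, 8, 7, 3, 2, 1, 4, 3, 2, 5, 4, 3, 7, 8]) (.leaf [])) (.node (.leaf [1, 2, 3, 4, 5, 6, 7, 3, 2, 1, 4, 8, 7, 3, 2, 4, 5, 6]) (.leaf [1, 2, 3, 4, 5, 6, 7, 3, 2, 1, 4, 3, 2, 5, 8, 7, 3, 2, 4, 3, 5, 4, 6, 7]) (.leaf [1, 2, 3, 4, 5, 6, 7, 3, 2, 1, 4, 3, 5, 4, 8, 7, 3, 2, 1, 0, 4, 3, 5, 4, 6, 7, 3, 8]) (.leaf [])) (.node (.leaf [1, 2, 3, 4, 5, 6, 7, 3, 2, 1,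 4, 3, 2, 5, 4, 8, 7, 3, 4, 5]) (.leaf [1, 2, 3, 4, 5, 6, 7, 3, 2, 1, 4, 3, 5, 4, 8, 7, 3, 2, 1, 0, 4, 3, 2, 7, 3]) (.leaf [1, 2, 3, 4, 5, 6, 7, 3, 2, 1, 4, 3, 5, 4, 8, 7, 3, 2, 1, 4, 3, 2, 5, 4, 7, 3, 2, 4, 8]) (.leaf [])))) (.node (.node (.node (.leaf [1, 0, 2, 1, 3, 4, 5, 7, 3]) (.leaf [1, 2, 3, 4, 5, 6, 7, 3, 2, 1, 4, 5, 8, 7, 3, 2, 1, 0, 4, 3]) (.leaf [1, 2, 3, 4, 5, 6, 7, 3, 2, 1, 4, 5, 8, 7, 3, 2, 1, 0, 4, 3, 5, 4, 7, 3, 8]) (.leaf [1, 2, 3, 4, 5, 6, 7, 3, 2, 1, 4, 3, 2, 5, 4, 8, 7, 3, 2, 1, 0, 4, 3, 2, 5, 4, 3, 6, 7, 8])) (.node (.leaf [1, 2, 3, 4, 5, 7, 3, 2, 4, 8, 7, 3, 2, 4]) (.leaf [1, 0, 2, 3, 4, 5, 6, 7, 3, 2, 4, 3, 5, 4, 8,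 7, 3, 2, 1, 4, 3, 5]) (.leaf [1, 2, 3, 4, 5, 6, 7, 3, 2, 1, 4, 5, 8, 7, 3, 2, 1, 4, 3, 2, 5, 7, 3, 4, 5, 8]) (.leaf [1, 2, 3, 4, 5, 6, 7, 3, 2, 1, 4, 3, 5, 4, 8, 7, 3, 2, 1, 4, 3, 2, 5, 4, 3, 7, 3, 2, 1, 8, 7])) (.node (.leaf [1, 2, 3, 4, 5, 6, 7, 3, 2, 1, 4, 3, 5, 7, 8, 7, 3]) (.leaf [1, 2, 3, 4, 5, 6, 7, 3, 2, 1, 4, 3, 5, 4, 7, 8, 7, 3, 2, 1, 4, 5, 6]) (.leaf [1, 2, 3, 4, 5, 6, 7, 3, 2, 1, 4, 3, 2, 5, 4, 3, 8, 7, 3, 2, 1, 0, 4, 3, 2, 5, 7, 3]) (.leaf [])) (.node (.leaf [1, 0, 2, 3, 4, 5, 6, 7, 3, 2, 4, 5, 8, 7, 3, 2, 1, 4, 3]) (.leaf [1, 2, 3, 4, 5, 6, 7, 3, 2, 1, 4, 3, 5, 8, 7, 3, 2, 1, 4, 3, 2, 5, 6, 7]) (.leaf [1, 2, 3, 4, 5, 6, 7,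 3, 2, 1, 4, 3, 2, 5, 4, 3, 8, 7, 3, 2, 1, 4, 3, 2, 7, 3, 4, 5, 6]) (.leaf []))) (.node (.node (.leaf [1, 2, 3, 4, 7, 3, 2, 1, 8, 7]) (.leaf [1, 0, 2, 3, 4, 5, 6, 7, 3, 2, 4, 3, 5, 4, 7, 3, 8, 7, 3, 4, 5]) (.leaf [1, 2, 3, 4, 5, 6, 7, 3, 2, 1, 4, 3, 2, 5, 4, 8, 7, 3, 2, 1, 4, 3, 2, 5, 4, 6]) (.leaf [1, 2, 3, 4, 5, 6, 7, 3, 2, 1, 4, 3, 2, 5, 8, 7, 3, 2, 1, 0, 4, 3, 2, 5, 4, 7, 3, 2, 4, 8])) (.node (.leaf [1, 2, 3, 4, 7, 3, 2, 1, 8, 7, 3, 2, 4, 3, 7]) (.leaf [1, 2, 3, 4, 5, 6, 7, 3, 2, 1, 4, 3, 2, 8, 7, 3, 2, 4, 3, 5, 6, 7]) (.leaf [1, 2, 3, 4, 5, 6, 7, 3, 2, 1, 4, 3, 2, 5, 4, 8, 7, 3, 2, 1, 4, 3, 2, 7, 3, 4, 5]) (.leaf [1, 2, 3, 4, 5, 6,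 7, 3, 2, 1, 4, 3, 2, 5, 7, 8, 7, 3, 2, 1, 4, 3, 2, 5, 4, 7, 3, 4, 8, 7, 3, 2])) (.node (.leaf [1, 2, 3, 4, 5, 6, 7, 3, 2, 4, 5, 8, 7, 3, 2, 4, 3]) (.leaf [1, 2, 3, 4, 5, 6, 7, 3, 2, 1, 4, 5, 8, 7, 3, 2, 1, 0, 4, 3, 2, 5, 7]) (.leaf [1, 2, 3, 4, 5, 6, 7, 3, 2, 1, 4, 3, 2, 5, 4, 8, 7, 3, 2, 1, 4, 3, 2, 7, 3, 4, 5, 6]) (.leaf [])) (.node (.leaf [1, 2, 3, 4, 5, 7, 3, 2, 1, 4, 3, 7, 8, 7, 3, 2, 1, 4, 3]) (.leaf [1, 2, 3, 4, 5, 6, 7, 3, 2, 1, 4, 3, 2, 5, 4, 3, 8, 7, 3, 2, 1, 4, 3, 2, 5]) (.leaf [1, 2, 3, 4, 5, 6, 7, 3, 2, 1, 4, 3, 2, 5, 4, 8, 7, 3, 2, 1, 4, 3, 2, 7, 3, 4, 5, 8, 7]) (.leaf []))) (.node (.node (.leaf [1, 2, 3, 4, 5, 6, 7, 3, 2,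 1, 4, 5]) (.leaf [1, 2, 3, 4, 5, 7, 3, 2, 1, 4, 3, 2, 7, 8, 7, 3, 2, 1, 0, 4, 3]) (.leaf [1, 2, 3, 4, 5, 6, 7, 3, 2, 1, 4, 3, 2, 5, 8, 7, 3, 2, 1, 4, 3, 2, 7, 3, 8, 7]) (.leaf [1, 2, 3, 4, 5, 6, 7, 3, 2, 1, 4, 3, 5, 4, 8, 7, 3, 2, 1, 4, 3, 5, 4, 7, 3, 2, 1, 0, 8, 7])) (.node (.leaf [1, 2, 3, 4, 5, 6, 7, 3, 2, 1, 4, 3, 2, 7, 3, 8]) (.leaf [1, 2, 3, 4, 5, 6, 7, 3, 2, 1, 4, 5, 8, 7, 3, 2, 1, 4, 3, 2, 5, 4]) (.leaf [1, 2, 3, 4, 5, 6, 7, 3, 2, 1, 4, 3, 2, 5, 8, 7, 3, 2, 1, 4, 3, 2, 5, 7, 3, 4, 8]) (.leaf [1, 2, 3, 4, 5, 6, 7, 3, 2, 1, 4, 3, 2, 5, 4, 7, 8, 7, 3, 2, 1, 4, 3, 2, 5, 4, 3, 7, 3, 4, 8, 7, 3, 2])) (.node (.leaf [1, 2, 3, 4, 5, 6, 7,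 3, 2, 1, 4, 3, 2, 8, 7, 3, 2, 4]) (.leaf [1, 2, 3, 4, 5, 6, 7, 3, 2, 1, 4, 3, 2, 5, 4, 7, 8, 7, 3, 2, 4, 3, 5, 4]) (.leaf [1, 2, 3, 4, 5, 6, 7, 3, 2, 1, 4, 3, 2, 5, 8, 7, 3, 2, 1, 4, 3, 2, 5, 4, 7, 3, 2, 4]) (.leaf [])) (.node (.leaf [1, 2, 3, 4, 5, 6, 7, 3, 2, 4, 5, 8, 7, 3, 2, 1, 0, 4, 3]) (.leaf [1, 2, 3, 4, 5, 6, 7, 3, 2, 1, 4, 3, 2, 5, 8, 7, 3, 2, 1, 0, 4, 3, 5, 6, 7]) (.leaf [1, 2, 3, 4, 5, 6, 7, 3, 2, 1, 4, 3, 2, 5, 8, 7, 3, 2, 1, 4, 3, 2, 5, 4, 7, 3, 4, 5, 8]) (.leaf []))) (.node (.node (.leaf [1, 2, 3, 4, 5, 7, 3, 2, 4, 8, 7, 3, 4]) (.leaf [1, 2, 3, 4, 5, 6, 7, 3, 2, 1, 4, 5, 8, 7, 3, 2, 1, 4, 3, 5, 6]) (.leaf [1, 2, 3, 4, 5, 6,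 7, 3, 2, 1, 4, 3, 5, 4, 8, 7, 3, 2, 1, 4, 3, 5, 4, 7, 3, 8]) (.leaf [1, 2, 3, 4, 5, 6, 7, 3, 2, 1, 4, 3, 2, 5, 4, 8, 7, 3, 2, 1, 4, 3, 2, 5, 4, 6, 5, 7, 3, 4, 8])) (.node (.leaf [1, 2, 3, 4, 5, 6, 7, 3, 2, 4, 8, 7, 3, 2, 4, 5]) (.leaf [1, 2, 3, 4, 5, 6, 7, 3, 2, 1, 4, 3, 2, 5, 4, 3, 8, 7, 3, 2, 1, 4, 3]) (.leaf [1, 2, 3, 4, 5, 6, 7, 3, 2, 1, 4, 3, 5, 4, 8, 7, 3, 2, 1, 4, 3, 5, 4, 7, 3, 2, 8]) (.leaf [])) (.node (.leaf [1, 2, 3, 4, 5, 6, 7, 3, 2, 4, 3, 5, 4, 8, 7, 3, 4, 5]) (.leaf [1, 2, 3, 4, 5, 6, 7, 3, 2, 1, 4, 3, 5, 4, 7, 3, 8, 7, 3, 2, 4, 3, 5, 7]) (.leaf [1, 2, 3, 4, 5, 6, 7, 3, 2, 1, 4, 3, 5, 4, 8, 7, 3, 2, 1, 4, 3, 2, 5, 7, 3, 4,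 5, 8]) (.leaf [])) (.node (.leaf [1, 2, 3, 4, 5, 6, 7, 3, 2, 1, 4, 3, 2, 8, 7, 3, 2, 1, 0, 4]) (.leaf [1, 2, 3, 4, 5, 6, 7, 3, 2, 1, 4, 3, 5, 4, 8, 7, 3, 2, 1, 4, 3, 5, 4, 7, 3]) (.leaf [1, 2, 3, 4, 5, 6, 7, 3, 2, 1, 4, 3, 5, 7, 8, 7, 3, 2, 1, 4, 3, 2, 5, 4, 7, 3, 4, 8, 7]) (.leaf [])))))
def pathTree3 : SporBound.Q (List ℕ) := (.node (.node (.node (.node (.leaf [1, 2, 3]) (.leaf [1, 2, 3, 4, 5, 7, 3, 2, 1, 4, 3, 2, 8, 7, 3, 2, 4, 3, 5, 7]) (.leaf [1, 2, 3, 4, 5, 6, 7, 3, 2, 1, 4, 3, 5, 7, 8, 7, 3, 2, 1, 4, 3, 2, 5, 6, 7]) (.leaf [1, 2, 3, 4, 5, 6, 7, 3, 2, 1, 4, 3, 5, 8, 7, 3, 2, 1, 4, 3, 2, 5, 4, 7, 3, 2, 4, 5, 8])) (.node (.leaf [1,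 0, 2, 3, 4, 5, 7, 3, 2, 4, 8, 7, 3, 4]) (.leaf [1, 2, 3, 4, 5, 6, 7, 3, 2, 4, 3, 5, 4, 7, 8, 7, 3, 2, 4, 3, 5]) (.leaf [1, 2, 3, 4, 5, 6, 7, 3, 2, 1, 4, 3, 5, 7, 8, 7, 3, 2, 1, 4, 3, 5, 4, 6, 7, 8]) (.leaf [1, 2, 3, 4, 5, 6, 7, 3, 2, 1, 4, 3, 2, 5, 7, 8, 7, 3, 2, 1, 0, 4, 3, 2, 5, 7, 3, 4, 8, 7, 3])) (.node (.leaf [1, 0, 2, 3, 4, 5, 6, 7, 3, 2, 4, 3, 8, 7, 3, 2, 1]) (.leaf [1, 2, 3, 4, 5, 6, 7, 3, 2, 1, 4, 3, 2, 5, 4, 8, 7, 3, 2, 4, 3, 5, 7]) (.leaf [1, 2, 3, 4, 5, 6, 7, 3, 2, 1, 4, 3, 5, 7, 8, 7, 3, 2, 1, 4, 3, 5, 4, 7, 3, 2, 8]) (.leaf [])) (.node (.leaf [1, 2, 3, 4, 5, 6, 7, 3, 2, 4, 3, 8, 7, 3, 2, 4, 3, 5]) (.leaf [1, 2, 3, 4, 5, 6,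 7, 3, 2, 1, 4, 3, 5, 4, 8, 7, 3, 2, 1, 0, 4, 3, 5, 7]) (.leaf [1, 2, 3, 4, 5, 6, 7, 3, 2, 1, 4, 3, 5, 8, 7, 3, 2, 1, 0, 4, 3, 2, 5, 4, 7, 3, 2, 8]) (.leaf []))) (.node (.node (.leaf [1, 2, 3, 4, 5, 7, 3, 8]) (.leaf [1, 2, 3, 4, 5, 6, 7, 3, 2, 1, 4, 8, 7, 3, 2, 4, 3, 5, 4, 7]) (.leaf [1, 2, 3, 4, 5, 6, 7, 3, 2, 4, 3, 5, 4, 8, 7, 3, 2, 1, 0, 4, 3, 2, 5, 4, 3]) (.leaf [1, 2, 3, 4, 5, 6, 7, 3, 2, 1, 4, 3, 2, 5, 4, 8, 7, 3, 2, 1, 4, 3, 2, 5, 4, 3, 7, 3, 2, 8])) (.node (.leaf [1, 0, 2, 3, 4, 5, 6, 7, 3, 2, 4, 5, 8, 7, 3]) (.leaf [1, 2, 3, 4, 5, 6, 7, 3, 2, 1, 4, 3, 2, 5, 4, 3, 8, 7, 3, 2, 4, 3]) (.leaf [1, 2, 3, 4, 5, 6, 7, 3, 2, 1, 4, 3, 2,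 5, 4, 3, 8, 7, 3, 2, 1, 4, 3, 2, 5, 7, 3]) (.leaf [1, 2, 3, 4, 5, 6, 7, 3, 2, 1, 4, 3, 5, 8, 7, 3, 2, 1, 4, 3, 2, 5, 4, 7, 3, 2, 1, 4, 8, 7, 3])) (.node (.leaf [1, 2, 3, 4, 5, 6, 7, 3, 2, 1, 4, 5, 8, 7, 3, 2, 4]) (.leaf [1, 2, 3, 4, 5, 6, 7, 3, 2, 1, 4, 3, 5, 4, 8, 7, 3, 2, 4, 3, 5, 6, 7]) (.leaf [1, 2, 3, 4, 5, 6, 7, 3, 2, 1, 4, 3, 2, 5, 4, 3, 8, 7, 3, 2, 4, 3, 5, 4, 7, 3, 2, 8]) (.leaf [])) (.node (.leaf [1, 2, 3, 4, 5, 6, 7, 3, 2, 1, 4, 3, 2, 5, 8, 7, 3, 2, 4]) (.leaf [1, 2, 3, 4, 5, 6, 7, 3, 2, 1, 4, 3, 8, 7, 3, 2, 4, 3, 5, 4, 7, 3, 2, 1]) (.leaf [1, 2, 3, 4, 5, 6, 7, 3, 2, 1, 4, 3, 2, 5, 4, 7, 8, 7, 3, 2, 1, 4, 3, 2, 5, 7, 3, 4, 8])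 (.leaf []))) (.node (.node (.leaf [1, 0, 2, 3, 4, 5, 6, 7, 3, 4, 5]) (.leaf [1, 0, 2, 3, 4, 5, 6, 7, 3, 2, 4, 3, 5, 8, 7, 3, 2, 1, 4, 3, 5]) (.leaf [1, 2, 3, 4, 5, 6, 7, 3, 2, 1, 4, 3, 2, 5, 7, 3, 8, 7, 3, 2, 1, 0, 4, 3, 2, 1]) (.leaf [1, 2, 3, 4, 5, 6, 7, 3, 2, 1, 4, 3, 2, 5, 8, 7, 3, 2, 1, 4, 3, 2, 5, 4, 7, 3, 2, 1, 8, 7])) (.node (.leaf [1, 2, 3, 4, 5, 6, 7, 3, 2, 4, 8, 7, 3, 2, 1]) (.leaf [1, 2, 3, 4, 5, 6, 7, 3, 2, 1, 4, 3, 5, 4, 8, 7, 3, 2, 4, 3, 5, 6]) (.leaf [1, 2, 3, 4, 5, 6, 7, 3, 2, 1, 4, 3, 2, 5, 7, 3, 8, 7, 3, 2, 1, 0, 4, 3, 2, 7, 8]) (.leaf [1, 2, 3, 4, 5, 6, 7, 3, 2, 1, 4, 3, 2, 5, 8, 7, 3, 2, 1, 4, 3, 2, 5, 4, 7, 3, 2, 4,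 5, 8, 7, 3])) (.node (.leaf [1, 0, 2, 3, 4, 5, 6, 7, 3, 2, 4, 3, 5, 7, 8, 7, 3, 2]) (.leaf [1, 2, 3, 4, 5, 6, 7, 3, 2, 1, 4, 5, 8, 7, 3, 2, 4, 3, 5, 4, 6, 7, 8]) (.leaf [1, 2, 3, 4, 5, 6, 7, 3, 2, 1, 4, 3, 2, 5, 7, 3, 8, 7, 3, 2, 1, 0, 4, 3, 2, 1, 7, 3]) (.leaf [])) (.node (.leaf [1, 2, 3, 4, 5, 6, 7, 3, 2, 1, 4, 5, 8, 7, 3, 2, 4, 5, 6]) (.leaf [1, 2, 3, 4, 5, 6, 7, 3, 2, 1, 4, 3, 2, 5, 4, 8, 7, 3, 2, 1, 0, 4, 3, 2, 1]) (.leaf [1, 2, 3, 4, 5, 6, 7, 3, 2, 1, 4, 3, 2, 5, 7, 8, 7, 3, 2, 1, 0, 4, 3, 2, 1, 5, 4, 7, 8]) (.leaf []))) (.node (.node (.leaf [1, 2, 3, 4, 7, 3, 2, 8, 7, 3, 4, 5]) (.leaf [1, 2, 3, 4, 5, 6, 7, 3, 2, 1, 4, 3, 5, 4, 8,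 7, 3, 2, 1, 4, 5]) (.leaf [1, 2, 3, 4, 5, 6, 7, 3, 2, 1, 4, 3, 5, 4, 7, 3, 8, 7, 3, 2, 4, 3, 5, 4, 7, 3]) (.leaf [1, 2, 3, 4, 5, 6, 7, 3, 2, 1, 4, 5, 8, 7, 3, 2, 1, 4, 3, 2, 5, 4, 7, 3, 2, 1, 4, 5, 8, 7])) (.node (.leaf [1, 2, 3, 4, 5, 7, 3, 2, 1, 4, 3, 7, 8, 7, 3, 2]) (.leaf [1, 2, 3, 4, 5, 6, 7, 3, 2, 1, 8, 7, 3, 2, 4, 3, 5, 4, 7, 3, 2, 1]) (.leaf [1, 2, 3, 4, 5, 6, 7, 3, 2, 1, 4, 3, 5, 4, 7, 3, 8, 7, 3, 2, 4, 3, 5, 4, 7, 3, 2]) (.leaf [])) (.node (.leaf [1, 2, 3, 4, 5, 6, 7, 3, 2, 1, 4, 3, 5, 8, 7, 3, 2, 4]) (.leaf [1, 2, 3, 4, 5, 6, 7, 3, 2, 1, 4, 3, 2, 5, 7, 3, 8, 7, 3, 2, 1, 0, 4, 3]) (.leaf [1, 2, 3, 4, 5, 6, 7, 3, 2, 1, 4, 3, 5,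 4, 7, 3, 8, 7, 3, 2, 4, 3, 5, 4, 6, 7, 3, 8]) (.leaf [])) (.node (.leaf [1, 0, 2, 3, 4, 5, 6, 7, 3, 2, 4, 3, 5, 4, 8, 7, 3, 2, 4, 5]) (.leaf [1, 2, 3, 4, 5, 6, 7, 3, 2, 1, 4, 3, 2, 5, 8, 7, 3, 2, 4, 3, 5, 4, 6, 7, 8]) (.leaf [1, 2, 3, 4, 5, 6, 7, 3, 2, 1, 4, 3, 5, 4, 7, 8, 7, 3, 2, 1, 4, 3, 2, 5, 4, 7, 3, 8, 7]) (.leaf [])))) (.node (.node (.node (.leaf [1, 2, 3, 4, 7, 3]) (.leaf [1, 2, 3, 4, 5, 6, 7, 3, 2, 1, 4, 3, 5, 8, 7, 3, 2, 1, 0, 4]) (.leaf [1, 2, 3, 4, 5, 6, 7, 3, 2, 1, 4, 3, 5, 8, 7, 3, 2, 1, 0, 4, 3, 5, 4, 7, 3]) (.leaf [1, 2, 3, 4, 5, 6, 7, 3, 2, 1, 4, 3, 2, 5, 4, 3, 8, 7, 3, 2, 1, 0, 4, 3, 5, 4, 7, 3, 8, 7])) (.node (.leaf [1,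 2, 3, 4, 5, 6, 7, 3, 2, 1, 4, 3, 5, 4]) (.leaf [1, 2, 3, 4, 5, 6, 7, 3, 2, 4, 3, 5, 7, 8, 7, 3, 2, 1, 4, 3, 7]) (.leaf [1, 2, 3, 4, 5, 6, 7, 3, 2, 1, 4, 3, 5, 8, 7, 3, 2, 1, 4, 3, 2, 5, 6, 7, 3, 4]) (.leaf [1, 2, 3, 4, 5, 6, 7, 3, 2, 1, 4, 3, 2, 5, 8, 7, 3, 2, 1, 0, 4, 3, 2, 5, 7, 3, 4, 8, 7, 3, 2])) (.node (.leaf [1, 0, 2, 3, 4, 5, 6, 7, 3, 2, 4, 8, 7, 3, 2, 4, 5]) (.leaf [1, 2, 3, 4, 5, 6, 7, 3, 2, 1, 4, 3, 2, 5, 8, 7, 3, 2, 1, 0, 4, 5, 6]) (.leaf [1, 2, 3, 4, 5, 6, 7, 3, 2, 1, 4, 3, 5, 8, 7, 3, 2, 1, 4, 3, 2, 5, 6, 7, 3, 4, 5]) (.leaf [])) (.node (.leaf [1, 2, 3, 4, 5, 6, 7, 3, 2, 4, 8, 7, 3, 2, 1, 4, 5, 6]) (.leaf [1, 2, 3, 4, 5, 6,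 7, 3, 2, 1, 4, 3, 5, 7, 8, 7, 3, 2, 1, 0, 4, 3, 2, 1]) (.leaf [1, 2, 3, 4, 5, 6, 7, 3, 2, 1, 4, 3, 5, 8, 7, 3, 2, 1, 4, 3, 2, 5, 4, 7, 3, 2, 4, 8]) (.leaf []))) (.node (.node (.leaf [1, 0, 2, 1, 3, 2, 4, 5, 6]) (.leaf [1, 2, 3, 4, 5, 6, 7, 3, 2, 4, 3, 5, 7, 8, 7, 3, 2, 1, 4, 5]) (.leaf [1, 2, 3, 4, 5, 6, 7, 3, 2, 1, 4, 3, 2, 5, 4, 3, 8, 7, 3, 2, 1, 0, 4, 3, 7, 8]) (.leaf [1, 2, 3, 4, 5, 6, 7, 3, 2, 1, 4, 3, 2, 5, 4, 8, 7, 3, 2, 1, 4, 3, 2, 7, 3, 4, 5, 6, 8, 7])) (.node (.leaf [1, 2, 3, 4, 5, 6, 7, 3, 2, 1, 4, 3, 2, 5, 4]) (.leaf [1, 2, 3, 4, 5, 6, 7, 3, 2, 1, 4, 3, 2, 5, 7, 8, 7, 3, 2, 1, 4, 3]) (.leaf [1, 2, 3, 4, 5, 6, 7, 3, 2, 1, 4,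 3, 2, 5, 4, 7, 8, 7, 3, 2, 1, 4, 3, 5, 4, 7, 3]) (.leaf [1, 2, 3, 4, 5, 6, 7, 3, 2, 1, 4, 3, 2, 5, 4, 7, 8, 7, 3, 2, 1, 4, 3, 5, 4, 7, 3, 2, 8, 7, 3, 4])) (.node (.leaf [1, 2, 3, 4, 5, 7, 3, 2, 1, 8, 7, 3, 2, 4, 3, 5, 6]) (.leaf [1, 2, 3, 4, 5, 6, 7, 3, 2, 1, 4, 3, 5, 8, 7, 3, 2, 1, 0, 4, 3, 2, 5]) (.leaf [1, 2, 3, 4, 5, 6, 7, 3, 2, 1, 4, 3, 2, 5, 4, 8, 7, 3, 2, 1, 0, 4, 3, 2, 1, 7, 3, 2]) (.leaf [])) (.node (.leaf [1, 2, 3, 4, 5, 7, 3, 2, 1, 4, 3, 2, 8, 7, 3, 2, 1, 4, 3]) (.leaf [1, 2, 3, 4, 5, 6, 7, 3, 2, 1, 4, 5, 8, 7, 3, 2, 1, 4, 3, 2, 7, 3, 4, 5]) (.leaf [1, 2, 3, 4, 5, 6, 7, 3, 2, 1, 4, 3, 2, 5, 4, 8, 7, 3, 2, 1, 0, 4, 3, 2, 5, 4,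 6, 7, 3]) (.leaf []))) (.node (.node (.leaf [1, 2, 3, 4, 5, 7, 3, 2, 4, 3, 7]) (.leaf [1, 2, 3, 4, 5, 6, 7, 3, 2, 1, 4, 3, 2, 5, 4, 8, 7, 3, 2, 1, 4]) (.leaf [1, 2, 3, 4, 5, 6, 7, 3, 2, 1, 4, 3, 2, 5, 7, 8, 7, 3, 2, 1, 4, 3, 2, 5, 7, 8]) (.leaf [1, 2, 3, 4, 5, 6, 7, 3, 2, 1, 4, 3, 5, 4, 7, 8, 7, 3, 2, 1, 4, 3, 2, 5, 4, 6, 7, 3, 8, 7])) (.node (.leaf [1, 0, 2, 3, 4, 5, 6, 7, 3, 2, 4, 3, 7, 8, 7, 3]) (.leaf [1, 2, 3, 4, 5, 6, 7, 3, 2, 1, 4, 3, 5, 8, 7, 3, 2, 1, 0, 4, 5, 6]) (.leaf [1, 2, 3, 4, 5, 6, 7, 3, 2, 1, 4, 3, 2, 5, 7, 8, 7, 3, 2, 1, 4, 3, 2, 7, 3, 4, 5]) (.leaf [1, 2, 3, 4, 5, 6, 7, 3, 2, 1, 4, 3, 5, 8, 7, 3, 2, 1, 4, 3, 2, 5, 4,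 7, 3, 2, 1, 4, 8, 7, 3, 2])) (.node (.leaf [1, 0, 2, 3, 4, 5, 7, 3, 2, 4, 3, 7, 8, 7, 3, 2, 4, 5]) (.leaf [1, 2, 3, 4, 5, 6, 7, 3, 2, 4, 3, 5, 4, 8, 7, 3, 2, 1, 4, 3, 2, 5, 4]) (.leaf [1, 2, 3, 4, 5, 6, 7, 3, 2, 1, 4, 3, 2, 5, 7, 8, 7, 3, 2, 1, 4, 3, 2, 5, 4, 7, 3, 8]) (.leaf [])) (.node (.leaf [1, 2, 3, 4, 5, 6, 7, 3, 2, 4, 3, 5, 4, 7, 8, 7, 3, 2, 1]) (.leaf [1, 2, 3, 4, 5, 6, 7, 3, 2, 1, 4, 3, 2, 5, 4, 8, 7, 3, 2, 4, 3, 5, 4, 6, 5]) (.leaf [1, 2, 3, 4, 5, 6, 7, 3, 2, 1, 4, 3, 2, 5, 8, 7, 3, 2, 1, 0, 4, 3, 2, 1, 5, 4, 6, 7, 3]) (.leaf []))) (.node (.node (.leaf [1, 0, 2, 3, 4, 5, 6, 7, 3, 4, 8, 7, 3]) (.leaf [1, 2, 3, 4, 5, 6, 7, 3, 2,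 1, 4, 3, 5, 8, 7, 3, 2, 4, 3, 5, 4]) (.leaf [1, 2, 3, 4, 5, 6, 7, 3, 2, 1, 4, 3, 5, 4, 8, 7, 3, 2, 1, 0, 4, 3, 2, 1, 5, 4]) (.leaf [1, 2, 3, 4, 5, 6, 7, 3, 2, 1, 4, 3, 2, 5, 4, 3, 8, 7, 3, 2, 4, 3, 5, 4, 7, 3, 2, 8, 7, 3, 4])) (.node (.leaf [1, 2, 3, 4, 5, 6, 7, 3, 2, 1, 8, 7, 3, 2, 4, 5]) (.leaf [1, 2, 3, 4, 5, 6, 7, 3, 2, 4, 3, 5, 4, 8, 7, 3, 2, 4, 3, 5, 4, 6]) (.leaf [1, 2, 3, 4, 5, 6, 7, 3, 2, 1, 4, 3, 5, 4, 8, 7, 3, 2, 1, 0, 4, 3, 2, 1, 5, 7, 8]) (.leaf [])) (.node (.leaf [1, 2, 3, 4, 5, 7, 3, 2, 1, 4, 3, 8, 7, 3, 2, 1, 4, 3]) (.leaf [1, 2, 3, 4, 5, 6, 7, 3, 2, 1, 4, 3, 2, 5, 8, 7, 3, 2, 1, 0, 4, 3, 2, 7]) (.leaf [1, 2, 3, 4, 5, 6,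 7, 3, 2, 1, 4, 3, 5, 4, 7, 8, 7, 3, 2, 4, 3, 5, 4, 7, 3, 2, 1, 8]) (.leaf [])) (.node (.leaf [1, 0, 2, 3, 4, 5, 6, 7, 3, 2, 4, 3, 8, 7, 3, 2, 1, 0, 4, 5]) (.leaf [1, 2, 3, 4, 5, 6, 7, 3, 2, 1, 4, 3, 5, 4, 7, 8, 7, 3, 2, 1, 4, 3, 2, 5, 7]) (.leaf [1, 2, 3, 4, 5, 6, 7, 3, 2, 1, 4, 3, 5, 4, 8, 7, 3, 2, 1, 0, 4, 3, 2, 5, 4, 7, 3, 8, 7]) (.leaf [])))) (.node (.node (.node (.leaf [1, 0, 2, 1, 3, 2, 7, 8]) (.leaf [1, 2, 3, 4, 5, 6, 7, 3, 2, 1, 4, 3, 8, 7, 3, 2, 1, 4, 3, 7]) (.leaf [1, 2, 3, 4, 5, 6, 7, 3, 2, 1, 4, 3, 5, 8, 7, 3, 2, 1, 4, 3, 5, 4, 7, 3, 8]) (.leaf [1, 2, 3, 4, 5, 6, 7, 3, 2, 1, 4, 3, 2, 5, 4, 7, 8, 7, 3, 2, 1, 4, 3, 2, 5, 4, 7,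 3, 2, 4])) (.node (.leaf [1, 2, 3, 4, 7, 3, 2, 1, 8, 7, 3, 2, 4, 5]) (.leaf [1, 2, 3, 4, 5, 6, 7, 3, 2, 4, 3, 5, 8, 7, 3, 2, 4, 3, 5, 6, 7]) (.leaf [1, 2, 3, 4, 5, 6, 7, 3, 2, 1, 4, 5, 8, 7, 3, 2, 1, 0, 4, 3, 2, 5, 4, 6, 7, 8]) (.leaf [1, 2, 3, 4, 5, 6, 7, 3, 2, 1, 4, 3, 2, 5, 8, 7, 3, 2, 1, 4, 3, 2, 5, 4, 7, 3, 4, 8, 7, 3, 2])) (.node (.leaf [1, 2, 3, 4, 5, 6, 7, 3, 2, 1, 4, 3, 2, 5, 8, 7, 3]) (.leaf [1, 2, 3, 4, 5, 6, 7, 3, 2, 1, 4, 3, 2, 8, 7, 3, 2, 1, 0, 4, 3, 5, 6]) (.leaf [1, 2, 3, 4, 5, 6, 7, 3, 2, 1, 4, 5, 8, 7, 3, 2, 1, 4, 3, 2, 5, 4, 6, 7, 3, 4, 5]) (.leaf [])) (.node (.leaf [1, 0, 2, 3, 4, 5, 6, 7, 3, 2, 4, 3, 5, 8, 7, 3, 2,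 1, 4]) (.leaf [1, 2, 3, 4, 5, 6, 7, 3, 2, 1, 4, 3, 5, 7, 8, 7, 3, 2, 4, 3, 5, 4, 7, 3]) (.leaf [1, 2, 3, 4, 5, 6, 7, 3, 2, 1, 4, 5, 8, 7, 3, 2, 1, 4, 3, 2, 5, 4, 7, 3, 2, 4, 5, 8]) (.leaf []))) (.node (.node (.leaf [1, 0, 2, 3, 4, 5, 7, 3, 2, 8]) (.leaf [1, 2, 3, 4, 5, 6, 7, 3, 2, 4, 3, 7, 8, 7, 3, 2, 1, 4, 5, 6]) (.leaf [1, 2, 3, 4, 5, 6, 7, 3, 2, 1, 4, 3, 2, 5, 4, 7, 8, 7, 3, 2, 1, 4, 3, 5, 7, 8]) (.leaf [1, 2, 3, 4, 5, 6, 7, 3, 2, 1, 4, 3, 2, 5, 7, 8, 7, 3, 2, 1, 4, 3, 2, 5, 4, 3, 7, 3, 8, 7])) (.node (.leaf [1, 2, 3, 4, 5, 7, 3, 2, 1, 4, 3, 7, 8, 7, 3]) (.leaf [1, 2, 3, 4, 5, 6, 7, 3, 2, 1, 4, 3, 2, 7, 8, 7, 3, 2, 1, 4, 3, 2]) (.leaf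 [1, 2, 3, 4, 5, 6, 7, 3, 2, 1, 4, 3, 2, 5, 4, 8, 7, 3, 2, 1, 0, 4, 3, 5, 4, 6, 5]) (.leaf [1, 2, 3, 4, 5, 6, 7, 3, 2, 1, 4, 3, 2, 5, 4, 8, 7, 3, 2, 1, 4, 3, 2, 5, 4, 3, 7, 3, 4, 8, 7, 3])) (.node (.leaf [1, 2, 3, 4, 5, 6, 7, 3, 2, 4, 3, 8, 7, 3, 2, 4, 3]) (.leaf [1, 2, 3, 4, 5, 6, 7, 3, 2, 1, 4, 3, 5, 8, 7, 3, 2, 4, 3, 5, 4, 6, 7]) (.leaf [1, 2, 3, 4, 5, 6, 7, 3, 2, 1, 4, 3, 2, 5, 4, 8, 7, 3, 2, 1, 0, 4, 3, 5, 4, 7, 3, 2]) (.leaf [])) (.node (.leaf [1, 2, 3, 4, 5, 6, 7, 3, 2, 1, 4, 3, 5, 8, 7, 3, 2, 4, 3]) (.leaf [1, 2, 3, 4, 5, 6, 7, 3, 2, 4, 3, 5, 4, 8, 7, 3, 2, 1, 4, 3, 2, 5, 4, 3]) (.leaf [1, 2, 3, 4, 5, 6, 7, 3, 2, 1, 4, 3, 2, 5, 4,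 8, 7, 3, 2, 1, 4, 3, 2, 5, 4, 3, 7, 3, 4]) (.leaf []))) (.node (.node (.leaf [1, 0, 2, 3, 4, 5, 7, 3, 2, 4, 8, 7]) (.leaf [1, 2, 3, 4, 5, 6, 7, 3, 2, 1, 4, 3, 2, 7, 3, 8, 7, 3, 2, 1, 0]) (.leaf [1, 2, 3, 4, 5, 6, 7, 3, 2, 1, 4, 3, 2, 5, 8, 7, 3, 2, 1, 0, 4, 3, 5, 4, 7, 3]) (.leaf [1, 2, 3, 4, 5, 6, 7, 3, 2, 1, 4, 3, 5, 4, 8, 7, 3, 2, 1, 0, 4, 3, 5, 4, 7, 3, 2, 8, 7, 3])) (.node (.leaf [1, 0, 2, 3, 4, 5, 7, 3, 2, 4, 8, 7, 3, 4, 5, 6]) (.leaf [1, 2, 3, 4, 5, 6, 7, 3, 2, 1, 4, 3, 7, 8, 7, 3, 2, 4, 3, 5, 4, 6]) (.leaf [1, 2, 3, 4, 5, 6, 7, 3, 2, 1, 4, 3, 2, 5, 8, 7, 3, 2, 1, 0, 4, 3, 2, 7, 3, 8, 7]) (.leaf [1, 2, 3, 4, 5, 6, 7, 3, 2, 1, 4,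 3, 2, 5, 4, 8, 7, 3, 2, 1, 4, 3, 2, 5, 4, 6, 5, 7, 3, 4, 8, 7, 3])) (.node (.leaf [1, 0, 2, 3, 4, 5, 6, 7, 3, 4, 5, 8, 7, 3, 2, 4, 3, 7]) (.leaf [1, 2, 3, 4, 5, 6, 7, 3, 2, 4, 5, 8, 7, 3, 2, 1, 4, 3, 2, 5, 7, 3, 4]) (.leaf [1, 2, 3, 4, 5, 6, 7, 3, 2, 1, 4, 3, 2, 5, 8, 7, 3, 2, 1, 0, 4, 3, 2, 5, 4, 7, 3, 2]) (.leaf [])) (.node (.leaf [1, 2, 3, 4, 5, 6, 7, 3, 2, 4, 3, 5, 8, 7, 3, 2, 4, 3, 5]) (.leaf [1, 2, 3, 4, 5, 6, 7, 3, 2, 1, 4, 3, 2, 5, 7, 8, 7, 3, 2, 1, 4, 3, 2, 5, 7]) (.leaf [1, 2, 3, 4, 5, 6, 7, 3, 2, 1, 4, 3, 2, 5, 8, 7, 3, 2, 1, 4, 3, 2, 5, 4, 3, 7, 3, 4, 5]) (.leaf []))) (.node (.node (.leaf [1, 2, 3, 4, 5, 6, 7, 3, 2, 1, 8, 7,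 3]) (.leaf [1, 2, 3, 4, 5, 6, 7, 3, 2, 1, 4, 3, 8, 7, 3, 2, 1, 0, 4, 5, 6]) (.leaf [1, 2, 3, 4, 5, 6, 7, 3, 2, 1, 4, 3, 5, 4, 8, 7, 3, 2, 1, 4, 3, 2, 5, 4, 3, 7]) (.leaf [1, 2, 3, 4, 5, 6, 7, 3, 2, 1, 4, 3, 2, 5, 4, 8, 7, 3, 2, 1, 0, 4, 3, 2, 5, 4, 3, 7, 3, 4, 8])) (.node (.leaf [1, 2, 3, 4, 5, 6, 7, 3, 2, 4, 3, 8, 7, 3, 2, 4]) (.leaf [1, 2, 3, 4, 5, 6, 7, 3, 2, 4, 3, 5, 8, 7, 3, 2, 1, 4, 3, 5, 4, 7]) (.leaf [1, 2, 3, 4, 5, 6, 7, 3, 2, 1, 4, 3, 5, 4, 8, 7, 3, 2, 1, 4, 3, 2, 5, 4, 6, 5, 7]) (.leaf [])) (.node (.leaf [1, 2, 3, 4, 5, 7, 3, 2, 1, 4, 8, 7, 3, 2, 1, 0, 4, 3]) (.leaf [1, 2, 3, 4, 5, 6, 7, 3, 2, 1, 4, 3, 2, 5, 8, 7, 3, 2, 4, 3,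 5, 4, 7, 3]) (.leaf [1, 2, 3, 4, 5, 6, 7, 3, 2, 1, 4, 3, 5, 4, 8, 7, 3, 2, 1, 0, 4, 3, 5, 4, 7, 3, 2, 8]) (.leaf [])) (.node (.leaf [1, 2, 3, 4, 5, 6, 7, 3, 2, 1, 4, 3, 2, 5, 7, 3, 8, 7, 3, 2]) (.leaf [1, 2, 3, 4, 5, 6, 7, 3, 2, 1, 4, 3, 5, 4, 8, 7, 3, 2, 1, 0, 4, 3, 2, 7, 8]) (.leaf [1, 2, 3, 4, 5, 6, 7, 3, 2, 1, 4, 3, 5, 4, 8, 7, 3, 2, 1, 4, 3, 2, 5, 4, 7, 3, 2, 8, 7]) (.leaf [])))) (.node (.node (.node (.leaf [1, 0, 2, 1, 3, 4, 7, 3, 8]) (.leaf [1, 2, 3, 4, 5, 6, 7, 3, 2, 1, 4, 5, 8, 7, 3, 2, 1, 0, 4, 5]) (.leaf [1, 2, 3, 4, 5, 6, 7, 3, 2, 1, 4, 5, 8, 7, 3, 2, 1, 4, 3, 2, 5, 4, 6, 7, 3]) (.leaf [1, 2, 3, 4, 5, 6, 7, 3, 2, 1, 4, 3, 2,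 5, 4, 8, 7, 3, 2, 1, 0, 4, 3, 2, 5, 4, 3, 7, 3, 2])) (.node (.leaf [1, 2, 3, 4, 5, 7, 3, 2, 4, 8, 7, 3, 4, 5]) (.leaf [1, 0, 2, 3, 4, 5, 6, 7, 3, 2, 4, 3, 5, 4, 8, 7, 3, 2, 1, 4, 3, 7]) (.leaf [1, 2, 3, 4, 5, 6, 7, 3, 2, 1, 4, 5, 8, 7, 3, 2, 1, 4, 3, 2, 7, 3, 4, 5, 6, 8]) (.leaf [1, 2, 3, 4, 5, 6, 7, 3, 2, 1, 4, 3, 5, 4, 8, 7, 3, 2, 1, 4, 3, 2, 5, 4, 3, 7, 3, 2, 8, 7, 3])) (.node (.leaf [1, 2, 3, 4, 5, 6, 7, 3, 2, 1, 4, 3, 5, 8, 7, 3, 2]) (.leaf [1, 2, 3, 4, 5, 6, 7, 3, 2, 1, 4, 3, 5, 4, 7, 8, 7, 3, 2, 4, 3, 5, 4]) (.leaf [1, 2, 3, 4, 5, 6, 7, 3, 2, 1, 4, 3, 2, 5, 4, 3, 8, 7, 3, 2, 1, 0, 4, 3, 2, 5, 7, 8]) (.leaf [])) (.node (.leaf [1,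 0, 2, 3, 4, 5, 6, 7, 3, 2, 4, 5, 8, 7, 3, 2, 1, 4, 5]) (.leaf [1, 2, 3, 4, 5, 6, 7, 3, 2, 1, 4, 3, 5, 8, 7, 3, 2, 1, 4, 3, 2, 5, 7, 3]) (.leaf [1, 2, 3, 4, 5, 6, 7, 3, 2, 1, 4, 3, 2, 5, 4, 3, 8, 7, 3, 2, 1, 4, 3, 2, 7, 3, 4, 5, 8]) (.leaf []))) (.node (.node (.leaf [1, 2, 3, 4, 5, 7, 3, 2, 4, 3]) (.leaf [1, 0, 2, 3, 4, 5, 6, 7, 3, 2, 4, 3, 5, 4, 7, 8, 7, 3, 2, 4, 3]) (.leaf [1, 2, 3, 4, 5, 6, 7, 3, 2, 1, 4, 3, 2, 5, 4, 8, 7, 3, 2, 1, 4, 3, 2, 5, 4, 7]) (.leaf [1, 2, 3, 4, 5, 6, 7, 3, 2, 1, 4, 3, 2, 5, 8, 7, 3, 2, 1, 0, 4, 3, 2, 5, 4, 7, 3, 2, 8, 7])) (.node (.leaf [1, 2, 3, 4, 7, 3, 2, 1, 8, 7, 3, 2, 4, 5, 6]) (.leaf [1, 2, 3, 4, 5, 6,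 7, 3, 2, 1, 4, 3, 2, 8, 7, 3, 2, 4, 3, 5, 7, 8]) (.leaf [1, 2, 3, 4, 5, 6, 7, 3, 2, 1, 4, 3, 2, 5, 4, 8, 7, 3, 2, 1, 4, 3, 2, 7, 3, 4, 8]) (.leaf [1, 2, 3, 4, 5, 6, 7, 3, 2, 1, 4, 3, 2, 5, 8, 7, 3, 2, 1, 0, 4, 3, 2, 1, 5, 4, 7, 3, 2, 8, 7, 3])) (.node (.leaf [1, 2, 3, 4, 5, 6, 7, 3, 2, 4, 5, 8, 7, 3, 2, 4, 5]) (.leaf [1, 2, 3, 4, 5, 6, 7, 3, 2, 1, 4, 5, 8, 7, 3, 2, 1, 0, 4, 3, 2, 7, 8]) (.leaf [1, 2, 3, 4, 5, 6, 7, 3, 2, 1, 4, 3, 2, 5, 4, 8, 7, 3, 2, 1, 4, 3, 2, 7, 3, 4, 5, 8]) (.leaf [])) (.node (.leaf [1, 2, 3, 4, 5, 7, 3, 2, 1, 4, 3, 7, 8, 7, 3, 2, 1, 4, 5]) (.leaf [1, 2, 3, 4, 5, 6, 7, 3, 2, 1, 4, 3, 2, 5, 4, 3, 8, 7, 3, 2, 1, 4, 3,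 2, 7]) (.leaf [1, 2, 3, 4, 5, 6, 7, 3, 2, 1, 4, 3, 2, 5, 4, 8, 7, 3, 2, 1, 4, 3, 5, 4, 6, 5, 7, 3, 8]) (.leaf []))) (.node (.node (.leaf [1, 2, 3, 4, 5, 6, 7, 3, 2, 1, 4, 8]) (.leaf [1, 2, 3, 4, 5, 7, 3, 2, 1, 4, 3, 2, 7, 8, 7, 3, 2, 1, 4, 3, 2]) (.leaf [1, 2, 3, 4, 5, 6, 7, 3, 2, 1, 4, 3, 2, 5, 8, 7, 3, 2, 1, 4, 3, 5, 4, 6, 5, 7]) (.leaf [1, 2, 3, 4, 5, 6, 7, 3, 2, 1, 4, 3, 5, 4, 8, 7, 3, 2, 1, 4, 3, 5, 4, 7, 3, 2, 1, 8, 7, 3])) (.node (.leaf [1, 2, 3, 4, 5, 6, 7, 3, 2, 1, 4, 3, 2, 7, 8, 7]) (.leaf [1, 2, 3, 4, 5, 6, 7, 3, 2, 1, 4, 5, 8, 7, 3, 2, 1, 4, 3, 2, 5, 6]) (.leaf [1, 2, 3, 4, 5, 6, 7, 3, 2, 1, 4, 3, 2, 5, 8, 7, 3, 2, 1, 4, 3,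 2, 5, 7, 3, 8, 7]) (.leaf [1, 2, 3, 4, 5, 6, 7, 3, 2, 1, 4, 3, 2, 5, 4, 7, 8, 7, 3, 2, 1, 4, 3, 2, 5, 4, 7, 3, 2, 4, 8, 7, 3, 2])) (.node (.leaf [1, 2, 3, 4, 5, 6, 7, 3, 2, 1, 4, 3, 2, 8, 7, 3, 4, 5]) (.leaf [1, 2, 3, 4, 5, 6, 7, 3, 2, 1, 4, 3, 2, 5, 4, 7, 8, 7, 3, 2, 4, 3, 5, 7]) (.leaf [1, 2, 3, 4, 5, 6, 7, 3, 2, 1, 4, 3, 2, 5, 8, 7, 3, 2, 1, 4, 3, 2, 5, 4, 7, 3, 2, 8]) (.leaf [])) (.node (.leaf [1, 2, 3, 4, 5, 6, 7, 3, 2, 4, 5, 8, 7, 3, 2, 1, 0, 4, 5]) (.leaf [1, 2, 3, 4, 5, 6, 7, 3, 2, 1, 4, 3, 2, 5, 8, 7, 3, 2, 1, 0, 4, 3, 5, 7, 8]) (.leaf [1, 2, 3, 4, 5, 6, 7, 3, 2, 1, 4, 3, 2, 5, 8, 7, 3, 2, 1, 4, 3, 2, 5, 4, 7, 3, 4, 8, 7]) (.leaf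 []))) (.node (.node (.leaf [1, 2, 3, 4, 5, 6, 7, 3, 2, 8, 7, 3, 4]) (.leaf [1, 2, 3, 4, 5, 6, 7, 3, 2, 1, 4, 5, 8, 7, 3, 2, 1, 4, 3, 5, 7]) (.leaf [1, 2, 3, 4, 5, 6, 7, 3, 2, 1, 4, 3, 5, 4, 8, 7, 3, 2, 4, 3, 5, 4, 6, 5, 7, 8]) (.leaf [1, 2, 3, 4, 5, 6, 7, 3, 2, 1, 4, 3, 2, 5, 4, 8, 7, 3, 2, 1, 4, 3, 2, 5, 4, 6, 5, 7, 3, 8, 7])) (.node (.leaf [1, 2, 3, 4, 5, 6, 7, 3, 2, 4, 8, 7, 3, 4, 5, 6]) (.leaf [1, 2, 3, 4, 5, 6, 7, 3, 2, 1, 4, 3, 2, 5, 4, 3, 8, 7, 3, 2, 1, 4, 5]) (.leaf [1, 2, 3, 4, 5, 6, 7, 3, 2, 1, 4, 3, 5, 4, 8, 7, 3, 2, 1, 4, 3, 5, 4, 7, 3, 8, 7]) (.leaf [])) (.node (.leaf [1, 2, 3, 4, 5, 6, 7, 3, 2, 4, 3, 5, 7, 8, 7, 3, 2, 1])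 (.leaf [1, 2, 3, 4, 5, 6, 7, 3, 2, 1, 4, 3, 5, 4, 7, 3, 8, 7, 3, 2, 4, 3, 7, 8]) (.leaf [1, 2, 3, 4, 5, 6, 7, 3, 2, 1, 4, 3, 5, 4, 8, 7, 3, 2, 1, 4, 3, 2, 7, 3, 4, 5, 6, 8]) (.leaf [])) (.node (.leaf [1, 2, 3, 4, 5, 6, 7, 3, 2, 1, 4, 3, 2, 8, 7, 3, 2, 1, 4, 3]) (.leaf [1, 2, 3, 4, 5, 6, 7, 3, 2, 1, 4, 3, 5, 4, 8, 7, 3, 2, 1, 4, 3, 5, 4, 7, 8]) (.leaf [1, 2, 3, 4, 5, 6, 7, 3, 2, 1, 4, 3, 5, 8, 7, 3, 2, 1, 0, 4, 3, 2, 5, 4, 7, 3, 2, 1, 8]) (.leaf [])))))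
def pathTree4 : SporBound.Q (List ℕ) := (.node (.node (.node (.node (.leaf [1, 2, 3, 4]) (.leaf [1, 2, 3, 4, 5, 6, 7, 3, 2, 1, 4, 3, 5, 4, 7, 3, 8, 7, 3, 2]) (.leaf [1, 2, 3, 4, 5, 6, 7, 3, 2, 1, 4, 3, 5, 7, 8, 7, 3, 2, 1, 4, 3, 2, 5, 7, 3]) (.leaf [1, 2, 3, 4, 5, 6, 7, 3, 2, 1, 4, 3, 5, 8, 7, 3, 2, 1, 4, 3, 2, 5, 4, 7, 3, 2, 4, 8, 7])) (.node (.leaf [1, 0, 2, 3, 4, 5, 6, 7, 3, 2, 8, 7, 3, 4]) (.leaf [1, 2, 3, 4, 5, 6, 7, 3, 2, 4, 3, 5, 4, 7, 8, 7, 3, 2, 4, 5, 6]) (.leaf [1, 2, 3, 4, 5, 6, 7, 3, 2, 1, 4, 3, 5, 7, 8, 7, 3, 2, 1, 4, 3, 5, 4, 7, 3, 2]) (.leaf [1, 2, 3, 4, 5, 6, 7, 3, 2, 1, 4, 3, 2, 5, 7, 8, 7, 3, 2, 1, 4, 3, 2, 5, 4, 3, 7,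 3, 4, 8, 7])) (.node (.leaf [1, 0, 2, 3, 4, 5, 6, 7, 3, 2, 4, 3, 8, 7, 3, 2, 4]) (.leaf [1, 2, 3, 4, 5, 6, 7, 3, 2, 1, 4, 3, 2, 5, 4, 8, 7, 3, 2, 4, 3, 7, 8]) (.leaf [1, 2, 3, 4, 5, 6, 7, 3, 2, 1, 4, 3, 5, 8, 7, 3, 2, 1, 0, 4, 3, 2, 5, 4, 7, 3, 2]) (.leaf [])) (.node (.leaf [1, 2, 3, 4, 5, 6, 7, 3, 2, 4, 3, 8, 7, 3, 2, 4, 5, 6]) (.leaf [1, 2, 3, 4, 5, 6, 7, 3, 2, 1, 4, 3, 5, 4, 8, 7, 3, 2, 1, 0, 4, 3, 7, 8]) (.leaf [1, 2, 3, 4, 5, 6, 7, 3, 2, 1, 4, 3, 5, 8, 7, 3, 2, 1, 0, 4, 3, 2, 5, 4, 7, 3, 8, 7]) (.leaf []))) (.node (.node (.leaf [1, 2, 3, 4, 7, 3, 8, 7]) (.leaf [1, 2, 3, 4, 5, 7, 3, 2, 1, 4, 8, 7, 3, 2, 1, 0, 4, 3, 5, 6]) (.leaf [1,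 2, 3, 4, 5, 6, 7, 3, 2, 4, 3, 5, 4, 8, 7, 3, 2, 1, 4, 3, 2, 5, 4, 3, 7]) (.leaf [1, 2, 3, 4, 5, 6, 7, 3, 2, 1, 4, 3, 2, 5, 4, 8, 7, 3, 2, 1, 4, 3, 2, 5, 4, 3, 7, 3, 4, 5])) (.node (.leaf [1, 0, 2, 3, 4, 5, 6, 7, 3, 2, 4, 8, 7, 3, 2]) (.leaf [1, 2, 3, 4, 5, 6, 7, 3, 2, 1, 4, 3, 2, 5, 4, 3, 8, 7, 3, 2, 4, 5]) (.leaf [1, 2, 3, 4, 5, 6, 7, 3, 2, 1, 4, 3, 2, 5, 4, 3, 8, 7, 3, 2, 1, 4, 3, 2, 5, 7, 8]) (.leaf [1, 2, 3, 4, 5, 6, 7, 3, 2, 1, 4, 3, 5, 8, 7, 3, 2, 1, 4, 3, 2, 5, 4, 7, 3, 2, 4, 5, 8, 7, 3])) (.node (.leaf [1, 2, 3, 4, 5, 6, 7, 3, 2, 1, 4, 5, 8, 7, 3, 4, 5]) (.leaf [1, 2, 3, 4, 5, 6, 7, 3, 2, 1, 4, 3, 5, 4, 8, 7, 3, 2, 4, 3, 5, 7, 8])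 (.leaf [1, 2, 3, 4, 5, 6, 7, 3, 2, 1, 4, 3, 2, 5, 4, 3, 8, 7, 3, 2, 4, 3, 5, 4, 7, 3, 8, 7]) (.leaf [])) (.node (.leaf [1, 2, 3, 4, 5, 6, 7, 3, 2, 1, 4, 3, 2, 5, 8, 7, 3, 4, 5]) (.leaf [1, 2, 3, 4, 5, 6, 7, 3, 2, 1, 4, 5, 8, 7, 3, 2, 1, 0, 4, 3, 2, 5, 4, 6]) (.leaf [1, 2, 3, 4, 5, 6, 7, 3, 2, 1, 4, 3, 2, 5, 4, 7, 8, 7, 3, 2, 1, 4, 3, 2, 5, 7, 3, 8, 7]) (.leaf []))) (.node (.node (.leaf [1, 0, 2, 3, 4, 5, 6, 7, 3, 4, 8]) (.leaf [1, 0, 2, 3, 4, 5, 6, 7, 3, 2, 4, 3, 5, 8, 7, 3, 2, 1, 4, 5, 6]) (.leaf [1, 2, 3, 4, 5, 6, 7, 3, 2, 1, 4, 3, 2, 5, 7, 3, 8, 7, 3, 2, 1, 0, 4, 3, 2, 7]) (.leaf [1, 2, 3, 4, 5, 6, 7, 3, 2, 1, 4, 3, 2, 5, 8, 7, 3, 2,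 1, 4, 3, 2, 5, 4, 7, 3, 2, 4, 5, 6])) (.node (.leaf [1, 2, 3, 4, 5, 6, 7, 3, 2, 4, 8, 7, 3, 2, 4]) (.leaf [1, 2, 3, 4, 5, 6, 7, 3, 2, 1, 4, 3, 5, 4, 8, 7, 3, 2, 4, 3, 5, 7]) (.leaf [1, 2, 3, 4, 5, 6, 7, 3, 2, 1, 4, 3, 2, 5, 7, 3, 8, 7, 3, 2, 1, 4, 3, 2, 7, 3, 4]) (.leaf [1, 2, 3, 4, 5, 6, 7, 3, 2, 1, 4, 3, 2, 5, 8, 7, 3, 2, 1, 4, 3, 2, 5, 4, 7, 3, 2, 4, 8, 7, 3, 2])) (.node (.leaf [1, 0, 2, 3, 4, 5, 6, 7, 3, 2, 4, 3, 5, 7, 8, 7, 3, 4]) (.leaf [1, 2, 3, 4, 5, 6, 7, 3, 2, 1, 4, 5, 8, 7, 3, 2, 4, 3, 5, 4, 7, 3, 2]) (.leaf [1, 2, 3, 4, 5, 6, 7, 3, 2, 1, 4, 3, 2, 5, 7, 3, 8, 7, 3, 2, 1, 0, 4, 3, 2, 1, 7, 8]) (.leaf [])) (.node (.leaf [1, 2,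 3, 4, 5, 6, 7, 3, 2, 1, 4, 8, 7, 3, 2, 1, 0, 4, 3]) (.leaf [1, 2, 3, 4, 5, 6, 7, 3, 2, 1, 4, 3, 2, 5, 4, 8, 7, 3, 2, 1, 0, 4, 3, 2, 5]) (.leaf [1, 2, 3, 4, 5, 6, 7, 3, 2, 1, 4, 3, 2, 5, 7, 8, 7, 3, 2, 1, 0, 4, 3, 2, 5, 4, 7, 3, 4]) (.leaf []))) (.node (.node (.leaf [1, 2, 3, 4, 5, 6, 7, 3, 4, 5, 8, 7]) (.leaf [1, 2, 3, 4, 5, 6, 7, 3, 2, 1, 4, 3, 5, 4, 8, 7, 3, 2, 4, 3, 5]) (.leaf [1, 2, 3, 4, 5, 6, 7, 3, 2, 1, 4, 3, 5, 4, 7, 3, 8, 7, 3, 2, 4, 3, 5, 4, 7, 8]) (.leaf [1, 2, 3, 4, 5, 6, 7, 3, 2, 1, 4, 5, 8, 7, 3, 2, 1, 4, 3, 2, 5, 4, 7, 3, 2, 1, 4, 8, 7, 3])) (.node (.leaf [1, 2, 3, 4, 5, 7, 3, 2, 1, 4, 3, 7, 8, 7, 3, 4]) (.leaf [1, 2, 3,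 4, 5, 6, 7, 3, 2, 4, 3, 5, 4, 7, 8, 7, 3, 2, 1, 4, 3, 2]) (.leaf [1, 2, 3, 4, 5, 6, 7, 3, 2, 1, 4, 3, 5, 4, 7, 3, 8, 7, 3, 2, 4, 3, 5, 4, 7, 3, 8]) (.leaf [])) (.node (.leaf [1, 2, 3, 4, 5, 6, 7, 3, 2, 1, 4, 3, 5, 8, 7, 3, 4, 5]) (.leaf [1, 2, 3, 4, 5, 6, 7, 3, 2, 1, 4, 3, 2, 5, 7, 3, 8, 7, 3, 2, 1, 4, 3, 2]) (.leaf [1, 2, 3, 4, 5, 6, 7, 3, 2, 1, 4, 3, 5, 4, 7, 3, 8, 7, 3, 2, 4, 3, 5, 4, 7, 3, 2, 1]) (.leaf [])) (.node (.leaf [1, 0, 2, 3, 4, 5, 6, 7, 3, 2, 4, 3, 5, 4, 8, 7, 3, 4, 5, 6]) (.leaf [1, 2, 3, 4, 5, 6, 7, 3, 2, 1, 4, 3, 2, 5, 8, 7, 3, 2, 4, 3, 5, 4, 7, 3, 2]) (.leaf [1, 2, 3, 4, 5, 6, 7, 3, 2, 1, 4, 3, 5, 4, 7, 8, 7, 3, 2, 1,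 4, 3, 5, 4, 6, 7, 3, 8, 7]) (.leaf [])))) (.node (.node (.node (.leaf [1, 2, 3, 4, 5, 7]) (.leaf [1, 2, 3, 4, 5, 6, 7, 3, 2, 1, 4, 3, 5, 8, 7, 3, 2, 1, 4, 3]) (.leaf [1, 2, 3, 4, 5, 6, 7, 3, 2, 1, 4, 3, 5, 8, 7, 3, 2, 1, 0, 4, 3, 5, 4, 7, 8]) (.leaf [1, 2, 3, 4, 5, 6, 7, 3, 2, 1, 4, 3, 2, 5, 4, 3, 8, 7, 3, 2, 1, 4, 3, 2, 5, 7, 3, 4, 5, 8])) (.node (.leaf [1, 2, 3, 4, 5, 6, 7, 3, 2, 1, 4, 3, 5, 7]) (.leaf [1, 2, 3, 4, 5, 6, 7, 3, 2, 4, 3, 5, 7, 8, 7, 3, 2, 1, 4, 5, 6]) (.leaf [1, 2, 3, 4, 5, 6, 7, 3, 2, 1, 4, 3, 5, 8, 7, 3, 2, 1, 4, 3, 2, 5, 6, 7, 3, 8]) (.leaf [1, 2, 3, 4, 5, 6, 7, 3, 2, 1, 4, 3, 2, 5, 8, 7, 3, 2, 1, 4, 3, 2, 5, 4, 3, 7,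 3, 4, 5, 6, 8])) (.node (.leaf [1, 0, 2, 3, 4, 5, 6, 7, 3, 2, 4, 8, 7, 3, 4, 5, 6]) (.leaf [1, 2, 3, 4, 5, 6, 7, 3, 2, 1, 4, 3, 2, 5, 8, 7, 3, 2, 1, 4, 3, 2, 5]) (.leaf [1, 2, 3, 4, 5, 6, 7, 3, 2, 1, 4, 3, 5, 8, 7, 3, 2, 1, 4, 3, 2, 5, 6, 7, 3, 4, 8]) (.leaf [])) (.node (.leaf [1, 2, 3, 4, 5, 7, 3, 2, 4, 8, 7, 3, 2, 1, 0, 4, 5, 6]) (.leaf [1, 2, 3, 4, 5, 6, 7, 3, 2, 1, 4, 3, 5, 7, 8, 7, 3, 2, 1, 0, 4, 3, 2, 5]) (.leaf [1, 2, 3, 4, 5, 6, 7, 3, 2, 1, 4, 3, 5, 8, 7, 3, 2, 1, 4, 3, 2, 5, 4, 7, 3, 2, 8, 7]) (.leaf []))) (.node (.node (.leaf [1, 0, 2, 1, 3, 2, 4, 5, 6, 7, 8]) (.leaf [1, 2, 3, 4, 5, 6, 7, 3, 2, 4, 3, 5, 7, 8, 7, 3, 2, 4, 3, 5])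 (.leaf [1, 2, 3, 4, 5, 6, 7, 3, 2, 1, 4, 3, 2, 5, 4, 3, 8, 7, 3, 2, 1, 4, 3, 2, 5, 7]) (.leaf [1, 2, 3, 4, 5, 6, 7, 3, 2, 1, 4, 3, 2, 5, 4, 8, 7, 3, 2, 1, 4, 3, 5, 4, 6, 5, 7, 3, 8, 7])) (.node (.leaf [1, 2, 3, 4, 5, 6, 7, 3, 2, 1, 4, 3, 2, 5, 7]) (.leaf [1, 2, 3, 4, 5, 6, 7, 3, 2, 1, 4, 3, 2, 5, 7, 8, 7, 3, 2, 1, 4, 5]) (.leaf [1, 2, 3, 4, 5, 6, 7, 3, 2, 1, 4, 3, 2, 5, 4, 7, 8, 7, 3, 2, 1, 4, 3, 5, 4, 7, 8]) (.leaf [1, 2, 3, 4, 5, 6, 7, 3, 2, 1, 4, 3, 2, 5, 4, 8, 7, 3, 2, 1, 0, 4, 3, 2, 1, 5, 4, 6, 7, 3, 8, 7])) (.node (.leaf [1, 2, 3, 4, 5, 6, 7, 3, 2, 4, 3, 5, 4, 7, 3, 2, 8]) (.leaf [1, 2, 3, 4, 5, 6, 7, 3, 2, 1, 4, 3, 5, 8, 7, 3, 2,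 1, 0, 4, 3, 2, 7]) (.leaf [1, 2, 3, 4, 5, 6, 7, 3, 2, 1, 4, 3, 2, 5, 4, 8, 7, 3, 2, 1, 0, 4, 3, 2, 1, 7, 3, 8]) (.leaf [])) (.node (.leaf [1, 2, 3, 4, 5, 7, 3, 2, 1, 4, 3, 2, 8, 7, 3, 2, 1, 4, 5]) (.leaf [1, 2, 3, 4, 5, 6, 7, 3, 2, 1, 4, 5, 8, 7, 3, 2, 1, 4, 3, 2, 7, 3, 4, 8]) (.leaf [1, 2, 3, 4, 5, 6, 7, 3, 2, 1, 4, 3, 2, 5, 4, 8, 7, 3, 2, 1, 0, 4, 3, 2, 5, 4, 6, 7, 8]) (.leaf []))) (.node (.node (.leaf [1, 2, 3, 4, 5, 7, 3, 2, 4, 3, 8]) (.leaf [1, 2, 3, 4, 5, 6, 7, 3, 2, 1, 4, 3, 2, 5, 4, 8, 7, 3, 2, 4, 3]) (.leaf [1, 2, 3, 4, 5, 6, 7, 3, 2, 1, 4, 3, 2, 5, 7, 8, 7, 3, 2, 1, 4, 3, 2, 7, 3, 4]) (.leaf [1, 2, 3, 4, 5, 6, 7, 3, 2, 1, 4, 3,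 5, 4, 7, 8, 7, 3, 2, 1, 4, 3, 2, 5, 4, 7, 3, 2, 1, 8])) (.node (.leaf [1, 0, 2, 3, 4, 5, 6, 7, 3, 2, 4, 3, 8, 7, 3, 2]) (.leaf [1, 2, 3, 4, 5, 6, 7, 3, 2, 1, 4, 3, 5, 8, 7, 3, 2, 1, 4, 3, 2, 5]) (.leaf [1, 2, 3, 4, 5, 6, 7, 3, 2, 1, 4, 3, 2, 5, 7, 8, 7, 3, 2, 1, 4, 3, 2, 7, 3, 4, 8]) (.leaf [1, 2, 3, 4, 5, 6, 7, 3, 2, 1, 4, 3, 2, 5, 4, 7, 8, 7, 3, 2, 1, 4, 3, 2, 5, 4, 3, 7, 3, 2, 8, 7, 3])) (.node (.leaf [1, 0, 2, 3, 4, 5, 7, 3, 2, 4, 3, 7, 8, 7, 3, 4, 5, 6]) (.leaf [1, 2, 3, 4, 5, 6, 7, 3, 2, 4, 3, 5, 4, 8, 7, 3, 2, 1, 4, 3, 2, 5, 6]) (.leaf [1, 2, 3, 4, 5, 6, 7, 3, 2, 1, 4, 3, 2, 5, 7, 8, 7, 3, 2, 1, 4, 3, 2, 5, 7, 3, 4, 5]) (.leaf []))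 (.node (.leaf [1, 2, 3, 4, 5, 6, 7, 3, 2, 4, 3, 5, 4, 7, 8, 7, 3, 2, 4]) (.leaf [1, 2, 3, 4, 5, 6, 7, 3, 2, 1, 4, 3, 2, 5, 4, 8, 7, 3, 2, 4, 3, 5, 4, 6, 7]) (.leaf [1, 2, 3, 4, 5, 6, 7, 3, 2, 1, 4, 3, 2, 5, 8, 7, 3, 2, 1, 0, 4, 3, 2, 1, 5, 4, 6, 7, 8]) (.leaf []))) (.node (.node (.leaf [1, 0, 2, 3, 4, 5, 7, 3, 4, 8, 7, 3, 2]) (.leaf [1, 2, 3, 4, 5, 6, 7, 3, 2, 1, 4, 3, 5, 8, 7, 3, 2, 4, 3, 5, 6]) (.leaf [1, 2, 3, 4, 5, 6, 7, 3, 2, 1, 4, 3, 5, 4, 8, 7, 3, 2, 1, 0, 4, 3, 2, 1, 5, 7]) (.leaf [1, 2, 3, 4, 5, 6, 7, 3, 2, 1, 4, 3, 2, 5, 4, 7, 8, 7, 3, 2, 1, 4, 3, 2, 5, 4, 3, 7, 3, 2, 8])) (.node (.leaf [1, 2, 3, 4, 5, 6, 7, 3, 2, 1, 8, 7, 3,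 4, 5, 6]) (.leaf [1, 2, 3, 4, 5, 6, 7, 3, 2, 4, 3, 5, 4, 8, 7, 3, 2, 4, 3, 5, 4, 7]) (.leaf [1, 2, 3, 4, 5, 6, 7, 3, 2, 1, 4, 3, 5, 4, 8, 7, 3, 2, 1, 0, 4, 3, 2, 5, 4, 3, 7]) (.leaf [])) (.node (.leaf [1, 2, 3, 4, 5, 7, 3, 2, 1, 4, 3, 8, 7, 3, 2, 1, 4, 5]) (.leaf [1, 2, 3, 4, 5, 6, 7, 3, 2, 1, 4, 3, 2, 5, 8, 7, 3, 2, 1, 0, 4, 3, 5, 4]) (.leaf [1, 2, 3, 4, 5, 6, 7, 3, 2, 1, 4, 3, 5, 4, 7, 8, 7, 3, 2, 4, 3, 5, 4, 7, 3, 2, 8, 7]) (.leaf [])) (.node (.leaf [1, 0, 2, 3, 4, 5, 6, 7, 3, 2, 4, 3, 8, 7, 3, 2, 4, 3, 5, 4]) (.leaf [1, 2, 3, 4, 5, 6, 7, 3, 2, 1, 4, 3, 5, 4, 7, 8, 7, 3, 2, 1, 4, 3, 2, 7, 8]) (.leaf [1, 2, 3, 4, 5, 6, 7, 3, 2, 1, 4,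 3, 5, 4, 8, 7, 3, 2, 1, 0, 4, 3, 5, 4, 6, 7, 3, 2, 8]) (.leaf [])))) (.node (.node (.node (.leaf [1, 2, 3, 7, 8]) (.leaf [1, 2, 3, 4, 5, 6, 7, 3, 2, 1, 4, 3, 8, 7, 3, 2, 1, 4, 5, 6]) (.leaf [1, 2, 3, 4, 5, 6, 7, 3, 2, 1, 4, 3, 5, 8, 7, 3, 2, 4, 3, 5, 4, 7, 3, 2, 1]) (.leaf [1, 2, 3, 4, 5, 6, 7, 3, 2, 1, 4, 3, 2, 5, 4, 7, 8, 7, 3, 2, 1, 4, 3, 2, 5, 4, 7, 3, 2, 8])) (.node (.leaf [1, 2, 3, 4, 7, 3, 2, 1, 8, 7, 3, 4, 5, 6]) (.leaf [1, 2, 3, 4, 5, 6, 7, 3, 2, 4, 3, 5, 8, 7, 3, 2, 4, 3, 5, 7, 8]) (.leaf [1, 2, 3, 4, 5, 6, 7, 3, 2, 1, 4, 5, 8, 7, 3, 2, 1, 0, 4, 3, 2, 5, 4, 7, 3, 2]) (.leaf [1, 2, 3, 4, 5, 6, 7, 3, 2, 1, 4, 3, 2, 5, 8, 7, 3, 2,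 1, 4, 3, 2, 5, 6, 7, 3, 4, 5, 6, 8, 7])) (.node (.leaf [1, 2, 3, 4, 5, 6, 7, 3, 2, 1, 4, 3, 2, 7, 3, 4, 8]) (.leaf [1, 2, 3, 4, 5, 6, 7, 3, 2, 1, 4, 3, 2, 8, 7, 3, 2, 1, 0, 4, 3, 5, 7]) (.leaf [1, 2, 3, 4, 5, 6, 7, 3, 2, 1, 4, 5, 8, 7, 3, 2, 1, 4, 3, 2, 5, 4, 6, 7, 3, 4, 8]) (.leaf [])) (.node (.leaf [1, 0, 2, 3, 4, 5, 6, 7, 3, 2, 4, 3, 5, 8, 7, 3, 2, 4, 3]) (.leaf [1, 2, 3, 4, 5, 6, 7, 3, 2, 1, 4, 3, 5, 7, 8, 7, 3, 2, 4, 3, 5, 4, 7, 8]) (.leaf [1, 2, 3, 4, 5, 6, 7, 3, 2, 1, 4, 5, 8, 7, 3, 2, 1, 4, 3, 2, 5, 4, 7, 3, 2, 4, 8, 7]) (.leaf []))) (.node (.node (.leaf [1, 0, 2, 3, 4, 7, 3, 2, 8, 7]) (.leaf [1, 2, 3, 4, 5, 6, 7, 3, 2, 4, 3, 7,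 8, 7, 3, 2, 4, 3, 5, 4]) (.leaf [1, 2, 3, 4, 5, 6, 7, 3, 2, 1, 4, 3, 2, 5, 4, 7, 8, 7, 3, 2, 4, 3, 5, 4, 7, 3]) (.leaf [1, 2, 3, 4, 5, 6, 7, 3, 2, 1, 4, 3, 2, 5, 7, 8, 7, 3, 2, 1, 4, 3, 2, 5, 4, 7, 3, 4, 5, 8])) (.node (.leaf [1, 2, 3, 4, 5, 7, 3, 2, 1, 4, 3, 8, 7, 3, 2]) (.leaf [1, 2, 3, 4, 5, 6, 7, 3, 2, 1, 4, 3, 2, 7, 8, 7, 3, 2, 1, 4, 3, 5]) (.leaf [1, 2, 3, 4, 5, 6, 7, 3, 2, 1, 4, 3, 2, 5, 4, 8, 7, 3, 2, 1, 0, 4, 3, 5, 4, 6, 7]) (.leaf [1, 2, 3, 4, 5, 6, 7, 3, 2, 1, 4, 3, 2, 5, 4, 8, 7, 3, 2, 1, 4, 3, 2, 5, 4, 6, 5, 7, 3, 4, 8, 7])) (.node (.leaf [1, 2, 3, 4, 5, 6, 7, 3, 2, 4, 3, 8, 7, 3, 2, 4, 5]) (.leaf [1, 2, 3, 4, 5, 6, 7, 3, 2,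 1, 4, 3, 5, 8, 7, 3, 2, 4, 3, 5, 4, 7, 3]) (.leaf [1, 2, 3, 4, 5, 6, 7, 3, 2, 1, 4, 3, 2, 5, 4, 8, 7, 3, 2, 1, 0, 4, 3, 5, 4, 7, 3, 8]) (.leaf [])) (.node (.leaf [1, 2, 3, 4, 5, 6, 7, 3, 2, 1, 4, 3, 5, 8, 7, 3, 2, 4, 5]) (.leaf [1, 2, 3, 4, 5, 6, 7, 3, 2, 4, 3, 5, 4, 8, 7, 3, 2, 1, 4, 3, 2, 5, 7, 3]) (.leaf [1, 2, 3, 4, 5, 6, 7, 3, 2, 1, 4, 3, 2, 5, 4, 8, 7, 3, 2, 1, 4, 3, 2, 5, 4, 3, 7, 3, 8]) (.leaf []))) (.node (.node (.leaf [1, 0, 2, 3, 4, 5, 6, 7, 3, 2, 8, 7]) (.leaf [1, 2, 3, 4, 5, 6, 7, 3, 2, 1, 4, 3, 2, 7, 8, 7, 3, 2, 1, 0, 4]) (.leaf [1, 2, 3, 4, 5, 6, 7, 3, 2, 1, 4, 3, 2, 5, 8, 7, 3, 2, 1, 0, 4, 3, 5, 4, 7, 8]) (.leaf [1, 2, 3,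 4, 5, 6, 7, 3, 2, 1, 4, 3, 5, 4, 8, 7, 3, 2, 1, 4, 3, 2, 5, 4, 3, 7, 3, 2, 1, 8])) (.node (.leaf [1, 0, 2, 3, 4, 5, 6, 7, 3, 2, 8, 7, 3, 4, 5, 6]) (.leaf [1, 2, 3, 4, 5, 6, 7, 3, 2, 1, 4, 3, 7, 8, 7, 3, 2, 4, 3, 5, 4, 7]) (.leaf [1, 2, 3, 4, 5, 6, 7, 3, 2, 1, 4, 3, 2, 5, 8, 7, 3, 2, 1, 0, 4, 3, 5, 4, 6, 7, 8]) (.leaf [1, 2, 3, 4, 5, 6, 7, 3, 2, 1, 4, 3, 2, 5, 4, 8, 7, 3, 2, 1, 4, 3, 2, 5, 4, 7, 3, 2, 1, 0, 8, 7, 3])) (.node (.leaf [1, 0, 2, 1, 3, 4, 5, 6, 7, 3, 4, 5, 8, 7, 3, 2, 1, 0, 4]) (.leaf [1, 2, 3, 4, 5, 6, 7, 3, 2, 4, 5, 8, 7, 3, 2, 1, 4, 3, 2, 7, 3, 4, 5]) (.leaf [1, 2, 3, 4, 5, 6, 7, 3, 2, 1, 4, 3, 2, 5, 8, 7, 3, 2, 1, 0, 4, 3,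 2, 5, 4, 7, 3, 4]) (.leaf [])) (.node (.leaf [1, 2, 3, 4, 5, 6, 7, 3, 2, 4, 3, 5, 8, 7, 3, 2, 4, 3, 7]) (.leaf [1, 2, 3, 4, 5, 6, 7, 3, 2, 1, 4, 3, 2, 5, 7, 8, 7, 3, 2, 1, 4, 3, 2, 7, 3]) (.leaf [1, 2, 3, 4, 5, 6, 7, 3, 2, 1, 4, 3, 2, 5, 8, 7, 3, 2, 1, 4, 3, 2, 5, 4, 3, 7, 3, 4, 8]) (.leaf []))) (.node (.node (.leaf [1, 2, 3, 4, 5, 7, 3, 2, 1, 8, 7, 3, 2]) (.leaf [1, 2, 3, 4, 5, 6, 7, 3, 2, 1, 4, 3, 8, 7, 3, 2, 1, 4, 3, 2, 5]) (.leaf [1, 2, 3, 4, 5, 6, 7, 3, 2, 1, 4, 3, 5, 4, 8, 7, 3, 2, 1, 4, 3, 2, 5, 4, 6, 5]) (.leaf [1, 2, 3, 4, 5, 6, 7, 3, 2, 1, 4, 3, 2, 5, 4, 8, 7, 3, 2, 1, 0, 4, 3, 2, 5, 4, 3, 7, 3, 8, 7])) (.node (.leaf [1, 2, 3,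 4, 5, 6, 7, 3, 2, 4, 3, 8, 7, 3, 4, 5]) (.leaf [1, 2, 3, 4, 5, 6, 7, 3, 2, 4, 3, 5, 8, 7, 3, 2, 1, 4, 3, 5, 6, 7]) (.leaf [1, 2, 3, 4, 5, 6, 7, 3, 2, 1, 4, 3, 5, 4, 8, 7, 3, 2, 1, 4, 3, 2, 5, 4, 6, 7, 3]) (.leaf [])) (.node (.leaf [1, 2, 3, 4, 5, 7, 3, 2, 1, 4, 8, 7, 3, 2, 1, 0, 4, 5]) (.leaf [1, 2, 3, 4, 5, 6, 7, 3, 2, 1, 4, 3, 2, 5, 8, 7, 3, 2, 4, 3, 5, 4, 7, 8]) (.leaf [1, 2, 3, 4, 5, 6, 7, 3, 2, 1, 4, 3, 5, 4, 8, 7, 3, 2, 1, 0, 4, 3, 5, 4, 7, 3, 8, 7]) (.leaf [])) (.node (.leaf [1, 2, 3, 4, 5, 6, 7, 3, 2, 1, 4, 3, 2, 5, 7, 3, 8, 7, 3, 4]) (.leaf [1, 2, 3, 4, 5, 6, 7, 3, 2, 1, 4, 3, 5, 4, 8, 7, 3, 2, 1, 0, 4, 3, 5, 4, 6]) (.leaf [1,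 2, 3, 4, 5, 6, 7, 3, 2, 1, 4, 3, 5, 4, 8, 7, 3, 2, 1, 4, 3, 2, 5, 4, 7, 3, 4, 5, 6]) (.leaf [])))) (.node (.node (.node (.leaf [1, 0, 2, 1, 3, 7, 8]) (.leaf [1, 2, 3, 4, 5, 6, 7, 3, 2, 1, 4, 5, 8, 7, 3, 2, 1, 4, 3, 2]) (.leaf [1, 2, 3, 4, 5, 6, 7, 3, 2, 1, 4, 5, 8, 7, 3, 2, 1, 4, 3, 2, 5, 4, 6, 7, 8]) (.leaf [1, 2, 3, 4, 5, 6, 7, 3, 2, 1, 4, 3, 2, 5, 4, 8, 7, 3, 2, 1, 0, 4, 3, 2, 5, 4, 3, 7, 3, 4])) (.node (.leaf [1, 2, 3, 4, 5, 6, 7, 3, 2, 8, 7, 3, 4, 5]) (.leaf [1, 0, 2, 3, 4, 5, 6, 7, 3, 2, 4, 3, 5, 4, 8, 7, 3, 2, 1, 4, 5, 6]) (.leaf [1, 2, 3, 4, 5, 6, 7, 3, 2, 1, 4, 5, 8, 7, 3, 2, 1, 4, 3, 5, 4, 7, 3, 2, 1, 8]) (.leaf [1, 2, 3, 4, 5,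 6, 7, 3, 2, 1, 4, 3, 5, 4, 8, 7, 3, 2, 1, 4, 3, 2, 5, 4, 6, 5, 7, 3, 4, 8, 7])) (.node (.leaf [1, 2, 3, 4, 5, 6, 7, 3, 2, 1, 4, 3, 5, 8, 7, 3, 4]) (.leaf [1, 2, 3, 4, 5, 6, 7, 3, 2, 1, 4, 3, 5, 4, 7, 8, 7, 3, 2, 4, 3, 5, 6]) (.leaf [1, 2, 3, 4, 5, 6, 7, 3, 2, 1, 4, 3, 2, 5, 4, 3, 8, 7, 3, 2, 1, 0, 4, 3, 2, 7, 3, 4]) (.leaf [])) (.node (.leaf [1, 0, 2, 3, 4, 5, 6, 7, 3, 2, 4, 5, 8, 7, 3, 2, 4, 3, 5]) (.leaf [1, 2, 3, 4, 5, 6, 7, 3, 2, 1, 4, 3, 5, 8, 7, 3, 2, 1, 4, 3, 2, 5, 7, 8]) (.leaf [1, 2, 3, 4, 5, 6, 7, 3, 2, 1, 4, 3, 2, 5, 4, 3, 8, 7, 3, 2, 1, 4, 3, 2, 7, 3, 4, 8, 7]) (.leaf []))) (.node (.node (.leaf [1, 2, 3, 4, 5, 6, 7, 3, 2, 4])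 (.leaf [1, 0, 2, 3, 4, 5, 6, 7, 3, 2, 4, 3, 5, 4, 7, 8, 7, 3, 2, 4, 5]) (.leaf [1, 2, 3, 4, 5, 6, 7, 3, 2, 1, 4, 3, 2, 5, 4, 8, 7, 3, 2, 1, 4, 3, 2, 5, 6, 7]) (.leaf [1, 2, 3, 4, 5, 6, 7, 3, 2, 1, 4, 3, 2, 5, 8, 7, 3, 2, 1, 0, 4, 3, 2, 5, 4, 7, 3, 4, 8, 7])) (.node (.leaf [1, 2, 3, 4, 5, 6, 7, 3, 2, 4, 3, 5, 4, 7, 3]) (.leaf [1, 2, 3, 4, 5, 6, 7, 3, 2, 1, 4, 3, 5, 4, 7, 3, 8, 7, 3, 2, 4, 3]) (.leaf [1, 2, 3, 4, 5, 6, 7, 3, 2, 1, 4, 3, 2, 5, 4, 8, 7, 3, 2, 1, 4, 3, 2, 7, 3, 8, 7]) (.leaf [1, 2, 3, 4, 5, 6, 7, 3, 2, 1, 4, 3, 2, 5, 8, 7, 3, 2, 1, 0, 4, 3, 2, 5, 4, 3, 7, 3, 4, 8, 7, 3])) (.node (.leaf [1, 2, 3, 4, 5, 6, 7, 3, 2, 4, 5, 8, 7,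 3, 4, 5, 6]) (.leaf [1, 2, 3, 4, 5, 6, 7, 3, 2, 1, 4, 5, 8, 7, 3, 2, 1, 0, 4, 3, 5, 4, 6]) (.leaf [1, 2, 3, 4, 5, 6, 7, 3, 2, 1, 4, 3, 2, 5, 4, 8, 7, 3, 2, 1, 4, 3, 2, 7, 3, 4, 8, 7]) (.leaf [])) (.node (.leaf [1, 2, 3, 4, 5, 7, 3, 2, 1, 4, 3, 7, 8, 7, 3, 2, 4, 3, 5]) (.leaf [1, 2, 3, 4, 5, 6, 7, 3, 2, 1, 4, 3, 2, 5, 4, 3, 8, 7, 3, 2, 1, 4, 3, 5, 4]) (.leaf [1, 2, 3, 4, 5, 6, 7, 3, 2, 1, 4, 3, 2, 5, 4, 8, 7, 3, 2, 1, 4, 3, 5, 4, 6, 7, 3, 8, 7]) (.leaf []))) (.node (.node (.leaf [1, 2, 3, 4, 5, 7, 3, 2, 1, 4, 8, 7]) (.leaf [1, 2, 3, 4, 5, 7, 3, 2, 1, 4, 3, 2, 8, 7, 3, 2, 1, 0, 4, 3, 2]) (.leaf [1, 2, 3, 4, 5, 6, 7, 3, 2, 1, 4, 3, 2, 5, 8,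 7, 3, 2, 1, 4, 3, 5, 4, 6, 7, 3]) (.leaf [1, 2, 3, 4, 5, 6, 7, 3, 2, 1, 4, 3, 5, 4, 8, 7, 3, 2, 1, 4, 3, 5, 4, 7, 3, 2, 8, 7, 3, 4])) (.node (.leaf [1, 2, 3, 4, 5, 6, 7, 3, 2, 1, 4, 3, 2, 8, 7, 3]) (.leaf [1, 2, 3, 4, 5, 6, 7, 3, 2, 1, 4, 5, 8, 7, 3, 2, 1, 4, 3, 2, 5, 7]) (.leaf [1, 2, 3, 4, 5, 6, 7, 3, 2, 1, 4, 3, 2, 5, 8, 7, 3, 2, 1, 4, 3, 2, 7, 3, 4, 5, 6]) (.leaf [1, 2, 3, 4, 5, 6, 7, 3, 2, 1, 4, 3, 2, 5, 4, 7, 8, 7, 3, 2, 1, 4, 3, 2, 5, 4, 7, 3, 2, 4, 8, 7, 3, 4])) (.node (.leaf [1, 2, 3, 4, 5, 7, 3, 2, 1, 4, 3, 2, 7, 3, 8, 7, 3, 2]) (.leaf [1, 2, 3, 4, 5, 6, 7, 3, 2, 1, 4, 3, 2, 5, 4, 7, 8, 7, 3, 2, 4, 3, 7, 8]) (.leaf [1, 2, 3, 4,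 5, 6, 7, 3, 2, 1, 4, 3, 2, 5, 8, 7, 3, 2, 1, 4, 3, 2, 5, 4, 7, 3, 4, 5]) (.leaf [])) (.node (.leaf [1, 2, 3, 4, 5, 6, 7, 3, 2, 4, 5, 8, 7, 3, 2, 1, 4, 3, 2]) (.leaf [1, 2, 3, 4, 5, 6, 7, 3, 2, 1, 4, 3, 2, 5, 8, 7, 3, 2, 1, 4, 3, 2, 5, 4, 3]) (.leaf [1, 2, 3, 4, 5, 6, 7, 3, 2, 1, 4, 3, 2, 5, 8, 7, 3, 2, 1, 4, 3, 2, 5, 6, 7, 3, 4, 5, 6]) (.leaf []))) (.node (.node (.leaf [1, 2, 3, 4, 5, 7, 3, 2, 8, 7, 3, 4, 5]) (.leaf [1, 2, 3, 4, 5, 6, 7, 3, 2, 1, 4, 5, 8, 7, 3, 2, 1, 4, 3, 7, 8]) (.leaf [1, 2, 3, 4, 5, 6, 7, 3, 2, 1, 4, 3, 5, 4, 8, 7, 3, 2, 4, 3, 5, 4, 6, 7, 3, 8]) (.leaf [1, 2, 3, 4, 5, 6, 7, 3, 2, 1, 4, 3, 2, 5, 4, 8, 7, 3, 2, 1, 4, 3,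 2, 5, 4, 7, 3, 2, 1, 0, 8])) (.node (.leaf [1, 2, 3, 4, 5, 7, 3, 2, 4, 8, 7, 3, 2, 1, 0, 4]) (.leaf [1, 2, 3, 4, 5, 6, 7, 3, 2, 1, 4, 3, 2, 5, 4, 3, 8, 7, 3, 2, 4, 3, 5]) (.leaf [1, 2, 3, 4, 5, 6, 7, 3, 2, 1, 4, 3, 5, 4, 8, 7, 3, 2, 4, 3, 5, 4, 6, 7, 3, 8, 7]) (.leaf [])) (.node (.leaf [1, 2, 3, 4, 5, 6, 7, 3, 2, 4, 3, 5, 7, 8, 7, 3, 2, 4]) (.leaf [1, 2, 3, 4, 5, 6, 7, 3, 2, 1, 4, 3, 5, 4, 7, 8, 7, 3, 2, 1, 4, 3, 2, 5]) (.leaf [1, 2, 3, 4, 5, 6, 7, 3, 2, 1, 4, 3, 5, 4, 8, 7, 3, 2, 1, 4, 3, 5, 4, 6, 7, 3, 2, 8]) (.leaf [])) (.node (.leaf [1, 2, 3, 4, 5, 6, 7, 3, 2, 1, 4, 3, 2, 8, 7, 3, 2, 1, 4, 5]) (.leaf [1, 2, 3, 4, 5, 6, 7, 3, 2, 1, 4,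 3, 5, 4, 8, 7, 3, 2, 1, 4, 3, 5, 6, 7, 8]) (.leaf [1, 2, 3, 4, 5, 6, 7, 3, 2, 1, 4, 3, 5, 8, 7, 3, 2, 1, 0, 4, 3, 2, 5, 4, 7, 3, 2, 8, 7]) (.leaf [])))))
def pathTree5 : SporBound.Q (List ℕ) := (.node (.node (.node (.node (.leaf [1, 2, 3, 4, 7]) (.leaf [1, 2, 3, 4, 5, 6, 7, 3, 2, 1, 4, 3, 5, 4, 7, 3, 8, 7, 3, 4]) (.leaf [1, 2, 3, 4, 5, 6, 7, 3, 2, 1, 4, 3, 5, 7, 8, 7, 3, 2, 1, 4, 3, 2, 5, 7, 8]) (.leaf [1, 2, 3, 4, 5, 6, 7, 3, 2, 1, 4, 3, 5, 8, 7, 3, 2, 1, 4, 3, 2, 5, 4, 7, 3, 4, 5, 8, 7])) (.node (.leaf [1, 0, 2, 3, 4, 5, 7, 3, 2, 8, 7, 3, 4, 5]) (.leaf [1, 2, 3, 4, 5, 6, 7, 3, 2, 4, 3, 5, 4, 8, 7, 3, 2, 1, 0, 4, 3]) (.leaf [1, 2, 3, 4,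 5, 6, 7, 3, 2, 1, 4, 3, 5, 7, 8, 7, 3, 2, 1, 4, 3, 5, 4, 7, 3, 8]) (.leaf [1, 2, 3, 4, 5, 6, 7, 3, 2, 1, 4, 3, 2, 5, 7, 8, 7, 3, 2, 1, 4, 3, 2, 5, 4, 7, 3, 4, 5, 8, 7])) (.node (.leaf [1, 0, 2, 3, 4, 5, 6, 7, 3, 2, 4, 3, 8, 7, 3, 4, 5]) (.leaf [1, 2, 3, 4, 5, 6, 7, 3, 2, 1, 4, 3, 2, 5, 7, 3, 8, 7, 3, 2, 1, 0, 4]) (.leaf [1, 2, 3, 4, 5, 6, 7, 3, 2, 1, 4, 3, 5, 8, 7, 3, 2, 1, 0, 4, 3, 2, 5, 4, 7, 3, 8]) (.leaf [])) (.node (.leaf [1, 2, 3, 4, 5, 7, 3, 2, 4, 3, 7, 8, 7, 3, 2, 1, 0, 4]) (.leaf [1, 2, 3, 4, 5, 6, 7, 3, 2, 1, 4, 3, 5, 4, 8, 7, 3, 2, 1, 4, 3, 2, 5, 4]) (.leaf [1, 2, 3, 4, 5, 6, 7, 3, 2, 1, 4, 3, 5, 8, 7, 3, 2, 1, 0, 4, 3, 5, 4,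 7, 3, 2, 1, 8]) (.leaf []))) (.node (.node (.leaf [1, 2, 3, 4, 5, 6, 7, 8]) (.leaf [1, 2, 3, 4, 5, 6, 7, 3, 2, 1, 8, 7, 3, 2, 4, 3, 5, 4, 7, 3]) (.leaf [1, 2, 3, 4, 5, 6, 7, 3, 2, 4, 3, 5, 4, 8, 7, 3, 2, 1, 4, 3, 2, 5, 7, 3, 4]) (.leaf [1, 2, 3, 4, 5, 6, 7, 3, 2, 1, 4, 3, 2, 5, 4, 8, 7, 3, 2, 1, 4, 3, 2, 5, 4, 3, 7, 3, 4, 8])) (.node (.leaf [1, 0, 2, 3, 4, 5, 6, 7, 3, 2, 4, 8, 7, 3, 4]) (.leaf [1, 2, 3, 4, 5, 6, 7, 3, 2, 1, 4, 3, 2, 5, 4, 3, 8, 7, 3, 4, 5, 6]) (.leaf [1, 2, 3, 4, 5, 6, 7, 3, 2, 1, 4, 3, 2, 5, 4, 3, 8, 7, 3, 2, 1, 4, 3, 2, 7, 3, 4]) (.leaf [1, 2, 3, 4, 5, 6, 7, 3, 2, 1, 4, 5, 8, 7, 3, 2, 1, 4, 3, 2, 5, 4, 7, 3, 2, 1, 4,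 5, 8, 7, 3])) (.node (.leaf [1, 2, 3, 4, 5, 6, 7, 3, 2, 1, 4, 8, 7, 3, 2, 1, 0]) (.leaf [1, 2, 3, 4, 5, 6, 7, 3, 2, 1, 4, 3, 5, 7, 8, 7, 3, 2, 1, 0, 4, 3, 2]) (.leaf [1, 2, 3, 4, 5, 6, 7, 3, 2, 1, 4, 3, 2, 5, 4, 7, 8, 7, 3, 2, 1, 4, 3, 2, 5, 4, 3, 7]) (.leaf [])) (.node (.leaf [1, 2, 3, 4, 5, 6, 7, 3, 2, 1, 4, 3, 2, 7, 3, 8, 7, 3, 2]) (.leaf [1, 2, 3, 4, 5, 6, 7, 3, 2, 1, 4, 5, 8, 7, 3, 2, 1, 0, 4, 3, 2, 5, 4, 7]) (.leaf [1, 2, 3, 4, 5, 6, 7, 3, 2, 1, 4, 3, 2, 5, 4, 7, 8, 7, 3, 2, 1, 4, 3, 5, 4, 7, 3, 2, 8]) (.leaf []))) (.node (.node (.leaf [1, 0, 2, 3, 4, 5, 7, 3, 4, 8, 7]) (.leaf [1, 0, 2, 3, 4, 5, 6, 7, 3, 2, 4, 3, 5, 8, 7, 3, 2, 4,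 3, 5, 4]) (.leaf [1, 2, 3, 4, 5, 6, 7, 3, 2, 1, 4, 3, 2, 5, 7, 3, 8, 7, 3, 2, 1, 0, 4, 3, 7, 8]) (.leaf [1, 2, 3, 4, 5, 6, 7, 3, 2, 1, 4, 3, 2, 5, 8, 7, 3, 2, 1, 4, 3, 2, 5, 4, 7, 3, 2, 4, 5, 8])) (.node (.leaf [1, 2, 3, 4, 5, 6, 7, 3, 2, 4, 8, 7, 3, 4, 5]) (.leaf [1, 2, 3, 4, 5, 6, 7, 3, 2, 1, 4, 3, 5, 4, 8, 7, 3, 2, 4, 3, 7, 8]) (.leaf [1, 2, 3, 4, 5, 6, 7, 3, 2, 1, 4, 3, 2, 5, 7, 3, 8, 7, 3, 2, 1, 4, 3, 2, 7, 3, 8]) (.leaf [1, 2, 3, 4, 5, 6, 7, 3, 2, 1, 4, 3, 2, 5, 8, 7, 3, 2, 1, 4, 3, 2, 5, 4, 7, 3, 4, 5, 8, 7, 3, 2])) (.node (.leaf [1, 0, 2, 3, 4, 5, 6, 7, 3, 2, 4, 3, 5, 8, 7, 3, 2, 1]) (.leaf [1, 2, 3, 4, 5, 6, 7, 3, 2, 1, 4, 5, 8,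 7, 3, 2, 4, 3, 5, 4, 7, 3, 8]) (.leaf [1, 2, 3, 4, 5, 6, 7, 3, 2, 1, 4, 3, 2, 5, 7, 3, 8, 7, 3, 2, 1, 0, 4, 3, 2, 7, 3, 8]) (.leaf [])) (.node (.leaf [1, 2, 3, 4, 5, 6, 7, 3, 2, 1, 4, 8, 7, 3, 2, 1, 0, 4, 5]) (.leaf [1, 2, 3, 4, 5, 6, 7, 3, 2, 1, 4, 3, 2, 5, 4, 8, 7, 3, 2, 1, 0, 4, 3, 2, 7]) (.leaf [1, 2, 3, 4, 5, 6, 7, 3, 2, 1, 4, 3, 2, 5, 7, 8, 7, 3, 2, 1, 0, 4, 3, 2, 5, 4, 7, 3, 8]) (.leaf []))) (.node (.node (.leaf [1, 2, 3, 4, 5, 6, 7, 3, 4, 8, 7, 3]) (.leaf [1, 2, 3, 4, 5, 6, 7, 3, 2, 1, 4, 3, 5, 4, 8, 7, 3, 2, 4, 3, 7]) (.leaf [1, 2, 3, 4, 5, 6, 7, 3, 2, 1, 4, 3, 5, 4, 7, 3, 8, 7, 3, 2, 4, 3, 5, 6, 7, 8]) (.leaf [1, 2, 3, 4, 5, 6,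 7, 3, 2, 1, 4, 5, 8, 7, 3, 2, 1, 4, 3, 2, 5, 4, 7, 3, 2, 4, 5, 8, 7, 3])) (.node (.leaf [1, 2, 3, 4, 5, 7, 3, 2, 1, 4, 3, 8, 7, 3, 2, 1]) (.leaf [1, 2, 3, 4, 5, 6, 7, 3, 2, 4, 3, 5, 4, 7, 8, 7, 3, 2, 1, 4, 3, 5]) (.leaf [1, 2, 3, 4, 5, 6, 7, 3, 2, 1, 4, 3, 5, 4, 7, 8, 7, 3, 2, 1, 4, 3, 2, 5, 4, 3, 7]) (.leaf [])) (.node (.leaf [1, 2, 3, 4, 5, 6, 7, 3, 2, 1, 4, 3, 7, 8, 7, 3, 2, 1]) (.leaf [1, 2, 3, 4, 5, 6, 7, 3, 2, 1, 4, 3, 2, 5, 7, 3, 8, 7, 3, 2, 1, 4, 3, 7]) (.leaf [1, 2, 3, 4, 5, 6, 7, 3, 2, 1, 4, 3, 5, 4, 7, 3, 8, 7, 3, 2, 4, 3, 5, 4, 7, 3, 2, 8]) (.leaf [])) (.node (.leaf [1, 0, 2, 3, 4, 5, 6, 7, 3, 2, 4, 3, 5, 7, 8, 7, 3, 2, 1, 0])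 (.leaf [1, 2, 3, 4, 5, 6, 7, 3, 2, 1, 4, 3, 2, 5, 8, 7, 3, 2, 4, 3, 5, 4, 7, 3, 8]) (.leaf [1, 2, 3, 4, 5, 6, 7, 3, 2, 1, 4, 3, 5, 4, 7, 8, 7, 3, 2, 1, 4, 3, 5, 4, 7, 3, 2, 1, 8]) (.leaf [])))) (.node (.node (.node (.leaf [1, 2, 3, 4, 7, 8]) (.leaf [1, 2, 3, 4, 5, 6, 7, 3, 2, 1, 4, 3, 5, 8, 7, 3, 2, 1, 4, 5]) (.leaf [1, 2, 3, 4, 5, 6, 7, 3, 2, 1, 4, 3, 5, 8, 7, 3, 2, 1, 0, 4, 3, 5, 6, 7, 8]) (.leaf [1, 2, 3, 4, 5, 6, 7, 3, 2, 1, 4, 3, 2, 5, 4, 3, 8, 7, 3, 2, 1, 4, 3, 2, 5, 7, 3, 4, 8, 7])) (.node (.leaf [1, 2, 3, 4, 5, 6, 7, 3, 2, 1, 4, 3, 5, 8]) (.leaf [1, 2, 3, 4, 5, 6, 7, 3, 2, 4, 3, 5, 7, 8, 7, 3, 2, 4, 3, 5, 4]) (.leaf [1, 2, 3, 4,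 5, 6, 7, 3, 2, 1, 4, 3, 5, 8, 7, 3, 2, 1, 4, 3, 2, 5, 7, 3, 4, 5]) (.leaf [1, 2, 3, 4, 5, 6, 7, 3, 2, 1, 4, 3, 2, 5, 8, 7, 3, 2, 1, 4, 3, 2, 5, 4, 3, 7, 3, 4, 5, 8, 7])) (.node (.leaf [1, 0, 2, 3, 4, 5, 7, 3, 2, 4, 8, 7, 3, 2, 1, 0, 4]) (.leaf [1, 2, 3, 4, 5, 6, 7, 3, 2, 1, 4, 3, 2, 5, 8, 7, 3, 2, 1, 4, 3, 2, 7]) (.leaf [1, 2, 3, 4, 5, 6, 7, 3, 2, 1, 4, 3, 5, 8, 7, 3, 2, 1, 4, 3, 2, 5, 7, 3, 4, 5, 6]) (.leaf [])) (.node (.leaf [1, 2, 3, 4, 5, 6, 7, 3, 4, 5, 8, 7, 3, 2, 1, 0, 4, 3]) (.leaf [1, 2, 3, 4, 5, 6, 7, 3, 2, 1, 4, 3, 5, 7, 8, 7, 3, 2, 1, 0, 4, 3, 2, 7]) (.leaf [1, 2, 3, 4, 5, 6, 7, 3, 2, 1, 4, 3, 5, 8, 7, 3, 2, 1, 4, 3, 2, 5, 4,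 7, 3, 4, 5, 8]) (.leaf []))) (.node (.node (.leaf [1, 0, 2, 1, 3, 2, 4, 3, 5]) (.leaf [1, 2, 3, 4, 5, 6, 7, 3, 2, 4, 3, 5, 7, 8, 7, 3, 2, 4, 3, 7]) (.leaf [1, 2, 3, 4, 5, 6, 7, 3, 2, 1, 4, 3, 2, 5, 4, 3, 8, 7, 3, 2, 1, 4, 3, 2, 7, 3]) (.leaf [1, 2, 3, 4, 5, 6, 7, 3, 2, 1, 4, 3, 2, 5, 4, 8, 7, 3, 2, 1, 4, 3, 5, 4, 7, 3, 2, 1, 0, 8])) (.node (.leaf [1, 2, 3, 4, 5, 6, 7, 3, 2, 1, 4, 3, 2, 5, 8]) (.leaf [1, 2, 3, 4, 5, 6, 7, 3, 2, 1, 4, 3, 2, 5, 7, 8, 7, 3, 2, 4, 3, 5]) (.leaf [1, 2, 3, 4, 5, 6, 7, 3, 2, 1, 4, 3, 2, 5, 4, 7, 8, 7, 3, 2, 4, 3, 5, 4, 7, 3, 8]) (.leaf [1, 2, 3, 4, 5, 6, 7, 3, 2, 1, 4, 3, 2, 5, 4, 8, 7, 3, 2, 1, 0, 4, 3, 2, 1,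 5, 4, 7, 3, 2, 8, 7])) (.node (.leaf [1, 2, 3, 4, 5, 6, 7, 3, 2, 4, 3, 5, 4, 7, 3, 8, 7]) (.leaf [1, 2, 3, 4, 5, 6, 7, 3, 2, 1, 4, 3, 5, 8, 7, 3, 2, 1, 0, 4, 3, 5, 4]) (.leaf [1, 2, 3, 4, 5, 6, 7, 3, 2, 1, 4, 3, 2, 5, 4, 8, 7, 3, 2, 1, 0, 4, 3, 2, 5, 4, 3, 6]) (.leaf [])) (.node (.leaf [1, 2, 3, 4, 5, 7, 3, 2, 1, 4, 3, 2, 8, 7, 3, 2, 4, 3, 5]) (.leaf [1, 2, 3, 4, 5, 6, 7, 3, 2, 1, 4, 5, 8, 7, 3, 2, 1, 4, 3, 5, 4, 6, 7, 8]) (.leaf [1, 2, 3, 4, 5, 6, 7, 3, 2, 1, 4, 3, 2, 5, 4, 8, 7, 3, 2, 1, 0, 4, 3, 2, 5, 4, 7, 3, 2]) (.leaf []))) (.node (.node (.leaf [1, 2, 3, 4, 5, 6, 7, 3, 2, 4, 5]) (.leaf [1, 2, 3, 4, 5, 6, 7, 3, 2, 1, 4, 3, 2, 5, 4,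 8, 7, 3, 2, 4, 5]) (.leaf [1, 2, 3, 4, 5, 6, 7, 3, 2, 1, 4, 3, 2, 5, 7, 8, 7, 3, 2, 1, 4, 3, 2, 7, 3, 8]) (.leaf [1, 2, 3, 4, 5, 6, 7, 3, 2, 1, 4, 3, 5, 4, 7, 8, 7, 3, 2, 1, 4, 3, 2, 5, 4, 7, 3, 2, 8, 7])) (.node (.leaf [1, 0, 2, 3, 4, 5, 6, 7, 3, 2, 4, 3, 8, 7, 3, 4]) (.leaf [1, 2, 3, 4, 5, 6, 7, 3, 2, 1, 4, 3, 5, 8, 7, 3, 2, 1, 4, 3, 2, 7]) (.leaf [1, 2, 3, 4, 5, 6, 7, 3, 2, 1, 4, 3, 2, 5, 7, 8, 7, 3, 2, 1, 4, 3, 2, 7, 3, 8, 7]) (.leaf [1, 2, 3, 4, 5, 6, 7, 3, 2, 1, 4, 3, 2, 5, 4, 7, 8, 7, 3, 2, 1, 4, 3, 2, 5, 4, 3, 7, 3, 4, 8, 7, 3])) (.node (.leaf [1, 0, 2, 3, 4, 5, 7, 3, 2, 4, 3, 8, 7, 3, 2, 1, 0, 4]) (.leaf [1, 2, 3, 4, 5, 6, 7, 3,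 2, 4, 3, 5, 4, 8, 7, 3, 2, 1, 4, 3, 2, 5, 7]) (.leaf [1, 2, 3, 4, 5, 6, 7, 3, 2, 1, 4, 3, 2, 5, 7, 8, 7, 3, 2, 1, 4, 3, 2, 5, 7, 3, 4, 8]) (.leaf [])) (.node (.leaf [1, 2, 3, 4, 5, 6, 7, 3, 2, 4, 3, 5, 4, 7, 8, 7, 3, 4, 5]) (.leaf [1, 2, 3, 4, 5, 6, 7, 3, 2, 1, 4, 3, 2, 5, 4, 8, 7, 3, 2, 4, 3, 5, 4, 7, 3]) (.leaf [1, 2, 3, 4, 5, 6, 7, 3, 2, 1, 4, 3, 2, 5, 8, 7, 3, 2, 1, 0, 4, 3, 2, 1, 5, 4, 7, 3, 2]) (.leaf []))) (.node (.node (.leaf [1, 0, 2, 1, 3, 4, 5, 6, 7, 3, 4, 5, 8, 7]) (.leaf [1, 2, 3, 4, 5, 6, 7, 3, 2, 1, 4, 3, 5, 8, 7, 3, 2, 4, 3, 5, 7]) (.leaf [1, 2, 3, 4, 5, 6, 7, 3, 2, 1, 4, 3, 5, 4, 8, 7, 3, 2, 1, 0, 4, 3, 2, 1, 7, 8]) (.leaf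 [1, 2, 3, 4, 5, 6, 7, 3, 2, 1, 4, 3, 2, 5, 4, 7, 8, 7, 3, 2, 1, 4, 3, 2, 5, 4, 3, 7, 3, 4, 8])) (.node (.leaf [1, 2, 3, 4, 5, 7, 3, 2, 1, 8, 7, 3, 2, 4, 3, 5]) (.leaf [1, 2, 3, 4, 5, 6, 7, 3, 2, 4, 3, 5, 4, 8, 7, 3, 2, 4, 3, 5, 6, 7]) (.leaf [1, 2, 3, 4, 5, 6, 7, 3, 2, 1, 4, 3, 5, 4, 8, 7, 3, 2, 1, 0, 4, 3, 2, 5, 4, 6, 5]) (.leaf [])) (.node (.leaf [1, 2, 3, 4, 5, 7, 3, 2, 1, 4, 3, 8, 7, 3, 2, 4, 3, 5]) (.leaf [1, 2, 3, 4, 5, 6, 7, 3, 2, 1, 4, 3, 2, 5, 8, 7, 3, 2, 1, 0, 4, 3, 5, 6]) (.leaf [1, 2, 3, 4, 5, 6, 7, 3, 2, 1, 4, 3, 5, 4, 8, 7, 3, 2, 1, 0, 4, 3, 2, 1, 5, 4, 7, 3]) (.leaf [])) (.node (.leaf [1, 0, 2, 3, 4, 5, 6, 7, 3, 2, 4, 5,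 8, 7, 3, 2, 1, 0, 4, 3]) (.leaf [1, 2, 3, 4, 5, 6, 7, 3, 2, 1, 4, 3, 5, 4, 7, 8, 7, 3, 2, 1, 4, 3, 5, 4, 6]) (.leaf [1, 2, 3, 4, 5, 6, 7, 3, 2, 1, 4, 3, 5, 4, 8, 7, 3, 2, 1, 0, 4, 3, 5, 4, 6, 7, 3, 8, 7]) (.leaf [])))) (.node (.node (.node (.leaf [1, 0, 2, 3, 4, 5]) (.leaf [1, 2, 3, 4, 5, 6, 7, 3, 2, 1, 4, 3, 8, 7, 3, 2, 4, 3, 5, 4]) (.leaf [1, 2, 3, 4, 5, 6, 7, 3, 2, 1, 4, 3, 5, 8, 7, 3, 2, 4, 3, 5, 4, 7, 3, 2, 8]) (.leaf [1, 2, 3, 4, 5, 6, 7, 3, 2, 1, 4, 3, 2, 5, 4, 7, 8, 7, 3, 2, 1, 4, 3, 2, 5, 4, 7, 3, 4, 8])) (.node (.leaf [1, 2, 3, 4, 5, 6, 7, 3, 2, 4, 3, 5, 4, 7]) (.leaf [1, 2, 3, 4, 5, 6, 7, 3, 2, 4, 3, 8, 7, 3, 2, 1, 4, 3, 2, 5,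 4]) (.leaf [1, 2, 3, 4, 5, 6, 7, 3, 2, 1, 4, 5, 8, 7, 3, 2, 1, 0, 4, 3, 2, 5, 4, 7, 3, 8]) (.leaf [1, 2, 3, 4, 5, 6, 7, 3, 2, 1, 4, 3, 2, 5, 8, 7, 3, 2, 1, 4, 3, 2, 5, 6, 7, 3, 4, 5, 8, 7, 3])) (.node (.leaf [1, 2, 3, 4, 5, 6, 7, 3, 2, 1, 4, 3, 2, 7, 3, 8, 7]) (.leaf [1, 2, 3, 4, 5, 6, 7, 3, 2, 1, 4, 3, 2, 8, 7, 3, 2, 1, 4, 3, 2, 5, 4]) (.leaf [1, 2, 3, 4, 5, 6, 7, 3, 2, 1, 4, 5, 8, 7, 3, 2, 1, 4, 3, 2, 5, 4, 6, 7, 3, 8, 7]) (.leaf [])) (.node (.leaf [1, 0, 2, 3, 4, 5, 6, 7, 3, 2, 4, 3, 5, 8, 7, 3, 2, 4, 5]) (.leaf [1, 2, 3, 4, 5, 6, 7, 3, 2, 1, 4, 3, 5, 7, 8, 7, 3, 2, 4, 3, 5, 6, 7, 8]) (.leaf [1, 2, 3, 4, 5, 6, 7, 3, 2, 1, 4, 5, 8, 7,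 3, 2, 1, 4, 3, 2, 5, 4, 7, 3, 4, 5, 8, 7]) (.leaf []))) (.node (.node (.leaf [1, 0, 2, 3, 4, 5, 6, 7, 3, 4]) (.leaf [1, 2, 3, 4, 5, 6, 7, 3, 2, 4, 3, 8, 7, 3, 2, 1, 4, 3, 2, 5]) (.leaf [1, 2, 3, 4, 5, 6, 7, 3, 2, 1, 4, 3, 2, 5, 4, 7, 8, 7, 3, 2, 4, 3, 5, 4, 7, 8]) (.leaf [1, 2, 3, 4, 5, 6, 7, 3, 2, 1, 4, 3, 2, 5, 7, 8, 7, 3, 2, 1, 4, 3, 2, 5, 4, 7, 3, 4, 8, 7])) (.node (.leaf [1, 2, 3, 4, 5, 7, 3, 2, 1, 4, 3, 8, 7, 3, 4]) (.leaf [1, 2, 3, 4, 5, 6, 7, 3, 2, 1, 4, 3, 2, 7, 8, 7, 3, 2, 4, 3, 5, 4]) (.leaf [1, 2, 3, 4, 5, 6, 7, 3, 2, 1, 4, 3, 2, 5, 4, 8, 7, 3, 2, 1, 0, 4, 3, 5, 4, 7, 3]) (.leaf [1, 2, 3, 4, 5, 6, 7, 3, 2, 1, 4, 3, 2, 5, 4,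 8, 7, 3, 2, 1, 4, 3, 2, 5, 4, 7, 3, 2, 1, 0, 8, 7])) (.node (.leaf [1, 2, 3, 4, 5, 6, 7, 3, 2, 4, 3, 8, 7, 3, 4, 5, 6]) (.leaf [1, 2, 3, 4, 5, 6, 7, 3, 2, 1, 4, 3, 5, 8, 7, 3, 2, 4, 3, 5, 4, 7, 8]) (.leaf [1, 2, 3, 4, 5, 6, 7, 3, 2, 1, 4, 3, 2, 5, 4, 8, 7, 3, 2, 1, 4, 3, 2, 5, 4, 3, 6, 7]) (.leaf [])) (.node (.leaf [1, 2, 3, 4, 5, 6, 7, 3, 2, 1, 4, 3, 5, 8, 7, 3, 4, 5, 6]) (.leaf [1, 2, 3, 4, 5, 6, 7, 3, 2, 4, 3, 5, 4, 8, 7, 3, 2, 1, 4, 3, 2, 7, 3, 4]) (.leaf [1, 2, 3, 4, 5, 6, 7, 3, 2, 1, 4, 3, 2, 5, 4, 8, 7, 3, 2, 1, 4, 3, 2, 5, 4, 6, 5, 7, 3]) (.leaf []))) (.node (.node (.leaf [1, 0, 2, 3, 4, 5, 7, 3, 2, 8, 7, 3]) (.leaf [1, 2, 3, 4,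 5, 6, 7, 3, 2, 1, 4, 3, 2, 7, 8, 7, 3, 2, 1, 4, 3]) (.leaf [1, 2, 3, 4, 5, 6, 7, 3, 2, 1, 4, 3, 2, 5, 8, 7, 3, 2, 1, 0, 4, 3, 5, 6, 7, 8]) (.leaf [1, 2, 3, 4, 5, 6, 7, 3, 2, 1, 4, 3, 5, 4, 8, 7, 3, 2, 1, 4, 3, 2, 5, 4, 3, 7, 3, 2, 8, 7])) (.node (.leaf [1, 0, 2, 3, 4, 5, 6, 7, 3, 4, 5, 8, 7, 3, 2, 1]) (.leaf [1, 2, 3, 4, 5, 6, 7, 3, 2, 1, 4, 3, 8, 7, 3, 2, 1, 0, 4, 3, 5, 4]) (.leaf [1, 2, 3, 4, 5, 6, 7, 3, 2, 1, 4, 3, 2, 5, 8, 7, 3, 2, 1, 0, 4, 3, 5, 4, 7, 3, 2]) (.leaf [1, 2, 3, 4, 5, 6, 7, 3, 2, 1, 4, 3, 2, 5, 4, 8, 7, 3, 2, 1, 4, 3, 2, 5, 4, 7, 3, 2, 1, 8, 7, 3, 4])) (.node (.leaf [1, 0, 2, 1, 3, 4, 5, 6, 7, 3, 4, 5, 8, 7, 3, 2, 1, 4,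 3]) (.leaf [1, 2, 3, 4, 5, 6, 7, 3, 2, 1, 4, 3, 2, 5, 4, 3, 8, 7, 3, 2, 1, 0, 4, 3]) (.leaf [1, 2, 3, 4, 5, 6, 7, 3, 2, 1, 4, 3, 2, 5, 8, 7, 3, 2, 1, 0, 4, 3, 2, 5, 4, 7, 3, 8]) (.leaf [])) (.node (.leaf [1, 2, 3, 4, 5, 6, 7, 3, 2, 4, 3, 5, 8, 7, 3, 2, 4, 5, 6]) (.leaf [1, 2, 3, 4, 5, 6, 7, 3, 2, 1, 4, 3, 2, 5, 7, 8, 7, 3, 2, 1, 4, 3, 2, 7, 8]) (.leaf [1, 2, 3, 4, 5, 6, 7, 3, 2, 1, 4, 3, 2, 5, 8, 7, 3, 2, 1, 4, 3, 2, 5, 4, 3, 7, 3, 8, 7]) (.leaf []))) (.node (.node (.leaf [1, 2, 3, 4, 5, 7, 3, 2, 1, 8, 7, 3, 4]) (.leaf [1, 2, 3, 4, 5, 6, 7, 3, 2, 1, 4, 3, 8, 7, 3, 2, 1, 4, 3, 2, 7]) (.leaf [1, 2, 3, 4, 5, 6, 7, 3, 2, 1, 4, 3, 5, 4, 8, 7,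 3, 2, 1, 4, 3, 2, 5, 4, 6, 7]) (.leaf [1, 2, 3, 4, 5, 6, 7, 3, 2, 1, 4, 3, 2, 5, 4, 8, 7, 3, 2, 1, 0, 4, 3, 2, 5, 4, 6, 5, 7, 3, 8])) (.node (.leaf [1, 2, 3, 4, 5, 7, 3, 2, 4, 3, 7, 8, 7, 3, 2, 1]) (.leaf [1, 2, 3, 4, 5, 6, 7, 3, 2, 4, 3, 8, 7, 3, 2, 1, 4, 3, 2, 5, 4, 3]) (.leaf [1, 2, 3, 4, 5, 6, 7, 3, 2, 1, 4, 3, 5, 4, 8, 7, 3, 2, 1, 4, 3, 2, 5, 4, 6, 7, 8]) (.leaf [])) (.node (.leaf [1, 2, 3, 4, 5, 7, 3, 2, 1, 4, 8, 7, 3, 2, 1, 4, 3, 5]) (.leaf [1, 2, 3, 4, 5, 6, 7, 3, 2, 1, 4, 3, 2, 5, 8, 7, 3, 2, 4, 3, 5, 6, 7, 8]) (.leaf [1, 2, 3, 4, 5, 6, 7, 3, 2, 1, 4, 3, 5, 4, 8, 7, 3, 2, 1, 4, 3, 2, 5, 4, 3, 7, 3, 2]) (.leaf [])) (.node (.leaf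 [1, 2, 3, 4, 5, 6, 7, 3, 2, 1, 4, 3, 2, 5, 7, 8, 7, 3, 2, 1]) (.leaf [1, 2, 3, 4, 5, 6, 7, 3, 2, 1, 4, 3, 5, 4, 8, 7, 3, 2, 1, 0, 4, 3, 5, 4, 7]) (.leaf [1, 2, 3, 4, 5, 6, 7, 3, 2, 1, 4, 3, 5, 4, 8, 7, 3, 2, 1, 4, 3, 2, 5, 4, 7, 3, 4, 5, 8]) (.leaf [])))) (.node (.node (.node (.leaf [1, 0, 2, 1, 3, 4, 5, 6, 7]) (.leaf [1, 2, 3, 4, 5, 6, 7, 3, 2, 1, 4, 5, 8, 7, 3, 2, 1, 4, 3, 5]) (.leaf [1, 2, 3, 4, 5, 6, 7, 3, 2, 1, 4, 5, 8, 7, 3, 2, 1, 4, 3, 2, 5, 4, 7, 3, 2]) (.leaf [1, 2, 3, 4, 5, 6, 7, 3, 2, 1, 4, 3, 2, 5, 4, 8, 7, 3, 2, 1, 0, 4, 3, 2, 5, 4, 3, 7, 3, 8])) (.node (.leaf [1, 2, 3, 4, 5, 7, 3, 2, 8, 7, 3, 4, 5, 6]) (.leaf [1, 0, 2, 3,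 4, 5, 6, 7, 3, 2, 4, 3, 5, 4, 8, 7, 3, 2, 4, 3, 5, 4]) (.leaf [1, 2, 3, 4, 5, 6, 7, 3, 2, 1, 4, 8, 7, 3, 2, 1, 0, 4, 3, 5, 4, 7, 3, 2, 1, 0]) (.leaf [1, 2, 3, 4, 5, 6, 7, 3, 2, 1, 4, 3, 5, 4, 8, 7, 3, 2, 1, 4, 3, 2, 5, 4, 6, 7, 3, 2, 8, 7, 3])) (.node (.leaf [1, 2, 3, 4, 5, 6, 7, 3, 2, 1, 4, 3, 7, 8, 7, 3, 2]) (.leaf [1, 2, 3, 4, 5, 6, 7, 3, 2, 1, 4, 3, 5, 4, 7, 8, 7, 3, 2, 4, 3, 5, 7]) (.leaf [1, 2, 3, 4, 5, 6, 7, 3, 2, 1, 4, 3, 2, 5, 4, 3, 8, 7, 3, 2, 1, 0, 4, 3, 2, 7, 3, 8]) (.leaf [])) (.node (.leaf [1, 0, 2, 3, 4, 5, 6, 7, 3, 2, 4, 5, 8, 7, 3, 2, 4, 3, 7]) (.leaf [1, 2, 3, 4, 5, 6, 7, 3, 2, 1, 4, 3, 5, 8, 7, 3, 2, 1, 4, 3, 2, 7, 3,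 4]) (.leaf [1, 2, 3, 4, 5, 6, 7, 3, 2, 1, 4, 3, 2, 5, 4, 3, 8, 7, 3, 2, 1, 4, 3, 5, 4, 7, 3, 2, 1]) (.leaf []))) (.node (.node (.leaf [1, 2, 3, 4, 5, 7, 3, 2, 4, 8]) (.leaf [1, 0, 2, 3, 4, 5, 6, 7, 3, 2, 4, 3, 5, 4, 7, 8, 7, 3, 4, 5, 6]) (.leaf [1, 2, 3, 4, 5, 6, 7, 3, 2, 1, 4, 3, 2, 5, 4, 8, 7, 3, 2, 1, 4, 3, 2, 5, 7, 3]) (.leaf [1, 2, 3, 4, 5, 6, 7, 3, 2, 1, 4, 3, 2, 5, 8, 7, 3, 2, 1, 0, 4, 3, 2, 5, 6, 7, 3, 4, 5, 8])) (.node (.leaf [1, 2, 3, 4, 5, 6, 7, 3, 2, 4, 3, 5, 4, 7, 8]) (.leaf [1, 2, 3, 4, 5, 6, 7, 3, 2, 1, 4, 3, 5, 4, 7, 3, 8, 7, 3, 2, 4, 5]) (.leaf [1, 2, 3, 4, 5, 6, 7, 3, 2, 1, 4, 3, 2, 5, 4, 8, 7, 3, 2, 1, 4, 3, 5, 4, 6,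 5, 7]) (.leaf [1, 2, 3, 4, 5, 6, 7, 3, 2, 1, 4, 3, 2, 5, 8, 7, 3, 2, 1, 0, 4, 3, 2, 5, 4, 6, 7, 3, 4, 5, 8, 7])) (.node (.leaf [1, 2, 3, 4, 5, 6, 7, 3, 2, 4, 8, 7, 3, 2, 1, 0, 4]) (.leaf [1, 2, 3, 4, 5, 6, 7, 3, 2, 1, 4, 5, 8, 7, 3, 2, 1, 0, 4, 3, 5, 4, 7]) (.leaf [1, 2, 3, 4, 5, 6, 7, 3, 2, 1, 4, 3, 2, 5, 4, 8, 7, 3, 2, 1, 4, 3, 5, 4, 6, 5, 7, 3]) (.leaf [])) (.node (.leaf [1, 2, 3, 4, 5, 7, 3, 2, 1, 4, 3, 7, 8, 7, 3, 2, 4, 3, 7]) (.leaf [1, 2, 3, 4, 5, 6, 7, 3, 2, 1, 4, 3, 2, 5, 4, 3, 8, 7, 3, 2, 1, 4, 3, 5, 6]) (.leaf [1, 2, 3, 4, 5, 6, 7, 3, 2, 1, 4, 3, 2, 5, 4, 8, 7, 3, 2, 1, 4, 3, 5, 4, 7, 3, 2, 1, 0]) (.leaf []))) (.node (.node (.leaf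 [1, 2, 3, 4, 5, 6, 7, 3, 2, 1, 8, 7]) (.leaf [1, 2, 3, 4, 5, 7, 3, 2, 1, 4, 3, 2, 8, 7, 3, 2, 1, 0, 4, 3, 5]) (.leaf [1, 2, 3, 4, 5, 6, 7, 3, 2, 1, 4, 3, 2, 5, 8, 7, 3, 2, 1, 4, 3, 5, 4, 6, 7, 8]) (.leaf [1, 2, 3, 4, 5, 6, 7, 3, 2, 1, 4, 3, 5, 7, 8, 7, 3, 2, 1, 4, 3, 2, 5, 4, 7, 3, 2, 4, 8, 7])) (.node (.leaf [1, 2, 3, 4, 5, 7, 3, 2, 1, 4, 3, 2, 7, 3, 4, 5]) (.leaf [1, 2, 3, 4, 5, 6, 7, 3, 2, 1, 4, 5, 8, 7, 3, 2, 1, 4, 3, 2, 7, 3]) (.leaf [1, 2, 3, 4, 5, 6, 7, 3, 2, 1, 4, 3, 2, 5, 8, 7, 3, 2, 1, 4, 3, 2, 7, 3, 4, 5, 8]) (.leaf [1, 2, 3, 4, 5, 6, 7, 3, 2, 1, 4, 3, 2, 5, 4, 7, 8, 7, 3, 2, 1, 4, 3, 2, 5, 4, 7, 3, 2, 8, 7, 3, 4, 5])) (.node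 (.leaf [1, 2, 3, 4, 5, 7, 3, 2, 1, 4, 3, 2, 7, 8, 7, 3, 2, 1]) (.leaf [1, 2, 3, 4, 5, 6, 7, 3, 2, 1, 4, 3, 2, 5, 4, 8, 7, 3, 2, 1, 0, 4, 3, 2]) (.leaf [1, 2, 3, 4, 5, 6, 7, 3, 2, 1, 4, 3, 2, 5, 8, 7, 3, 2, 1, 4, 3, 2, 5, 4, 7, 3, 4, 8]) (.leaf [])) (.node (.leaf [1, 2, 3, 4, 5, 6, 7, 3, 2, 4, 5, 8, 7, 3, 2, 1, 4, 3, 5]) (.leaf [1, 2, 3, 4, 5, 6, 7, 3, 2, 1, 4, 3, 2, 5, 8, 7, 3, 2, 1, 4, 3, 2, 5, 4, 6]) (.leaf [1, 2, 3, 4, 5, 6, 7, 3, 2, 1, 4, 3, 2, 5, 8, 7, 3, 2, 1, 4, 3, 2, 5, 6, 7, 3, 4, 5, 8]) (.leaf []))) (.node (.node (.leaf [1, 2, 3, 4, 7, 3, 2, 8, 7, 3, 4, 5, 6]) (.leaf [1, 2, 3, 4, 5, 6, 7, 3, 2, 1, 4, 5, 8, 7, 3, 2, 4, 3, 5, 4,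 6]) (.leaf [1, 2, 3, 4, 5, 6, 7, 3, 2, 1, 4, 3, 5, 4, 8, 7, 3, 2, 4, 3, 5, 4, 7, 3, 2, 1]) (.leaf [1, 2, 3, 4, 5, 6, 7, 3, 2, 1, 4, 3, 2, 5, 4, 8, 7, 3, 2, 1, 4, 3, 2, 5, 4, 7, 3, 2, 1, 8, 7])) (.node (.leaf [1, 2, 3, 4, 5, 7, 3, 2, 4, 8, 7, 3, 2, 1, 4, 5]) (.leaf [1, 2, 3, 4, 5, 6, 7, 3, 2, 1, 4, 3, 2, 5, 4, 3, 8, 7, 3, 2, 4, 3, 7]) (.leaf [1, 2, 3, 4, 5, 6, 7, 3, 2, 1, 4, 3, 5, 4, 8, 7, 3, 2, 4, 3, 5, 4, 7, 3, 2, 1, 0]) (.leaf [])) (.node (.leaf [1, 2, 3, 4, 5, 6, 7, 3, 2, 4, 3, 5, 7, 8, 7, 3, 4, 5]) (.leaf [1, 2, 3, 4, 5, 6, 7, 3, 2, 1, 4, 3, 5, 4, 7, 8, 7, 3, 2, 1, 4, 3, 2, 7]) (.leaf [1, 2, 3, 4, 5, 6, 7, 3, 2, 1, 4, 3, 5, 4, 8, 7,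 3, 2, 1, 4, 3, 5, 4, 6, 7, 3, 8, 7]) (.leaf [])) (.node (.leaf [1, 2, 3, 4, 5, 6, 7, 3, 2, 1, 4, 3, 2, 8, 7, 3, 2, 4, 3, 5]) (.leaf [1, 2, 3, 4, 5, 6, 7, 3, 2, 1, 4, 3, 5, 4, 8, 7, 3, 2, 4, 3, 5, 4, 6, 5, 7]) (.leaf [1, 2, 3, 4, 5, 6, 7, 3, 2, 1, 4, 3, 5, 8, 7, 3, 2, 1, 4, 3, 2, 5, 4, 3, 7, 3, 2, 1, 0]) (.leaf [])))))
def pathTree6 : SporBound.Q (List ℕ) := (.node (.node (.node (.node (.leaf [1, 0, 2, 3, 4, 7]) (.leaf [1, 2, 3, 4, 5, 6, 7, 3, 2, 1, 4, 3, 5, 4, 7, 8, 7, 3, 2, 1]) (.leaf [1, 2, 3, 4, 5, 6, 7, 3, 2, 1, 4, 3, 5, 7, 8, 7, 3, 2, 1, 4, 3, 2, 7, 3, 8]) (.leaf [1, 2, 3, 4, 5, 6, 7, 3, 2, 1, 4, 3, 8, 7, 3, 2, 1, 4, 3, 2, 5, 4, 3,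 7, 3, 2, 1, 0, 8])) (.node (.leaf [1, 0, 2, 3, 4, 7, 3, 2, 8, 7, 3, 4, 5, 6]) (.leaf [1, 2, 3, 4, 5, 6, 7, 3, 2, 4, 3, 5, 4, 8, 7, 3, 2, 1, 0, 4, 5]) (.leaf [1, 2, 3, 4, 5, 6, 7, 3, 2, 1, 4, 3, 5, 8, 7, 3, 2, 1, 0, 4, 3, 2, 5, 4, 7, 3]) (.leaf [1, 2, 3, 4, 5, 6, 7, 3, 2, 1, 4, 3, 2, 5, 7, 8, 7, 3, 2, 1, 4, 3, 2, 5, 4, 7, 3, 4, 8, 7, 3])) (.node (.leaf [1, 0, 2, 3, 4, 5, 7, 3, 2, 4, 3, 7, 8, 7, 3, 2, 1]) (.leaf [1, 2, 3, 4, 5, 6, 7, 3, 2, 1, 4, 3, 2, 5, 7, 3, 8, 7, 3, 2, 1, 4, 3]) (.leaf [1, 2, 3, 4, 5, 6, 7, 3, 2, 1, 4, 3, 5, 8, 7, 3, 2, 1, 0, 4, 3, 5, 4, 7, 3, 2, 1]) (.leaf [])) (.node (.leaf [1, 2, 3, 4, 5, 7, 3, 2, 4, 3, 7, 8, 7, 3,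 2, 1, 4, 3]) (.leaf [1, 2, 3, 4, 5, 6, 7, 3, 2, 1, 4, 3, 5, 4, 8, 7, 3, 2, 1, 4, 3, 2, 5, 6]) (.leaf [1, 2, 3, 4, 5, 6, 7, 3, 2, 1, 4, 3, 5, 8, 7, 3, 2, 1, 4, 3, 2, 5, 4, 3, 7, 3, 2, 1]) (.leaf []))) (.node (.node (.leaf [1, 0, 2, 3, 4, 5, 7, 3, 2]) (.leaf [1, 2, 3, 4, 5, 6, 7, 3, 2, 4, 3, 5, 4, 7, 3, 8, 7, 3, 4, 5]) (.leaf [1, 2, 3, 4, 5, 6, 7, 3, 2, 4, 3, 5, 4, 8, 7, 3, 2, 1, 4, 3, 2, 7, 3, 4, 5]) (.leaf [1, 2, 3, 4, 5, 6, 7, 3, 2, 1, 4, 3, 2, 5, 4, 8, 7, 3, 2, 1, 4, 3, 2, 5, 4, 3, 7, 3, 8, 7])) (.node (.leaf [1, 0, 2, 3, 4, 5, 7, 3, 2, 4, 8, 7, 3, 2, 1]) (.leaf [1, 2, 3, 4, 5, 6, 7, 3, 2, 1, 4, 3, 2, 5, 4, 7, 8, 7, 3, 2, 1, 4]) (.leaf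 [1, 2, 3, 4, 5, 6, 7, 3, 2, 1, 4, 3, 2, 5, 4, 3, 8, 7, 3, 2, 1, 4, 3, 2, 7, 3, 8]) (.leaf [1, 2, 3, 4, 5, 6, 7, 3, 2, 1, 4, 5, 8, 7, 3, 2, 1, 4, 3, 2, 5, 4, 7, 3, 2, 1, 4, 8, 7, 3, 2])) (.node (.leaf [1, 2, 3, 4, 5, 6, 7, 3, 2, 1, 4, 8, 7, 3, 2, 1, 4]) (.leaf [1, 2, 3, 4, 5, 6, 7, 3, 2, 1, 4, 3, 5, 7, 8, 7, 3, 2, 1, 0, 4, 3, 5]) (.leaf [1, 2, 3, 4, 5, 6, 7, 3, 2, 1, 4, 3, 2, 5, 4, 7, 8, 7, 3, 2, 1, 4, 3, 2, 5, 4, 7, 3]) (.leaf [])) (.node (.leaf [1, 2, 3, 4, 5, 6, 7, 3, 2, 1, 4, 3, 2, 7, 8, 7, 3, 2, 1]) (.leaf [1, 2, 3, 4, 5, 6, 7, 3, 2, 1, 4, 5, 8, 7, 3, 2, 1, 0, 4, 3, 2, 5, 6, 7]) (.leaf [1, 2, 3, 4, 5, 6, 7, 3, 2, 1, 4, 3, 2, 5, 4, 7,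 8, 7, 3, 2, 1, 4, 3, 5, 4, 7, 3, 8, 7]) (.leaf []))) (.node (.node (.leaf [1, 0, 2, 3, 4, 5, 6, 7, 3, 8, 7]) (.leaf [1, 0, 2, 3, 4, 5, 6, 7, 3, 2, 4, 3, 5, 8, 7, 3, 2, 4, 3, 5, 6]) (.leaf [1, 2, 3, 4, 5, 6, 7, 3, 2, 1, 4, 3, 2, 5, 7, 3, 8, 7, 3, 2, 1, 4, 3, 2, 7, 3]) (.leaf [1, 2, 3, 4, 5, 6, 7, 3, 2, 1, 4, 3, 2, 5, 8, 7, 3, 2, 1, 4, 3, 2, 5, 4, 7, 3, 2, 4, 8, 7])) (.node (.leaf [1, 2, 3, 4, 5, 7, 3, 2, 4, 8, 7, 3, 2, 1, 0]) (.leaf [1, 2, 3, 4, 5, 6, 7, 3, 2, 1, 4, 3, 5, 7, 8, 7, 3, 2, 1, 0, 4, 3]) (.leaf [1, 2, 3, 4, 5, 6, 7, 3, 2, 1, 4, 3, 2, 5, 7, 8, 7, 3, 2, 1, 0, 4, 3, 2, 1, 5, 4]) (.leaf [1, 2, 3, 4, 5, 6, 7, 3, 2, 1, 4, 3, 2, 5,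 8, 7, 3, 2, 1, 4, 3, 2, 5, 4, 7, 3, 4, 8, 7, 3, 2, 1])) (.node (.leaf [1, 0, 2, 3, 4, 5, 6, 7, 3, 2, 4, 3, 5, 8, 7, 3, 2, 4]) (.leaf [1, 2, 3, 4, 5, 6, 7, 3, 2, 1, 4, 8, 7, 3, 2, 1, 0, 4, 3, 5, 4, 7, 3]) (.leaf [1, 2, 3, 4, 5, 6, 7, 3, 2, 1, 4, 3, 2, 5, 7, 3, 8, 7, 3, 2, 1, 4, 3, 2, 7, 3, 4, 5]) (.leaf [])) (.node (.leaf [1, 2, 3, 4, 5, 6, 7, 3, 2, 1, 4, 8, 7, 3, 2, 1, 4, 3, 5]) (.leaf [1, 2, 3, 4, 5, 6, 7, 3, 2, 1, 4, 3, 2, 5, 4, 8, 7, 3, 2, 1, 0, 4, 3, 5, 4]) (.leaf [1, 2, 3, 4, 5, 6, 7, 3, 2, 1, 4, 3, 2, 5, 7, 8, 7, 3, 2, 1, 0, 4, 3, 2, 5, 7, 3, 4, 8]) (.leaf []))) (.node (.node (.leaf [1, 2, 3, 4, 5, 7, 3, 4, 8, 7, 3, 2]) (.leaf [1,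 2, 3, 4, 5, 6, 7, 3, 2, 1, 4, 3, 5, 4, 8, 7, 3, 2, 4, 5, 6]) (.leaf [1, 2, 3, 4, 5, 6, 7, 3, 2, 1, 4, 3, 5, 4, 7, 8, 7, 3, 2, 1, 4, 3, 2, 5, 4, 3]) (.leaf [1, 2, 3, 4, 5, 6, 7, 3, 2, 1, 4, 3, 2, 5, 4, 3, 8, 7, 3, 2, 1, 0, 4, 3, 2, 1, 7, 3, 2, 8, 7])) (.node (.leaf [1, 2, 3, 4, 5, 7, 3, 2, 1, 4, 3, 8, 7, 3, 2, 4]) (.leaf [1, 2, 3, 4, 5, 6, 7, 3, 2, 4, 3, 5, 4, 7, 8, 7, 3, 2, 1, 4, 5, 6]) (.leaf [1, 2, 3, 4, 5, 6, 7, 3, 2, 1, 4, 3, 5, 4, 7, 8, 7, 3, 2, 1, 4, 3, 2, 5, 4, 6, 7]) (.leaf [])) (.node (.leaf [1, 2, 3, 4, 5, 6, 7, 3, 2, 1, 4, 3, 7, 8, 7, 3, 2, 4]) (.leaf [1, 2, 3, 4, 5, 6, 7, 3, 2, 1, 4, 3, 2, 5, 7, 3, 8, 7, 3, 2, 4, 3, 7, 8]) (.leaf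 [1, 2, 3, 4, 5, 6, 7, 3, 2, 1, 4, 3, 5, 4, 7, 3, 8, 7, 3, 2, 4, 3, 5, 4, 7, 3, 8, 7]) (.leaf [])) (.node (.leaf [1, 0, 2, 3, 4, 5, 6, 7, 3, 2, 4, 3, 5, 7, 8, 7, 3, 2, 1, 4]) (.leaf [1, 2, 3, 4, 5, 6, 7, 3, 2, 1, 4, 3, 2, 7, 8, 7, 3, 2, 1, 4, 3, 2, 5, 4, 3]) (.leaf [1, 2, 3, 4, 5, 6, 7, 3, 2, 1, 4, 3, 5, 4, 7, 8, 7, 3, 2, 1, 4, 3, 5, 4, 7, 3, 2, 8, 7]) (.leaf [])))) (.node (.node (.node (.leaf [1, 0, 2, 3, 4, 7, 3]) (.leaf [1, 2, 3, 4, 5, 6, 7, 3, 2, 1, 4, 3, 5, 8, 7, 3, 2, 4, 3, 5]) (.leaf [1, 2, 3, 4, 5, 6, 7, 3, 2, 1, 4, 3, 5, 8, 7, 3, 2, 1, 4, 3, 2, 5, 4, 3, 7]) (.leaf [1, 2, 3, 4, 5, 6, 7, 3, 2, 1, 4, 3, 2, 5, 4, 3, 8, 7, 3, 2, 1, 4,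 3, 2, 7, 3, 4, 5, 6, 8])) (.node (.leaf [1, 2, 3, 4, 5, 6, 7, 3, 2, 1, 4, 3, 7, 8]) (.leaf [1, 2, 3, 4, 5, 6, 7, 3, 2, 4, 3, 5, 7, 8, 7, 3, 2, 4, 3, 5, 6]) (.leaf [1, 2, 3, 4, 5, 6, 7, 3, 2, 1, 4, 3, 5, 8, 7, 3, 2, 1, 4, 3, 2, 5, 7, 3, 4, 8]) (.leaf [1, 2, 3, 4, 5, 6, 7, 3, 2, 1, 4, 3, 2, 5, 8, 7, 3, 2, 1, 4, 3, 2, 5, 4, 3, 7, 3, 4, 8, 7, 3])) (.node (.leaf [1, 0, 2, 3, 4, 5, 7, 3, 2, 4, 8, 7, 3, 2, 1, 4, 5]) (.leaf [1, 2, 3, 4, 5, 6, 7, 3, 2, 1, 4, 3, 2, 5, 8, 7, 3, 2, 1, 4, 3, 5, 4]) (.leaf [1, 2, 3, 4, 5, 6, 7, 3, 2, 1, 4, 3, 5, 8, 7, 3, 2, 1, 4, 3, 2, 5, 7, 3, 4, 5, 8]) (.leaf [])) (.node (.leaf [1, 2, 3, 4, 5, 6, 7, 3, 4, 5, 8, 7,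 3, 2, 1, 4, 3, 2]) (.leaf [1, 2, 3, 4, 5, 6, 7, 3, 2, 1, 4, 3, 5, 7, 8, 7, 3, 2, 1, 0, 4, 3, 5, 4]) (.leaf [1, 2, 3, 4, 5, 6, 7, 3, 2, 1, 4, 3, 5, 8, 7, 3, 2, 1, 4, 3, 2, 5, 4, 7, 3, 4, 8, 7]) (.leaf []))) (.node (.node (.leaf [1, 0, 2, 1, 3, 2, 7, 3, 8, 7]) (.leaf [1, 2, 3, 4, 5, 6, 7, 3, 2, 4, 3, 5, 7, 8, 7, 3, 2, 4, 5, 6]) (.leaf [1, 2, 3, 4, 5, 6, 7, 3, 2, 1, 4, 3, 2, 5, 4, 3, 8, 7, 3, 2, 1, 4, 3, 2, 7, 8]) (.leaf [1, 2, 3, 4, 5, 6, 7, 3, 2, 1, 4, 3, 2, 5, 4, 8, 7, 3, 2, 1, 4, 3, 5, 4, 7, 3, 2, 1, 8, 7])) (.node (.leaf [1, 2, 3, 4, 5, 6, 7, 3, 2, 1, 4, 3, 2, 7, 3]) (.leaf [1, 2, 3, 4, 5, 6, 7, 3, 2, 1, 4, 3, 2, 5, 7, 8, 7, 3, 2, 4,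 3, 7]) (.leaf [1, 2, 3, 4, 5, 6, 7, 3, 2, 1, 4, 3, 2, 5, 4, 8, 7, 3, 2, 1, 0, 4, 3, 2, 1, 5, 4]) (.leaf [1, 2, 3, 4, 5, 6, 7, 3, 2, 1, 4, 3, 2, 5, 4, 8, 7, 3, 2, 1, 0, 4, 3, 2, 1, 5, 4, 7, 3, 4, 8, 7])) (.node (.leaf [1, 2, 3, 4, 5, 6, 7, 3, 2, 4, 3, 5, 4, 7, 8, 7, 3]) (.leaf [1, 2, 3, 4, 5, 6, 7, 3, 2, 1, 4, 3, 5, 8, 7, 3, 2, 1, 0, 4, 3, 5, 6]) (.leaf [1, 2, 3, 4, 5, 6, 7, 3, 2, 1, 4, 3, 2, 5, 4, 8, 7, 3, 2, 1, 0, 4, 3, 2, 5, 4, 3, 7]) (.leaf [])) (.node (.leaf [1, 2, 3, 4, 5, 7, 3, 2, 1, 4, 3, 2, 8, 7, 3, 2, 4, 3, 7]) (.leaf [1, 2, 3, 4, 5, 6, 7, 3, 2, 1, 4, 5, 8, 7, 3, 2, 1, 4, 3, 5, 4, 7, 3, 2]) (.leaf [1, 2, 3, 4, 5, 6, 7, 3, 2, 1,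 4, 3, 2, 5, 4, 8, 7, 3, 2, 1, 0, 4, 3, 2, 5, 4, 7, 3, 4]) (.leaf []))) (.node (.node (.leaf [1, 2, 3, 4, 5, 6, 7, 3, 2, 4, 8]) (.leaf [1, 2, 3, 4, 5, 6, 7, 3, 2, 1, 4, 3, 2, 5, 4, 8, 7, 3, 4, 5, 6]) (.leaf [1, 2, 3, 4, 5, 6, 7, 3, 2, 1, 4, 3, 2, 5, 7, 8, 7, 3, 2, 1, 4, 3, 5, 4, 7, 8]) (.leaf [1, 2, 3, 4, 5, 6, 7, 3, 2, 1, 4, 3, 5, 4, 7, 8, 7, 3, 2, 1, 4, 3, 5, 4, 7, 3, 2, 1, 8, 7])) (.node (.leaf [1, 0, 2, 3, 4, 5, 7, 3, 2, 4, 3, 7, 8, 7, 3, 2]) (.leaf [1, 2, 3, 4, 5, 6, 7, 3, 2, 1, 4, 3, 5, 8, 7, 3, 2, 1, 4, 3, 5, 4]) (.leaf [1, 2, 3, 4, 5, 6, 7, 3, 2, 1, 4, 3, 2, 5, 8, 7, 3, 2, 1, 0, 4, 3, 2, 1, 5, 4, 3]) (.leaf [1, 2, 3, 4, 5, 6, 7,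 3, 2, 1, 4, 3, 2, 5, 4, 7, 8, 7, 3, 2, 1, 4, 3, 2, 5, 4, 7, 3, 2, 4, 8, 7, 3])) (.node (.leaf [1, 0, 2, 3, 4, 5, 7, 3, 2, 4, 3, 8, 7, 3, 2, 4, 5, 6]) (.leaf [1, 2, 3, 4, 5, 6, 7, 3, 2, 4, 3, 5, 4, 8, 7, 3, 2, 1, 4, 3, 2, 7, 3]) (.leaf [1, 2, 3, 4, 5, 6, 7, 3, 2, 1, 4, 3, 2, 5, 7, 8, 7, 3, 2, 1, 4, 3, 2, 5, 7, 3, 8, 7]) (.leaf [])) (.node (.leaf [1, 2, 3, 4, 5, 6, 7, 3, 2, 4, 3, 5, 4, 8, 7, 3, 2, 1, 0]) (.leaf [1, 2, 3, 4, 5, 6, 7, 3, 2, 1, 4, 3, 2, 5, 4, 8, 7, 3, 2, 4, 3, 5, 4, 7, 8]) (.leaf [1, 2, 3, 4, 5, 6, 7, 3, 2, 1, 4, 3, 2, 5, 8, 7, 3, 2, 1, 0, 4, 3, 2, 1, 5, 4, 7, 3, 8]) (.leaf []))) (.node (.node (.leaf [1, 0, 2, 1, 3, 4, 5, 6,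 7, 3, 4, 8, 7, 3]) (.leaf [1, 2, 3, 4, 5, 6, 7, 3, 2, 1, 4, 3, 5, 8, 7, 3, 2, 4, 3, 7, 8]) (.leaf [1, 2, 3, 4, 5, 6, 7, 3, 2, 1, 4, 3, 5, 4, 8, 7, 3, 2, 1, 0, 4, 3, 2, 5, 4, 3]) (.leaf [1, 2, 3, 4, 5, 6, 7, 3, 2, 1, 4, 3, 2, 5, 4, 7, 8, 7, 3, 2, 1, 4, 3, 2, 5, 4, 3, 7, 3, 8, 7])) (.node (.leaf [1, 2, 3, 4, 5, 7, 3, 2, 1, 8, 7, 3, 2, 4, 3, 7]) (.leaf [1, 2, 3, 4, 5, 6, 7, 3, 2, 4, 3, 5, 4, 8, 7, 3, 2, 4, 3, 5, 7, 8]) (.leaf [1, 2, 3, 4, 5, 6, 7, 3, 2, 1, 4, 3, 5, 4, 8, 7, 3, 2, 1, 0, 4, 3, 2, 5, 4, 6, 7]) (.leaf [])) (.node (.leaf [1, 2, 3, 4, 5, 7, 3, 2, 1, 4, 3, 8, 7, 3, 2, 4, 3, 7]) (.leaf [1, 2, 3, 4, 5, 6, 7, 3, 2, 1, 4, 3, 2, 5, 8,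 7, 3, 2, 1, 0, 4, 3, 5, 7]) (.leaf [1, 2, 3, 4, 5, 6, 7, 3, 2, 1, 4, 3, 5, 4, 8, 7, 3, 2, 1, 0, 4, 3, 2, 1, 5, 4, 7, 8]) (.leaf [])) (.node (.leaf [1, 0, 2, 3, 4, 5, 6, 7, 3, 2, 4, 5, 8, 7, 3, 2, 1, 0, 4, 5]) (.leaf [1, 2, 3, 4, 5, 6, 7, 3, 2, 1, 4, 3, 5, 4, 7, 8, 7, 3, 2, 1, 4, 3, 5, 4, 7]) (.leaf [1, 2, 3, 4, 5, 6, 7, 3, 2, 1, 4, 3, 5, 4, 8, 7, 3, 2, 1, 0, 4, 3, 5, 4, 7, 3, 2, 8, 7]) (.leaf [])))) (.node (.node (.node (.leaf [1, 2, 3, 4, 5, 6]) (.leaf [1, 2, 3, 4, 5, 6, 7, 3, 2, 1, 4, 3, 8, 7, 3, 2, 4, 3, 5, 6]) (.leaf [1, 2, 3, 4, 5, 6, 7, 3, 2, 1, 4, 3, 8, 7, 3, 2, 1, 0, 4, 3, 5, 4, 7, 3, 2]) (.leaf [1, 2, 3, 4, 5, 6, 7, 3, 2, 1, 4,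 3, 2, 5, 4, 7, 8, 7, 3, 2, 1, 4, 3, 2, 5, 4, 7, 3, 8, 7])) (.node (.leaf [1, 2, 3, 4, 5, 6, 7, 3, 2, 4, 3, 5, 4, 8]) (.leaf [1, 2, 3, 4, 5, 6, 7, 3, 2, 4, 5, 8, 7, 3, 2, 1, 0, 4, 3, 2, 5]) (.leaf [1, 2, 3, 4, 5, 6, 7, 3, 2, 1, 4, 5, 8, 7, 3, 2, 1, 0, 4, 3, 5, 4, 7, 3, 2, 1]) (.leaf [1, 2, 3, 4, 5, 6, 7, 3, 2, 1, 4, 3, 2, 5, 8, 7, 3, 2, 1, 4, 3, 2, 5, 6, 7, 3, 4, 8, 7, 3, 2])) (.node (.leaf [1, 2, 3, 4, 5, 6, 7, 3, 2, 1, 4, 3, 2, 7, 8, 7, 3]) (.leaf [1, 2, 3, 4, 5, 6, 7, 3, 2, 1, 4, 3, 2, 8, 7, 3, 2, 1, 4, 3, 5, 4, 6]) (.leaf [1, 2, 3, 4, 5, 6, 7, 3, 2, 1, 4, 5, 8, 7, 3, 2, 1, 4, 3, 2, 5, 4, 7, 3, 2, 1, 4]) (.leaf [])) (.node (.leaf [1,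 0, 2, 3, 4, 5, 6, 7, 3, 2, 4, 3, 5, 8, 7, 3, 4, 5, 6]) (.leaf [1, 2, 3, 4, 5, 6, 7, 3, 2, 1, 4, 3, 5, 8, 7, 3, 2, 1, 0, 4, 3, 2, 1, 5]) (.leaf [1, 2, 3, 4, 5, 6, 7, 3, 2, 4, 3, 5, 8, 7, 3, 2, 1, 4, 3, 2, 5, 4, 3, 7, 3, 4, 5, 8]) (.leaf []))) (.node (.node (.leaf [1, 0, 2, 3, 4, 5, 7, 3, 4, 8]) (.leaf [1, 2, 3, 4, 5, 6, 7, 3, 2, 4, 3, 8, 7, 3, 2, 1, 4, 3, 5, 4]) (.leaf [1, 2, 3, 4, 5, 6, 7, 3, 2, 1, 4, 3, 2, 5, 4, 8, 7, 3, 2, 1, 0, 4, 3, 2, 1, 5]) (.leaf [1, 2, 3, 4, 5, 6, 7, 3, 2, 1, 4, 3, 2, 5, 7, 8, 7, 3, 2, 1, 4, 3, 2, 5, 7, 3, 4, 5, 8, 7])) (.node (.leaf [1, 2, 3, 4, 5, 6, 7, 3, 2, 1, 4, 5, 8, 7, 3]) (.leaf [1, 2, 3, 4, 5, 6, 7, 3,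 2, 1, 4, 3, 2, 8, 7, 3, 2, 1, 0, 4, 3, 2]) (.leaf [1, 2, 3, 4, 5, 6, 7, 3, 2, 1, 4, 3, 2, 5, 4, 8, 7, 3, 2, 1, 0, 4, 3, 5, 4, 7, 8]) (.leaf [1, 2, 3, 4, 5, 6, 7, 3, 2, 1, 4, 3, 2, 5, 4, 8, 7, 3, 2, 1, 4, 3, 2, 5, 4, 7, 3, 2, 1, 8, 7, 3])) (.node (.leaf [1, 2, 3, 4, 5, 7, 3, 2, 4, 3, 7, 8, 7, 3, 2, 1, 0]) (.leaf [1, 2, 3, 4, 5, 6, 7, 3, 2, 1, 4, 3, 5, 8, 7, 3, 2, 4, 3, 5, 6, 7, 8]) (.leaf [1, 2, 3, 4, 5, 6, 7, 3, 2, 1, 4, 3, 2, 5, 4, 8, 7, 3, 2, 1, 4, 3, 2, 5, 4, 3, 7, 3]) (.leaf [])) (.node (.leaf [1, 2, 3, 4, 5, 6, 7, 3, 2, 1, 4, 3, 7, 8, 7, 3, 2, 1, 0]) (.leaf [1, 2, 3, 4, 5, 6, 7, 3, 2, 4, 3, 5, 8, 7, 3, 2, 1, 4, 3, 2, 5, 4, 3, 7]) (.leaf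 [1, 2, 3, 4, 5, 6, 7, 3, 2, 1, 4, 3, 2, 5, 4, 8, 7, 3, 2, 1, 4, 3, 2, 5, 4, 6, 5, 7, 8]) (.leaf []))) (.node (.node (.leaf [1, 0, 2, 3, 4, 7, 3, 2, 8, 7, 3, 4]) (.leaf [1, 2, 3, 4, 5, 6, 7, 3, 2, 1, 4, 3, 2, 7, 8, 7, 3, 2, 1, 4, 5]) (.leaf [1, 2, 3, 4, 5, 6, 7, 3, 2, 1, 4, 3, 2, 5, 8, 7, 3, 2, 1, 4, 3, 2, 5, 4, 3, 6]) (.leaf [1, 2, 3, 4, 5, 6, 7, 3, 2, 1, 4, 3, 5, 4, 8, 7, 3, 2, 1, 4, 3, 2, 5, 4, 6, 5, 7, 3, 4, 8])) (.node (.leaf [1, 0, 2, 3, 4, 5, 6, 7, 3, 4, 5, 8, 7, 3, 2, 4]) (.leaf [1, 2, 3, 4, 5, 6, 7, 3, 2, 1, 4, 3, 8, 7, 3, 2, 1, 0, 4, 3, 5, 7]) (.leaf [1, 2, 3, 4, 5, 6, 7, 3, 2, 1, 4, 3, 2, 5, 8, 7, 3, 2, 1, 0, 4, 3, 5, 4, 7, 3,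 8]) (.leaf [1, 2, 3, 4, 5, 6, 7, 3, 2, 1, 4, 3, 2, 5, 4, 8, 7, 3, 2, 1, 4, 3, 2, 5, 4, 7, 3, 2, 8, 7, 3, 4, 5])) (.node (.leaf [1, 0, 2, 1, 3, 4, 5, 6, 7, 3, 4, 5, 8, 7, 3, 2, 4, 3, 7]) (.leaf [1, 2, 3, 4, 5, 6, 7, 3, 2, 1, 4, 3, 2, 5, 4, 3, 8, 7, 3, 2, 1, 0, 4, 5]) (.leaf [1, 2, 3, 4, 5, 6, 7, 3, 2, 1, 4, 3, 2, 5, 8, 7, 3, 2, 1, 0, 4, 3, 2, 5, 6, 7, 3, 4]) (.leaf [])) (.node (.leaf [1, 2, 3, 4, 5, 6, 7, 3, 2, 4, 3, 7, 8, 7, 3, 2, 1, 0, 4]) (.leaf [1, 2, 3, 4, 5, 6, 7, 3, 2, 1, 4, 3, 2, 5, 7, 8, 7, 3, 2, 1, 4, 3, 5, 4, 7]) (.leaf [1, 2, 3, 4, 5, 6, 7, 3, 2, 1, 4, 3, 2, 5, 8, 7, 3, 2, 1, 4, 3, 2, 5, 4, 6, 5, 7, 3, 4]) (.leaf []))) (.node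 (.node (.leaf [1, 2, 3, 4, 7, 3, 2, 1, 8, 7, 3, 2, 4]) (.leaf [1, 2, 3, 4, 5, 6, 7, 3, 2, 1, 4, 3, 8, 7, 3, 2, 1, 4, 3, 5, 4]) (.leaf [1, 2, 3, 4, 5, 6, 7, 3, 2, 1, 4, 3, 5, 4, 8, 7, 3, 2, 1, 4, 3, 2, 5, 4, 7, 3]) (.leaf [1, 2, 3, 4, 5, 6, 7, 3, 2, 1, 4, 3, 2, 5, 4, 8, 7, 3, 2, 1, 0, 4, 3, 2, 5, 4, 6, 7, 3, 8, 7])) (.node (.leaf [1, 2, 3, 4, 5, 7, 3, 2, 4, 3, 7, 8, 7, 3, 2, 4]) (.leaf [1, 2, 3, 4, 5, 6, 7, 3, 2, 4, 5, 8, 7, 3, 2, 1, 0, 4, 3, 2, 5, 6]) (.leaf [1, 2, 3, 4, 5, 6, 7, 3, 2, 1, 4, 3, 5, 4, 8, 7, 3, 2, 1, 4, 3, 2, 5, 4, 7, 3, 2]) (.leaf [])) (.node (.leaf [1, 2, 3, 4, 5, 7, 3, 2, 1, 4, 8, 7, 3, 2, 1, 4, 3, 7]) (.leaf [1, 2, 3,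 4, 5, 6, 7, 3, 2, 1, 4, 3, 2, 7, 8, 7, 3, 2, 1, 0, 4, 3, 5, 4]) (.leaf [1, 2, 3, 4, 5, 6, 7, 3, 2, 1, 4, 3, 5, 4, 8, 7, 3, 2, 1, 4, 3, 2, 5, 4, 3, 7, 3, 8]) (.leaf [])) (.node (.leaf [1, 2, 3, 4, 5, 6, 7, 3, 2, 1, 4, 3, 2, 5, 7, 8, 7, 3, 2, 4]) (.leaf [1, 2, 3, 4, 5, 6, 7, 3, 2, 1, 4, 3, 5, 4, 8, 7, 3, 2, 1, 0, 4, 3, 5, 6, 7]) (.leaf [1, 2, 3, 4, 5, 6, 7, 3, 2, 1, 4, 3, 5, 4, 8, 7, 3, 2, 1, 4, 3, 2, 5, 4, 7, 3, 4, 8, 7]) (.leaf [])))) (.node (.node (.node (.leaf [1, 0, 2, 1, 3, 4, 5]) (.leaf [1, 2, 3, 4, 5, 6, 7, 3, 2, 1, 4, 5, 8, 7, 3, 2, 1, 4, 3, 7]) (.leaf [1, 2, 3, 4, 5, 6, 7, 3, 2, 1, 4, 5, 8, 7, 3, 2, 1, 4, 3, 2, 5, 4, 7, 3, 4]) (.leaf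 [1, 2, 3, 4, 5, 6, 7, 3, 2, 1, 4, 3, 2, 5, 4, 8, 7, 3, 2, 1, 0, 4, 3, 2, 5, 4, 6, 5, 7, 3])) (.node (.leaf [1, 2, 3, 4, 5, 6, 7, 3, 4, 5, 8, 7, 3, 2]) (.leaf [1, 0, 2, 3, 4, 5, 6, 7, 3, 2, 4, 3, 5, 4, 8, 7, 3, 2, 4, 3, 5, 6]) (.leaf [1, 2, 3, 4, 5, 6, 7, 3, 2, 4, 3, 5, 4, 8, 7, 3, 2, 1, 4, 3, 2, 5, 4, 3, 7, 8]) (.leaf [1, 2, 3, 4, 5, 6, 7, 3, 2, 1, 4, 3, 5, 4, 8, 7, 3, 2, 1, 4, 3, 2, 5, 4, 7, 3, 2, 1, 0, 8, 7])) (.node (.leaf [1, 2, 3, 4, 5, 6, 7, 3, 2, 1, 4, 3, 7, 8, 7, 3, 4]) (.leaf [1, 2, 3, 4, 5, 6, 7, 3, 2, 1, 4, 3, 5, 4, 7, 8, 7, 3, 2, 4, 3, 7, 8]) (.leaf [1, 2, 3, 4, 5, 6, 7, 3, 2, 1, 4, 3, 2, 5, 4, 3, 8, 7, 3, 2, 1, 0, 4, 3, 5,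 4, 7, 3]) (.leaf [])) (.node (.leaf [1, 0, 2, 3, 4, 5, 6, 7, 3, 2, 4, 5, 8, 7, 3, 2, 4, 5, 6]) (.leaf [1, 2, 3, 4, 5, 6, 7, 3, 2, 1, 4, 3, 5, 8, 7, 3, 2, 1, 4, 3, 2, 7, 3, 8]) (.leaf [1, 2, 3, 4, 5, 6, 7, 3, 2, 1, 4, 3, 2, 5, 4, 3, 8, 7, 3, 2, 1, 4, 3, 5, 4, 7, 3, 2, 8]) (.leaf []))) (.node (.node (.leaf [1, 2, 3, 4, 5, 6, 7, 3, 2, 8]) (.leaf [1, 0, 2, 3, 4, 5, 6, 7, 3, 2, 4, 3, 5, 4, 8, 7, 3, 2, 1, 4, 3]) (.leaf [1, 2, 3, 4, 5, 6, 7, 3, 2, 1, 4, 3, 2, 5, 4, 8, 7, 3, 2, 1, 4, 3, 2, 5, 7, 8]) (.leaf [1, 2, 3, 4, 5, 6, 7, 3, 2, 1, 4, 3, 2, 5, 8, 7, 3, 2, 1, 0, 4, 3, 2, 5, 6, 7, 3, 4, 8, 7])) (.node (.leaf [1, 2, 3, 4, 5, 6, 7, 3, 2, 4, 3,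 5, 4, 8, 7]) (.leaf [1, 2, 3, 4, 5, 6, 7, 3, 2, 1, 4, 3, 5, 4, 7, 3, 8, 7, 3, 4, 5, 6]) (.leaf [1, 2, 3, 4, 5, 6, 7, 3, 2, 1, 4, 3, 2, 5, 4, 8, 7, 3, 2, 1, 4, 3, 5, 4, 6, 7, 3]) (.leaf [1, 2, 3, 4, 5, 6, 7, 3, 2, 1, 4, 3, 2, 5, 8, 7, 3, 2, 1, 0, 4, 3, 2, 5, 4, 6, 7, 3, 4, 8, 7, 3])) (.node (.leaf [1, 2, 3, 4, 5, 6, 7, 3, 2, 4, 8, 7, 3, 2, 1, 4, 5]) (.leaf [1, 2, 3, 4, 5, 6, 7, 3, 2, 1, 4, 5, 8, 7, 3, 2, 1, 0, 4, 3, 5, 6, 7]) (.leaf [1, 2, 3, 4, 5, 6, 7, 3, 2, 1, 4, 3, 2, 5, 4, 8, 7, 3, 2, 1, 4, 3, 5, 4, 6, 5, 7, 8]) (.leaf [])) (.node (.leaf [1, 2, 3, 4, 5, 7, 3, 2, 1, 4, 3, 7, 8, 7, 3, 2, 4, 5, 6]) (.leaf [1, 2, 3, 4, 5, 6, 7, 3, 2, 1,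 4, 3, 2, 5, 4, 3, 8, 7, 3, 2, 1, 4, 3, 5, 7]) (.leaf [1, 2, 3, 4, 5, 6, 7, 3, 2, 1, 4, 3, 2, 5, 4, 8, 7, 3, 2, 1, 4, 3, 5, 4, 7, 3, 2, 1, 8]) (.leaf []))) (.node (.node (.leaf [1, 2, 3, 4, 5, 7, 3, 2, 1, 8, 7, 3]) (.leaf [1, 2, 3, 4, 5, 7, 3, 2, 1, 4, 3, 2, 8, 7, 3, 2, 1, 0, 4, 3, 7]) (.leaf [1, 2, 3, 4, 5, 6, 7, 3, 2, 1, 4, 3, 2, 5, 8, 7, 3, 2, 1, 4, 3, 5, 4, 7, 3, 2]) (.leaf [1, 2, 3, 4, 5, 6, 7, 3, 2, 1, 4, 3, 5, 8, 7, 3, 2, 1, 0, 4, 3, 2, 5, 4, 7, 3, 2, 1, 8, 7])) (.node (.leaf [1, 2, 3, 4, 5, 7, 3, 2, 1, 4, 3, 2, 7, 3, 4, 8]) (.leaf [1, 2, 3, 4, 5, 6, 7, 3, 2, 1, 4, 5, 8, 7, 3, 2, 1, 4, 3, 2, 7, 8]) (.leaf [1, 2, 3, 4, 5, 6, 7, 3,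 2, 1, 4, 3, 2, 5, 8, 7, 3, 2, 1, 4, 3, 2, 7, 3, 4, 8, 7]) (.leaf [])) (.node (.leaf [1, 2, 3, 4, 5, 7, 3, 2, 1, 4, 3, 2, 7, 8, 7, 3, 2, 4]) (.leaf [1, 2, 3, 4, 5, 6, 7, 3, 2, 1, 4, 3, 2, 5, 4, 8, 7, 3, 2, 1, 0, 4, 3, 5]) (.leaf [1, 2, 3, 4, 5, 6, 7, 3, 2, 1, 4, 3, 2, 5, 8, 7, 3, 2, 1, 4, 3, 2, 5, 4, 7, 3, 8, 7]) (.leaf [])) (.node (.leaf [1, 2, 3, 4, 5, 6, 7, 3, 2, 4, 5, 8, 7, 3, 2, 1, 4, 3, 7]) (.leaf [1, 2, 3, 4, 5, 6, 7, 3, 2, 1, 4, 3, 2, 5, 8, 7, 3, 2, 1, 4, 3, 2, 5, 4, 7]) (.leaf [1, 2, 3, 4, 5, 6, 7, 3, 2, 1, 4, 3, 2, 5, 8, 7, 3, 2, 1, 4, 3, 2, 5, 6, 7, 3, 4, 8, 7]) (.leaf []))) (.node (.node (.leaf [1, 2, 3, 4, 5, 6, 7, 3, 4, 5,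 8, 7, 3]) (.leaf [1, 2, 3, 4, 5, 6, 7, 3, 2, 1, 4, 5, 8, 7, 3, 2, 4, 3, 5, 4, 7]) (.leaf [1, 2, 3, 4, 5, 6, 7, 3, 2, 1, 4, 3, 5, 4, 8, 7, 3, 2, 4, 3, 5, 4, 7, 3, 2, 8]) (.leaf [1, 2, 3, 4, 5, 6, 7, 3, 2, 1, 4, 3, 2, 5, 4, 8, 7, 3, 2, 1, 4, 3, 2, 5, 4, 7, 3, 2, 8, 7, 3])) (.node (.leaf [1, 2, 3, 4, 5, 7, 3, 2, 4, 8, 7, 3, 2, 4, 5, 6]) (.leaf [1, 2, 3, 4, 5, 6, 7, 3, 2, 1, 4, 3, 2, 5, 4, 3, 8, 7, 3, 2, 4, 5, 6]) (.leaf [1, 2, 3, 4, 5, 6, 7, 3, 2, 1, 4, 3, 5, 4, 8, 7, 3, 2, 4, 3, 5, 4, 7, 3, 2, 1, 8]) (.leaf [])) (.node (.leaf [1, 2, 3, 4, 5, 6, 7, 3, 2, 4, 3, 5, 8, 7, 3, 2, 1, 0]) (.leaf [1, 2, 3, 4, 5, 6, 7, 3, 2, 1, 4, 3, 5, 4, 7, 8, 7,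 3, 2, 1, 4, 3, 5, 4]) (.leaf [1, 2, 3, 4, 5, 6, 7, 3, 2, 1, 4, 3, 5, 4, 8, 7, 3, 2, 1, 4, 3, 5, 4, 7, 3, 2, 1, 0]) (.leaf [])) (.node (.leaf [1, 2, 3, 4, 5, 6, 7, 3, 2, 1, 4, 3, 2, 8, 7, 3, 2, 4, 3, 7]) (.leaf [1, 2, 3, 4, 5, 6, 7, 3, 2, 1, 4, 3, 5, 4, 8, 7, 3, 2, 4, 3, 5, 4, 6, 7, 3]) (.leaf [1, 2, 3, 4, 5, 6, 7, 3, 2, 1, 4, 3, 5, 8, 7, 3, 2, 1, 4, 3, 2, 5, 4, 3, 7, 3, 2, 1, 4]) (.leaf [])))))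
def pathTree7 : SporBound.Q (List ℕ) := (.node (.node (.node (.node (.leaf [1, 0, 2, 1, 3, 4, 7]) (.leaf [1, 2, 3, 4, 5, 6, 7, 3, 2, 1, 4, 3, 5, 4, 7, 8, 7, 3, 2, 4]) (.leaf [1, 2, 3, 4, 5, 6, 7, 3, 2, 1, 4, 3, 5, 7, 8, 7, 3, 2, 1, 4, 3, 5, 4, 6, 7]) (.leaf [1, 2, 3, 4, 5, 6, 7, 3, 2, 1, 4, 5, 8, 7, 3, 2, 1, 0, 4, 3, 2, 5, 4, 7, 3, 2, 1, 8, 7])) (.node (.leaf [1, 0, 2, 3, 4, 5, 6, 7, 3, 4, 5, 8, 7, 3]) (.leaf [1, 2, 3, 4, 5, 6, 7, 3, 2, 4, 3, 5, 4, 8, 7, 3, 2, 1, 4, 3, 2]) (.leaf [1, 2, 3, 4, 5, 6, 7, 3, 2, 1, 4, 3, 5, 8, 7, 3, 2, 1, 0, 4, 3, 2, 5, 4, 7, 8]) (.leaf [1, 2, 3, 4, 5, 6, 7, 3, 2, 1, 4, 3, 2, 5, 7, 8, 7, 3, 2, 1, 4, 3, 2, 5,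 7, 3, 4, 5, 8, 7, 3])) (.node (.leaf [1, 0, 2, 3, 4, 5, 7, 3, 2, 4, 3, 7, 8, 7, 3, 2, 4]) (.leaf [1, 2, 3, 4, 5, 6, 7, 3, 2, 1, 4, 3, 2, 5, 7, 3, 8, 7, 3, 2, 4, 3, 7]) (.leaf [1, 2, 3, 4, 5, 6, 7, 3, 2, 1, 4, 3, 5, 8, 7, 3, 2, 1, 0, 4, 3, 5, 4, 7, 3, 2, 8]) (.leaf [])) (.node (.leaf [1, 2, 3, 4, 5, 7, 3, 2, 4, 3, 7, 8, 7, 3, 2, 1, 4, 5]) (.leaf [1, 2, 3, 4, 5, 6, 7, 3, 2, 1, 4, 3, 5, 4, 8, 7, 3, 2, 1, 4, 3, 2, 5, 7]) (.leaf [1, 2, 3, 4, 5, 6, 7, 3, 2, 1, 4, 3, 5, 8, 7, 3, 2, 1, 4, 3, 2, 5, 4, 3, 7, 3, 2, 4]) (.leaf []))) (.node (.node (.leaf [1, 0, 2, 3, 4, 7, 3, 2, 8]) (.leaf [1, 2, 3, 4, 5, 6, 7, 3, 2, 4, 3, 5, 4, 7, 8, 7, 3, 2, 1, 4])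 (.leaf [1, 2, 3, 4, 5, 6, 7, 3, 2, 4, 3, 5, 8, 7, 3, 2, 1, 4, 3, 2, 5, 4, 3, 7, 3]) (.leaf [1, 2, 3, 4, 5, 6, 7, 3, 2, 1, 4, 3, 2, 5, 4, 8, 7, 3, 2, 1, 4, 3, 2, 5, 4, 6, 5, 7, 3, 4])) (.node (.leaf [1, 0, 2, 3, 4, 5, 7, 3, 2, 4, 8, 7, 3, 2, 4]) (.leaf [1, 2, 3, 4, 5, 6, 7, 3, 2, 1, 4, 3, 2, 5, 4, 7, 8, 7, 3, 2, 4, 3]) (.leaf [1, 2, 3, 4, 5, 6, 7, 3, 2, 1, 4, 3, 2, 5, 4, 3, 8, 7, 3, 2, 1, 4, 3, 5, 4, 7, 3]) (.leaf [1, 2, 3, 4, 5, 6, 7, 3, 2, 1, 4, 3, 2, 5, 4, 3, 8, 7, 3, 2, 1, 0, 4, 3, 2, 1, 7, 3, 2, 8, 7, 3])) (.node (.leaf [1, 2, 3, 4, 5, 6, 7, 3, 2, 1, 4, 8, 7, 3, 2, 4, 3]) (.leaf [1, 2, 3, 4, 5, 6, 7, 3, 2, 1, 4, 3, 5, 7, 8, 7, 3, 2,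 1, 0, 4, 3, 7]) (.leaf [1, 2, 3, 4, 5, 6, 7, 3, 2, 1, 4, 3, 2, 5, 4, 7, 8, 7, 3, 2, 1, 4, 3, 2, 5, 4, 7, 8]) (.leaf [])) (.node (.leaf [1, 2, 3, 4, 5, 6, 7, 3, 2, 1, 4, 3, 2, 7, 8, 7, 3, 2, 4]) (.leaf [1, 2, 3, 4, 5, 6, 7, 3, 2, 1, 4, 5, 8, 7, 3, 2, 1, 0, 4, 3, 2, 5, 7, 8]) (.leaf [1, 2, 3, 4, 5, 6, 7, 3, 2, 1, 4, 3, 2, 5, 4, 8, 7, 3, 2, 1, 0, 4, 3, 2, 1, 5, 4, 6, 7]) (.leaf []))) (.node (.node (.leaf [1, 0, 2, 1, 3, 4, 5, 6, 7, 3, 4, 5]) (.leaf [1, 0, 2, 3, 4, 5, 6, 7, 3, 2, 4, 3, 5, 8, 7, 3, 2, 4, 3, 5, 7]) (.leaf [1, 2, 3, 4, 5, 6, 7, 3, 2, 1, 4, 3, 2, 5, 7, 3, 8, 7, 3, 2, 1, 4, 3, 2, 7, 8]) (.leaf [1, 2, 3, 4, 5, 6, 7, 3, 2, 1, 4, 3,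 2, 5, 8, 7, 3, 2, 1, 4, 3, 2, 5, 4, 7, 3, 4, 5, 6, 8])) (.node (.leaf [1, 2, 3, 4, 5, 7, 3, 2, 4, 8, 7, 3, 2, 1, 4]) (.leaf [1, 2, 3, 4, 5, 6, 7, 3, 2, 1, 4, 3, 5, 7, 8, 7, 3, 2, 1, 0, 4, 5]) (.leaf [1, 2, 3, 4, 5, 6, 7, 3, 2, 1, 4, 3, 2, 5, 7, 8, 7, 3, 2, 1, 0, 4, 3, 2, 1, 5, 7]) (.leaf [1, 2, 3, 4, 5, 6, 7, 3, 2, 1, 4, 3, 2, 5, 8, 7, 3, 2, 1, 4, 3, 2, 5, 6, 7, 3, 4, 5, 8, 7, 3, 2])) (.node (.leaf [1, 0, 2, 3, 4, 5, 6, 7, 3, 2, 4, 3, 5, 8, 7, 3, 4, 5]) (.leaf [1, 2, 3, 4, 5, 6, 7, 3, 2, 1, 4, 8, 7, 3, 2, 1, 4, 3, 5, 4, 7, 3, 2]) (.leaf [1, 2, 3, 4, 5, 6, 7, 3, 2, 1, 4, 3, 2, 5, 7, 3, 8, 7, 3, 2, 1, 4, 3, 2, 7, 3, 4, 8]) (.leaf [])) (.node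 (.leaf [1, 2, 3, 4, 5, 6, 7, 3, 2, 1, 4, 8, 7, 3, 2, 1, 4, 3, 7]) (.leaf [1, 2, 3, 4, 5, 6, 7, 3, 2, 1, 4, 3, 2, 5, 4, 8, 7, 3, 2, 1, 0, 4, 3, 5, 6]) (.leaf [1, 2, 3, 4, 5, 6, 7, 3, 2, 1, 4, 3, 2, 5, 7, 8, 7, 3, 2, 1, 0, 4, 3, 2, 5, 7, 3, 8, 7]) (.leaf []))) (.node (.node (.leaf [1, 0, 2, 3, 4, 5, 6, 7, 3, 2, 4, 3, 5]) (.leaf [1, 2, 3, 4, 5, 6, 7, 3, 2, 1, 4, 3, 5, 7, 8, 7, 3, 2, 1, 0, 4]) (.leaf [1, 2, 3, 4, 5, 6, 7, 3, 2, 1, 4, 3, 5, 4, 7, 8, 7, 3, 2, 1, 4, 3, 2, 5, 4, 6]) (.leaf [1, 2, 3, 4, 5, 6, 7, 3, 2, 1, 4, 3, 2, 5, 4, 3, 8, 7, 3, 2, 1, 0, 4, 3, 2, 1, 7, 3, 4, 8, 7])) (.node (.leaf [1, 2, 3, 4, 5, 7, 3, 2, 1, 4, 3, 8, 7, 3, 4, 5])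 (.leaf [1, 2, 3, 4, 5, 6, 7, 3, 2, 4, 3, 5, 4, 7, 8, 7, 3, 2, 4, 3, 5, 4]) (.leaf [1, 2, 3, 4, 5, 6, 7, 3, 2, 1, 4, 3, 5, 4, 7, 8, 7, 3, 2, 1, 4, 3, 2, 5, 4, 7, 3]) (.leaf [])) (.node (.leaf [1, 2, 3, 4, 5, 6, 7, 3, 2, 1, 4, 3, 7, 8, 7, 3, 4, 5]) (.leaf [1, 2, 3, 4, 5, 6, 7, 3, 2, 1, 4, 3, 2, 5, 7, 8, 7, 3, 2, 1, 0, 4, 3, 2]) (.leaf [1, 2, 3, 4, 5, 6, 7, 3, 2, 1, 4, 3, 5, 4, 7, 8, 7, 3, 2, 1, 4, 3, 2, 5, 4, 3, 7, 3]) (.leaf [])) (.node (.leaf [1, 0, 2, 3, 4, 5, 6, 7, 3, 2, 4, 3, 5, 7, 8, 7, 3, 2, 4, 3]) (.leaf [1, 2, 3, 4, 5, 6, 7, 3, 2, 1, 4, 3, 2, 8, 7, 3, 2, 1, 0, 4, 3, 2, 5, 4, 3]) (.leaf [1, 2, 3, 4, 5, 6, 7, 3, 2, 1, 4, 3, 5, 4, 7,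 8, 7, 3, 2, 4, 3, 5, 4, 7, 3, 2, 1, 0, 8]) (.leaf [])))) (.node (.node (.node (.leaf [1, 0, 2, 3, 7]) (.leaf [1, 2, 3, 4, 5, 6, 7, 3, 2, 1, 4, 3, 5, 8, 7, 3, 2, 4, 3, 7]) (.leaf [1, 2, 3, 4, 5, 6, 7, 3, 2, 1, 4, 3, 5, 8, 7, 3, 2, 1, 4, 3, 2, 5, 4, 6, 5]) (.leaf [1, 2, 3, 4, 5, 6, 7, 3, 2, 1, 4, 3, 2, 5, 4, 3, 8, 7, 3, 2, 1, 4, 3, 2, 7, 3, 4, 5, 8, 7])) (.node (.leaf [1, 2, 3, 4, 5, 6, 7, 3, 2, 1, 4, 3, 8, 7]) (.leaf [1, 2, 3, 4, 5, 6, 7, 3, 2, 4, 3, 5, 7, 8, 7, 3, 2, 4, 3, 5, 7]) (.leaf [1, 2, 3, 4, 5, 6, 7, 3, 2, 1, 4, 3, 5, 8, 7, 3, 2, 1, 4, 3, 2, 7, 3, 4, 5, 6]) (.leaf [1, 2, 3, 4, 5, 6, 7, 3, 2, 1, 4, 3, 2, 5, 8, 7, 3, 2, 1, 4, 3, 2,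 5, 4, 6, 5, 7, 3, 4, 8, 7])) (.node (.leaf [1, 0, 2, 3, 4, 5, 7, 3, 2, 4, 8, 7, 3, 2, 4, 5, 6]) (.leaf [1, 2, 3, 4, 5, 6, 7, 3, 2, 1, 4, 3, 2, 5, 8, 7, 3, 2, 1, 4, 3, 5, 6]) (.leaf [1, 2, 3, 4, 5, 6, 7, 3, 2, 1, 4, 3, 5, 8, 7, 3, 2, 1, 4, 3, 2, 7, 3, 4, 5, 6, 8]) (.leaf [])) (.node (.leaf [1, 2, 3, 4, 5, 6, 7, 3, 4, 5, 8, 7, 3, 2, 1, 4, 3, 7]) (.leaf [1, 2, 3, 4, 5, 6, 7, 3, 2, 1, 4, 3, 5, 7, 8, 7, 3, 2, 1, 0, 4, 3, 5, 7]) (.leaf [1, 2, 3, 4, 5, 6, 7, 3, 2, 1, 4, 3, 5, 8, 7, 3, 2, 1, 4, 3, 2, 5, 6, 7, 3, 4, 5, 8]) (.leaf []))) (.node (.node (.leaf [1, 2, 3, 4, 5, 7, 3, 2, 1]) (.leaf [1, 2, 3, 4, 5, 6, 7, 3, 2, 4, 3, 5, 8, 7, 3, 2, 1, 0,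 4, 3]) (.leaf [1, 2, 3, 4, 5, 6, 7, 3, 2, 1, 4, 3, 2, 5, 4, 3, 8, 7, 3, 2, 1, 4, 3, 5, 4, 7]) (.leaf [1, 2, 3, 4, 5, 6, 7, 3, 2, 1, 4, 3, 2, 5, 4, 8, 7, 3, 2, 1, 4, 3, 5, 4, 7, 3, 2, 8, 7, 3])) (.node (.leaf [1, 2, 3, 4, 5, 6, 7, 3, 2, 1, 4, 3, 2, 7, 8]) (.leaf [1, 2, 3, 4, 5, 6, 7, 3, 2, 1, 4, 3, 2, 5, 8, 7, 3, 2, 1, 0, 4, 3]) (.leaf [1, 2, 3, 4, 5, 6, 7, 3, 2, 1, 4, 3, 2, 5, 4, 8, 7, 3, 2, 1, 0, 4, 3, 2, 1, 5, 6]) (.leaf [1, 2, 3, 4, 5, 6, 7, 3, 2, 1, 4, 3, 2, 5, 4, 8, 7, 3, 2, 1, 0, 4, 3, 2, 1, 5, 7, 3, 4, 8, 7, 3])) (.node (.leaf [1, 2, 3, 4, 5, 6, 7, 3, 2, 4, 3, 5, 4, 8, 7, 3, 2]) (.leaf [1, 2, 3, 4, 5, 6, 7, 3, 2, 1, 4, 3, 5, 8, 7,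 3, 2, 1, 0, 4, 3, 5, 7]) (.leaf [1, 2, 3, 4, 5, 6, 7, 3, 2, 1, 4, 3, 2, 5, 4, 8, 7, 3, 2, 1, 0, 4, 3, 2, 5, 4, 6, 5]) (.leaf [])) (.node (.leaf [1, 2, 3, 4, 5, 6, 7, 3, 2, 1, 4, 8, 7, 3, 2, 4, 3, 7, 8]) (.leaf [1, 2, 3, 4, 5, 6, 7, 3, 2, 1, 4, 5, 8, 7, 3, 2, 1, 4, 3, 5, 4, 7, 3, 8]) (.leaf [1, 2, 3, 4, 5, 6, 7, 3, 2, 1, 4, 3, 2, 5, 4, 8, 7, 3, 2, 1, 0, 4, 3, 2, 5, 4, 7, 3, 8]) (.leaf []))) (.node (.node (.leaf [1, 2, 3, 4, 5, 7, 3, 2, 4, 8, 7]) (.leaf [1, 2, 3, 4, 5, 6, 7, 3, 2, 1, 4, 3, 2, 5, 7, 3, 8, 7, 3, 2, 1]) (.leaf [1, 2, 3, 4, 5, 6, 7, 3, 2, 1, 4, 3, 2, 5, 8, 7, 3, 2, 1, 0, 4, 3, 2, 1, 5, 4]) (.leaf [1, 2, 3, 4, 5, 6, 7, 3, 2, 1,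 4, 3, 5, 4, 7, 8, 7, 3, 2, 1, 4, 3, 5, 4, 7, 3, 2, 8, 7, 3])) (.node (.leaf [1, 0, 2, 3, 4, 5, 7, 3, 2, 4, 3, 7, 8, 7, 3, 4]) (.leaf [1, 2, 3, 4, 5, 6, 7, 3, 2, 1, 4, 3, 5, 8, 7, 3, 2, 1, 4, 3, 5, 6]) (.leaf [1, 2, 3, 4, 5, 6, 7, 3, 2, 1, 4, 3, 2, 5, 8, 7, 3, 2, 1, 0, 4, 3, 2, 1, 5, 4, 6]) (.leaf [1, 2, 3, 4, 5, 6, 7, 3, 2, 1, 4, 3, 2, 5, 4, 7, 8, 7, 3, 2, 1, 4, 3, 2, 5, 4, 7, 3, 2, 8, 7, 3, 4])) (.node (.leaf [1, 0, 2, 3, 4, 5, 6, 7, 3, 2, 4, 5, 8, 7, 3, 2, 1, 0]) (.leaf [1, 2, 3, 4, 5, 6, 7, 3, 2, 4, 3, 5, 4, 8, 7, 3, 2, 1, 4, 3, 5, 7, 8]) (.leaf [1, 2, 3, 4, 5, 6, 7, 3, 2, 1, 4, 3, 2, 5, 7, 8, 7, 3, 2, 1, 4, 3, 2, 7, 3, 4, 5, 6]) (.leaf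 [])) (.node (.leaf [1, 2, 3, 4, 5, 6, 7, 3, 2, 4, 3, 5, 4, 8, 7, 3, 2, 1, 4]) (.leaf [1, 2, 3, 4, 5, 6, 7, 3, 2, 1, 4, 3, 2, 5, 4, 8, 7, 3, 2, 4, 3, 5, 6, 7, 8]) (.leaf [1, 2, 3, 4, 5, 6, 7, 3, 2, 1, 4, 3, 2, 5, 8, 7, 3, 2, 1, 0, 4, 3, 2, 5, 4, 3, 7, 3, 4]) (.leaf []))) (.node (.node (.leaf [1, 0, 2, 1, 3, 4, 5, 7, 3, 4, 8, 7, 3, 2]) (.leaf [1, 2, 3, 4, 5, 6, 7, 3, 2, 1, 4, 3, 7, 8, 7, 3, 2, 1, 0, 4, 3]) (.leaf [1, 2, 3, 4, 5, 6, 7, 3, 2, 1, 4, 3, 5, 4, 8, 7, 3, 2, 1, 0, 4, 3, 2, 5, 4, 6]) (.leaf [1, 2, 3, 4, 5, 6, 7, 3, 2, 1, 4, 3, 2, 5, 4, 7, 8, 7, 3, 2, 1, 4, 3, 2, 5, 4, 7, 3, 2, 4, 8])) (.node (.leaf [1, 2, 3, 4, 5, 7, 3, 2, 1, 8, 7,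 3, 2, 4, 5, 6]) (.leaf [1, 2, 3, 4, 5, 6, 7, 3, 2, 4, 3, 5, 7, 8, 7, 3, 2, 1, 0, 4, 3, 2]) (.leaf [1, 2, 3, 4, 5, 6, 7, 3, 2, 1, 4, 3, 5, 4, 8, 7, 3, 2, 1, 0, 4, 3, 2, 5, 4, 7, 3]) (.leaf [])) (.node (.leaf [1, 2, 3, 4, 5, 7, 3, 2, 1, 4, 3, 8, 7, 3, 2, 4, 5, 6]) (.leaf [1, 2, 3, 4, 5, 6, 7, 3, 2, 1, 4, 3, 2, 5, 8, 7, 3, 2, 1, 0, 4, 3, 7, 8]) (.leaf [1, 2, 3, 4, 5, 6, 7, 3, 2, 1, 4, 3, 5, 4, 8, 7, 3, 2, 1, 0, 4, 3, 2, 5, 4, 3, 7, 3]) (.leaf [])) (.node (.leaf [1, 0, 2, 3, 4, 5, 6, 7, 3, 2, 4, 5, 8, 7, 3, 2, 1, 4, 3, 5]) (.leaf [1, 2, 3, 4, 5, 6, 7, 3, 2, 1, 4, 3, 5, 4, 7, 8, 7, 3, 2, 1, 4, 3, 5, 6, 7]) (.leaf [1, 2, 3, 4, 5, 6, 7, 3, 2,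 1, 4, 3, 5, 4, 8, 7, 3, 2, 1, 4, 3, 2, 5, 4, 3, 7, 3, 2, 1]) (.leaf [])))) (.node (.node (.node (.leaf [1, 2, 3, 4, 7, 3, 2]) (.leaf [1, 2, 3, 4, 5, 6, 7, 3, 2, 1, 4, 3, 8, 7, 3, 2, 4, 3, 5, 7]) (.leaf [1, 2, 3, 4, 5, 6, 7, 3, 2, 1, 4, 3, 8, 7, 3, 2, 1, 4, 3, 2, 5, 4, 3, 7, 3]) (.leaf [1, 2, 3, 4, 5, 6, 7, 3, 2, 1, 4, 3, 2, 5, 4, 7, 8, 7, 3, 2, 1, 4, 3, 2, 5, 7, 3, 4, 8, 7])) (.node (.leaf [1, 2, 3, 4, 5, 6, 7, 3, 2, 4, 3, 5, 7, 8]) (.leaf [1, 2, 3, 4, 5, 6, 7, 3, 2, 4, 5, 8, 7, 3, 2, 1, 0, 4, 3, 5, 6]) (.leaf [1, 2, 3, 4, 5, 6, 7, 3, 2, 1, 4, 5, 8, 7, 3, 2, 1, 0, 4, 3, 5, 4, 7, 3, 2, 8]) (.leaf [1, 2, 3, 4, 5, 6, 7, 3, 2, 1, 4, 3, 2, 5,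 8, 7, 3, 2, 1, 4, 3, 2, 5, 7, 3, 4, 5, 8, 7, 3, 2])) (.node (.leaf [1, 2, 3, 4, 5, 6, 7, 3, 2, 1, 4, 3, 2, 8, 7, 3, 2]) (.leaf [1, 2, 3, 4, 5, 6, 7, 3, 2, 1, 4, 3, 2, 8, 7, 3, 2, 1, 4, 3, 5, 4, 7]) (.leaf [1, 2, 3, 4, 5, 6, 7, 3, 2, 1, 4, 5, 8, 7, 3, 2, 1, 4, 3, 2, 5, 4, 7, 3, 2, 1, 8]) (.leaf [])) (.node (.leaf [1, 0, 2, 3, 4, 5, 6, 7, 3, 2, 4, 3, 7, 8, 7, 3, 2, 1, 0]) (.leaf [1, 2, 3, 4, 5, 6, 7, 3, 2, 1, 4, 3, 5, 8, 7, 3, 2, 1, 0, 4, 3, 2, 5, 4]) (.leaf [1, 2, 3, 4, 5, 6, 7, 3, 2, 1, 4, 3, 2, 5, 4, 3, 8, 7, 3, 2, 1, 0, 4, 3, 2, 1, 7, 3, 2]) (.leaf []))) (.node (.node (.leaf [1, 0, 2, 3, 4, 5, 6, 7, 3, 8]) (.leaf [1, 2, 3, 4, 5, 6, 7,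 3, 2, 4, 3, 8, 7, 3, 2, 4, 3, 5, 4, 6]) (.leaf [1, 2, 3, 4, 5, 6, 7, 3, 2, 1, 4, 3, 2, 5, 4, 8, 7, 3, 2, 1, 0, 4, 3, 2, 1, 7]) (.leaf [1, 2, 3, 4, 5, 6, 7, 3, 2, 1, 4, 3, 2, 5, 7, 8, 7, 3, 2, 1, 4, 3, 2, 5, 7, 3, 4, 8, 7, 3])) (.node (.leaf [1, 2, 3, 4, 5, 6, 7, 3, 2, 1, 4, 8, 7, 3, 2]) (.leaf [1, 2, 3, 4, 5, 6, 7, 3, 2, 1, 4, 3, 2, 8, 7, 3, 2, 1, 0, 4, 3, 5]) (.leaf [1, 2, 3, 4, 5, 6, 7, 3, 2, 1, 4, 3, 2, 5, 4, 8, 7, 3, 2, 1, 0, 4, 3, 5, 6, 7, 8]) (.leaf [1, 2, 3, 4, 5, 6, 7, 3, 2, 1, 4, 3, 2, 5, 4, 8, 7, 3, 2, 1, 4, 3, 2, 5, 4, 7, 3, 2, 8, 7, 3, 4])) (.node (.leaf [1, 2, 3, 4, 5, 7, 3, 2, 4, 3, 7, 8, 7, 3, 2, 1, 4]) (.leaf [1, 2, 3, 4,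 5, 6, 7, 3, 2, 1, 4, 3, 7, 8, 7, 3, 2, 1, 0, 4, 3, 5, 4]) (.leaf [1, 2, 3, 4, 5, 6, 7, 3, 2, 1, 4, 3, 2, 5, 4, 8, 7, 3, 2, 1, 4, 3, 2, 5, 4, 3, 7, 8]) (.leaf [])) (.node (.leaf [1, 2, 3, 4, 5, 6, 7, 3, 2, 1, 4, 3, 7, 8, 7, 3, 2, 1, 4]) (.leaf [1, 2, 3, 4, 5, 6, 7, 3, 2, 4, 3, 5, 8, 7, 3, 2, 1, 4, 3, 2, 5, 4, 7, 3]) (.leaf [1, 2, 3, 4, 5, 6, 7, 3, 2, 1, 4, 3, 2, 5, 4, 8, 7, 3, 2, 1, 4, 3, 2, 5, 4, 6, 7, 3, 8]) (.leaf []))) (.node (.node (.leaf [1, 0, 2, 3, 4, 5, 6, 7, 3, 4, 5, 8]) (.leaf [1, 2, 3, 4, 5, 6, 7, 3, 2, 1, 4, 3, 2, 7, 8, 7, 3, 2, 4, 3, 5]) (.leaf [1, 2, 3, 4, 5, 6, 7, 3, 2, 1, 4, 3, 2, 5, 8, 7, 3, 2, 1, 4, 3, 2, 5, 4, 3, 7])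 (.leaf [1, 2, 3, 4, 5, 6, 7, 3, 2, 1, 4, 3, 5, 4, 8, 7, 3, 2, 1, 4, 3, 2, 5, 4, 6, 5, 7, 3, 8, 7])) (.node (.leaf [1, 0, 2, 3, 4, 5, 6, 7, 3, 4, 8, 7, 3, 2, 1, 0]) (.leaf [1, 2, 3, 4, 5, 6, 7, 3, 2, 1, 4, 3, 8, 7, 3, 2, 1, 4, 3, 2, 5, 4]) (.leaf [1, 2, 3, 4, 5, 6, 7, 3, 2, 1, 4, 3, 2, 5, 8, 7, 3, 2, 1, 4, 3, 2, 5, 4, 3, 7, 3]) (.leaf [1, 2, 3, 4, 5, 6, 7, 3, 2, 1, 4, 3, 2, 5, 4, 8, 7, 3, 2, 1, 4, 3, 2, 5, 4, 7, 3, 4, 8, 7, 3, 2, 1])) (.node (.leaf [1, 2, 3, 4, 5, 6, 7, 3, 2, 1, 4, 3, 2, 5, 4, 3, 8, 7]) (.leaf [1, 2, 3, 4, 5, 6, 7, 3, 2, 1, 4, 3, 2, 5, 4, 3, 8, 7, 3, 2, 1, 4, 3, 2]) (.leaf [1, 2, 3, 4, 5, 6, 7, 3, 2, 1, 4, 3, 2, 5, 8, 7,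 3, 2, 1, 0, 4, 3, 2, 5, 6, 7, 3, 8]) (.leaf [])) (.node (.leaf [1, 2, 3, 4, 5, 6, 7, 3, 2, 4, 3, 7, 8, 7, 3, 2, 1, 4, 3]) (.leaf [1, 2, 3, 4, 5, 6, 7, 3, 2, 1, 4, 3, 2, 5, 7, 8, 7, 3, 2, 1, 4, 3, 5, 7, 8]) (.leaf [1, 2, 3, 4, 5, 6, 7, 3, 2, 1, 4, 3, 2, 5, 8, 7, 3, 2, 1, 4, 3, 2, 5, 4, 6, 5, 7, 3, 8]) (.leaf []))) (.node (.node (.leaf [1, 2, 3, 4, 7, 3, 2, 1, 8, 7, 3, 4, 5]) (.leaf [1, 2, 3, 4, 5, 6, 7, 3, 2, 1, 4, 3, 8, 7, 3, 2, 1, 4, 3, 5, 6]) (.leaf [1, 2, 3, 4, 5, 6, 7, 3, 2, 1, 4, 3, 5, 4, 8, 7, 3, 2, 1, 4, 3, 2, 5, 4, 7, 8]) (.leaf [1, 2, 3, 4, 5, 6, 7, 3, 2, 1, 4, 3, 2, 5, 4, 8, 7, 3, 2, 1, 0, 4, 3, 2, 5, 4, 7, 3, 2, 8, 7])) (.node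 (.leaf [1, 2, 3, 4, 5, 7, 3, 2, 4, 3, 7, 8, 7, 3, 4, 5]) (.leaf [1, 2, 3, 4, 5, 6, 7, 3, 2, 4, 5, 8, 7, 3, 2, 1, 4, 3, 2, 5, 6, 7]) (.leaf [1, 2, 3, 4, 5, 6, 7, 3, 2, 1, 4, 3, 5, 4, 8, 7, 3, 2, 1, 4, 3, 2, 5, 4, 7, 3, 4]) (.leaf [])) (.node (.leaf [1, 2, 3, 4, 5, 7, 3, 2, 1, 4, 8, 7, 3, 2, 1, 4, 5, 6]) (.leaf [1, 2, 3, 4, 5, 6, 7, 3, 2, 1, 4, 3, 2, 7, 8, 7, 3, 2, 1, 4, 3, 2, 5, 4]) (.leaf [1, 2, 3, 4, 5, 6, 7, 3, 2, 1, 4, 3, 5, 4, 8, 7, 3, 2, 1, 4, 3, 2, 5, 4, 6, 5, 7, 3]) (.leaf [])) (.node (.leaf [1, 2, 3, 4, 5, 6, 7, 3, 2, 1, 4, 3, 2, 5, 7, 8, 7, 3, 4, 5]) (.leaf [1, 2, 3, 4, 5, 6, 7, 3, 2, 1, 4, 3, 5, 4, 8, 7, 3, 2, 1, 0, 4, 3, 5, 7,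 8]) (.leaf [1, 2, 3, 4, 5, 6, 7, 3, 2, 1, 4, 3, 5, 4, 8, 7, 3, 2, 1, 4, 3, 2, 5, 7, 3, 4, 5, 6, 8]) (.leaf [])))) (.node (.node (.node (.leaf [1, 0, 2, 1, 3, 4, 5, 7, 8]) (.leaf [1, 2, 3, 4, 5, 6, 7, 3, 2, 1, 4, 5, 8, 7, 3, 2, 1, 4, 5, 6]) (.leaf [1, 2, 3, 4, 5, 6, 7, 3, 2, 1, 4, 5, 8, 7, 3, 2, 1, 4, 3, 2, 5, 4, 7, 3, 8]) (.leaf [1, 2, 3, 4, 5, 6, 7, 3, 2, 1, 4, 3, 2, 5, 4, 8, 7, 3, 2, 1, 0, 4, 3, 2, 5, 4, 6, 5, 7, 8])) (.node (.leaf [1, 2, 3, 4, 5, 6, 7, 3, 4, 5, 8, 7, 3, 4]) (.leaf [1, 0, 2, 3, 4, 5, 6, 7, 3, 2, 4, 3, 5, 4, 8, 7, 3, 2, 4, 3, 5, 7]) (.leaf [1, 2, 3, 4, 5, 6, 7, 3, 2, 4, 3, 5, 4, 8, 7, 3, 2, 1, 4, 3, 2, 5, 7, 3, 4, 5])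 (.leaf [1, 2, 3, 4, 5, 6, 7, 3, 2, 1, 4, 3, 5, 4, 8, 7, 3, 2, 1, 4, 3, 2, 5, 4, 7, 3, 2, 1, 4, 8, 7])) (.node (.leaf [1, 2, 3, 4, 5, 6, 7, 3, 2, 1, 4, 3, 8, 7, 3, 2, 1]) (.leaf [1, 2, 3, 4, 5, 6, 7, 3, 2, 1, 4, 3, 5, 4, 8, 7, 3, 2, 1, 0, 4, 3, 2]) (.leaf [1, 2, 3, 4, 5, 6, 7, 3, 2, 1, 4, 3, 2, 5, 4, 3, 8, 7, 3, 2, 1, 0, 4, 3, 5, 4, 7, 8]) (.leaf [])) (.node (.leaf [1, 0, 2, 3, 4, 5, 6, 7, 3, 2, 4, 8, 7, 3, 2, 1, 0, 4, 5]) (.leaf [1, 2, 3, 4, 5, 6, 7, 3, 2, 1, 4, 3, 5, 8, 7, 3, 2, 1, 4, 3, 5, 4, 6, 5]) (.leaf [1, 2, 3, 4, 5, 6, 7, 3, 2, 1, 4, 3, 2, 5, 4, 3, 8, 7, 3, 2, 1, 4, 3, 5, 4, 7, 3, 8, 7]) (.leaf []))) (.node (.node (.leaf [1, 2,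 3, 4, 5, 7, 3, 2, 8, 7]) (.leaf [1, 0, 2, 3, 4, 5, 6, 7, 3, 2, 4, 3, 5, 4, 8, 7, 3, 2, 1, 4, 5]) (.leaf [1, 2, 3, 4, 5, 6, 7, 3, 2, 1, 4, 3, 2, 5, 4, 8, 7, 3, 2, 1, 4, 3, 2, 7, 3, 4]) (.leaf [1, 2, 3, 4, 5, 6, 7, 3, 2, 1, 4, 3, 2, 5, 8, 7, 3, 2, 1, 0, 4, 3, 2, 5, 7, 3, 4, 8, 7, 3])) (.node (.leaf [1, 2, 3, 4, 5, 6, 7, 3, 2, 4, 3, 5, 7, 8, 7]) (.leaf [1, 2, 3, 4, 5, 6, 7, 3, 2, 1, 4, 3, 5, 4, 7, 8, 7, 3, 2, 1, 4, 3]) (.leaf [1, 2, 3, 4, 5, 6, 7, 3, 2, 1, 4, 3, 2, 5, 4, 8, 7, 3, 2, 1, 4, 3, 5, 4, 6, 7, 8]) (.leaf [1, 2, 3, 4, 5, 6, 7, 3, 2, 1, 4, 3, 2, 5, 8, 7, 3, 2, 1, 0, 4, 3, 2, 5, 4, 7, 3, 2, 4, 8, 7, 3])) (.node (.leaf [1, 2, 3, 4, 5,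 6, 7, 3, 2, 4, 8, 7, 3, 2, 4, 5, 6]) (.leaf [1, 2, 3, 4, 5, 6, 7, 3, 2, 1, 4, 5, 8, 7, 3, 2, 1, 0, 4, 3, 5, 7, 8]) (.leaf [1, 2, 3, 4, 5, 6, 7, 3, 2, 1, 4, 3, 2, 5, 4, 8, 7, 3, 2, 1, 4, 3, 5, 4, 6, 7, 3, 8]) (.leaf [])) (.node (.leaf [1, 2, 3, 4, 5, 7, 3, 2, 1, 4, 3, 8, 7, 3, 2, 1, 0, 4, 3]) (.leaf [1, 2, 3, 4, 5, 6, 7, 3, 2, 1, 4, 3, 2, 5, 4, 3, 8, 7, 3, 2, 1, 4, 3, 7, 8]) (.leaf [1, 2, 3, 4, 5, 6, 7, 3, 2, 1, 4, 3, 2, 5, 4, 8, 7, 3, 2, 1, 4, 3, 5, 4, 7, 3, 2, 8, 7]) (.leaf []))) (.node (.node (.leaf [1, 2, 3, 4, 7, 3, 2, 1, 8, 7, 3, 2]) (.leaf [1, 2, 3, 4, 5, 6, 7, 3, 2, 1, 4, 8, 7, 3, 2, 1, 0, 4, 3, 7, 8]) (.leaf [1, 2, 3, 4, 5, 6, 7,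 3, 2, 1, 4, 3, 2, 5, 8, 7, 3, 2, 1, 4, 3, 5, 4, 7, 3, 8]) (.leaf [1, 2, 3, 4, 5, 6, 7, 3, 2, 1, 4, 3, 5, 8, 7, 3, 2, 1, 4, 3, 2, 5, 4, 3, 7, 3, 2, 1, 0, 8])) (.node (.leaf [1, 2, 3, 4, 5, 7, 3, 2, 1, 4, 3, 2, 7, 3, 8, 7]) (.leaf [1, 2, 3, 4, 5, 6, 7, 3, 2, 1, 4, 5, 8, 7, 3, 2, 1, 4, 3, 5, 4, 6]) (.leaf [1, 2, 3, 4, 5, 6, 7, 3, 2, 1, 4, 3, 2, 5, 8, 7, 3, 2, 1, 4, 3, 5, 4, 6, 5, 7, 8]) (.leaf [])) (.node (.leaf [1, 2, 3, 4, 5, 7, 3, 2, 1, 4, 3, 2, 8, 7, 3, 2, 1, 0]) (.leaf [1, 2, 3, 4, 5, 6, 7, 3, 2, 1, 4, 3, 2, 5, 4, 8, 7, 3, 2, 1, 0, 4, 3, 7]) (.leaf [1, 2, 3, 4, 5, 6, 7, 3, 2, 1, 4, 3, 2, 5, 8, 7, 3, 2, 1, 4, 3, 2, 5, 6, 7, 3, 4, 5]) (.leaf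 [])) (.node (.leaf [1, 2, 3, 4, 5, 6, 7, 3, 2, 4, 5, 8, 7, 3, 2, 1, 4, 5, 6]) (.leaf [1, 2, 3, 4, 5, 6, 7, 3, 2, 1, 4, 3, 2, 5, 8, 7, 3, 2, 1, 4, 3, 2, 5, 6, 7]) (.leaf [1, 2, 3, 4, 5, 6, 7, 3, 2, 1, 4, 3, 2, 5, 8, 7, 3, 2, 1, 4, 3, 2, 5, 7, 3, 4, 5, 6, 8]) (.leaf []))) (.node (.node (.leaf [1, 2, 3, 4, 5, 6, 7, 3, 4, 8, 7, 3, 2]) (.leaf [1, 2, 3, 4, 5, 6, 7, 3, 2, 1, 4, 5, 8, 7, 3, 2, 4, 3, 5, 6, 7]) (.leaf [1, 2, 3, 4, 5, 6, 7, 3, 2, 1, 4, 3, 5, 4, 8, 7, 3, 2, 4, 3, 5, 4, 7, 3, 8, 7]) (.leaf [1, 2, 3, 4, 5, 6, 7, 3, 2, 1, 4, 3, 2, 5, 4, 8, 7, 3, 2, 1, 4, 3, 2, 5, 4, 7, 3, 4, 5, 6, 8])) (.node (.leaf [1, 2, 3, 4, 5, 6, 7, 3, 4, 5, 8, 7,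 3, 2, 1, 0]) (.leaf [1, 2, 3, 4, 5, 6, 7, 3, 2, 1, 4, 3, 2, 5, 4, 7, 8, 7, 3, 2, 1, 4, 3]) (.leaf [1, 2, 3, 4, 5, 6, 7, 3, 2, 1, 4, 3, 5, 4, 8, 7, 3, 2, 4, 3, 5, 4, 7, 3, 2, 8, 7]) (.leaf [])) (.node (.leaf [1, 2, 3, 4, 5, 6, 7, 3, 2, 4, 3, 5, 8, 7, 3, 2, 1, 4]) (.leaf [1, 2, 3, 4, 5, 6, 7, 3, 2, 1, 4, 3, 5, 4, 7, 8, 7, 3, 2, 1, 4, 3, 5, 6]) (.leaf [1, 2, 3, 4, 5, 6, 7, 3, 2, 1, 4, 3, 5, 4, 8, 7, 3, 2, 1, 4, 3, 5, 4, 7, 3, 2, 1, 8]) (.leaf [])) (.node (.leaf [1, 2, 3, 4, 5, 6, 7, 3, 2, 1, 4, 3, 2, 8, 7, 3, 2, 4, 5, 6]) (.leaf [1, 2, 3, 4, 5, 6, 7, 3, 2, 1, 4, 3, 5, 4, 8, 7, 3, 2, 4, 3, 5, 4, 6, 7, 8]) (.leaf [1, 2, 3, 4, 5, 6, 7, 3, 2,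 1, 4, 3, 5, 8, 7, 3, 2, 1, 4, 3, 2, 5, 4, 3, 7, 3, 2, 1, 8]) (.leaf [])))))
def pathTree8 : SporBound.Q (List ℕ) := (.node (.node (.node (.node (.leaf [1, 0, 2, 1, 3, 2, 4, 7]) (.leaf [1, 2, 3, 4, 5, 6, 7, 3, 2, 1, 4, 3, 5, 4, 7, 8, 7, 3, 4, 5]) (.leaf [1, 2, 3, 4, 5, 6, 7, 3, 2, 1, 4, 3, 5, 7, 8, 7, 3, 2, 1, 4, 3, 5, 4, 7, 3]) (.leaf [1, 2, 3, 4, 5, 6, 7, 3, 2, 1, 4, 5, 8, 7, 3, 2, 1, 4, 3, 2, 5, 4, 6, 7, 3, 4, 5, 8, 7])) (.node (.leaf [1, 0, 2, 3, 4, 5, 6, 7, 3, 4, 8, 7, 3, 2]) (.leaf [1, 2, 3, 4, 5, 6, 7, 3, 2, 4, 3, 5, 4, 8, 7, 3, 2, 1, 4, 3, 5]) (.leaf [1, 2, 3, 4, 5, 6, 7, 3, 2, 1, 4, 3, 5, 8, 7, 3, 2, 1, 0, 4, 3, 2, 5, 6, 7, 8])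 (.leaf [1, 2, 3, 4, 5, 6, 7, 3, 2, 1, 4, 3, 2, 5, 7, 8, 7, 3, 2, 1, 4, 3, 2, 5, 7, 3, 4, 8, 7, 3, 2])) (.node (.leaf [1, 0, 2, 3, 4, 5, 7, 3, 2, 4, 3, 7, 8, 7, 3, 4, 5]) (.leaf [1, 2, 3, 4, 5, 6, 7, 3, 2, 1, 4, 3, 2, 5, 7, 8, 7, 3, 2, 1, 0, 4, 3]) (.leaf [1, 2, 3, 4, 5, 6, 7, 3, 2, 1, 4, 3, 5, 8, 7, 3, 2, 1, 4, 3, 2, 5, 4, 3, 7, 3, 2]) (.leaf [])) (.node (.leaf [1, 2, 3, 4, 5, 7, 3, 2, 4, 3, 7, 8, 7, 3, 2, 4, 5, 6]) (.leaf [1, 2, 3, 4, 5, 6, 7, 3, 2, 1, 4, 3, 5, 4, 8, 7, 3, 2, 1, 4, 3, 2, 7, 3]) (.leaf [1, 2, 3, 4, 5, 6, 7, 3, 2, 1, 4, 3, 5, 8, 7, 3, 2, 1, 4, 3, 2, 5, 4, 3, 7, 3, 2, 8]) (.leaf []))) (.node (.node (.leaf [1, 0, 2, 3, 4,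 5, 7, 3, 4]) (.leaf [1, 2, 3, 4, 5, 6, 7, 3, 2, 4, 3, 5, 4, 7, 8, 7, 3, 2, 4, 3]) (.leaf [1, 2, 3, 4, 5, 6, 7, 3, 2, 4, 3, 5, 8, 7, 3, 2, 1, 4, 3, 2, 5, 4, 3, 7, 8]) (.leaf [1, 2, 3, 4, 5, 6, 7, 3, 2, 1, 4, 3, 2, 5, 4, 8, 7, 3, 2, 1, 4, 3, 2, 5, 4, 6, 5, 7, 3, 8])) (.node (.leaf [1, 0, 2, 3, 4, 5, 7, 3, 2, 4, 8, 7, 3, 4, 5]) (.leaf [1, 2, 3, 4, 5, 6, 7, 3, 2, 1, 4, 3, 2, 5, 4, 7, 8, 7, 3, 2, 4, 5]) (.leaf [1, 2, 3, 4, 5, 6, 7, 3, 2, 1, 4, 3, 2, 5, 4, 3, 8, 7, 3, 2, 1, 4, 3, 5, 4, 7, 8]) (.leaf [1, 2, 3, 4, 5, 6, 7, 3, 2, 1, 4, 3, 2, 5, 4, 3, 8, 7, 3, 2, 1, 0, 4, 3, 2, 1, 7, 3, 4, 8, 7, 3])) (.node (.leaf [1, 2, 3, 4, 5, 6, 7, 3, 2, 1, 4,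 8, 7, 3, 2, 4, 5]) (.leaf [1, 2, 3, 4, 5, 6, 7, 3, 2, 1, 4, 3, 5, 7, 8, 7, 3, 2, 1, 4, 3, 2, 5]) (.leaf [1, 2, 3, 4, 5, 6, 7, 3, 2, 1, 4, 3, 2, 5, 4, 7, 8, 7, 3, 2, 1, 4, 3, 2, 5, 7, 3, 4]) (.leaf [])) (.node (.leaf [1, 2, 3, 4, 5, 6, 7, 3, 2, 1, 4, 3, 2, 7, 8, 7, 3, 4, 5]) (.leaf [1, 2, 3, 4, 5, 6, 7, 3, 2, 1, 4, 5, 8, 7, 3, 2, 1, 0, 4, 3, 5, 4, 6, 7]) (.leaf [1, 2, 3, 4, 5, 6, 7, 3, 2, 1, 4, 3, 2, 5, 4, 8, 7, 3, 2, 1, 0, 4, 3, 2, 1, 5, 4, 7, 3]) (.leaf []))) (.node (.node (.leaf [1, 0, 2, 1, 3, 4, 5, 6, 7, 3, 4, 8]) (.leaf [1, 0, 2, 3, 4, 5, 6, 7, 3, 2, 4, 5, 8, 7, 3, 2, 1, 0, 4, 3, 5]) (.leaf [1, 2, 3, 4, 5, 6, 7, 3, 2, 1, 4, 3, 2, 5,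 7, 8, 7, 3, 2, 1, 0, 4, 3, 2, 1, 5]) (.leaf [1, 2, 3, 4, 5, 6, 7, 3, 2, 1, 4, 3, 2, 5, 8, 7, 3, 2, 1, 4, 3, 2, 5, 4, 7, 3, 4, 5, 8, 7])) (.node (.leaf [1, 2, 3, 4, 5, 7, 3, 2, 4, 8, 7, 3, 2, 4, 5]) (.leaf [1, 2, 3, 4, 5, 6, 7, 3, 2, 1, 4, 3, 5, 7, 8, 7, 3, 2, 1, 4, 3, 2]) (.leaf [1, 2, 3, 4, 5, 6, 7, 3, 2, 1, 4, 3, 2, 5, 7, 8, 7, 3, 2, 1, 0, 4, 3, 2, 1, 7, 8]) (.leaf [1, 2, 3, 4, 5, 6, 7, 3, 2, 1, 4, 3, 2, 5, 8, 7, 3, 2, 1, 4, 3, 2, 5, 6, 7, 3, 4, 5, 8, 7, 3, 4])) (.node (.leaf [1, 0, 2, 3, 4, 5, 6, 7, 3, 2, 4, 3, 7, 8, 7, 3, 2, 1]) (.leaf [1, 2, 3, 4, 5, 6, 7, 3, 2, 1, 4, 8, 7, 3, 2, 4, 3, 5, 4, 7, 3, 2, 1]) (.leaf [1, 2, 3, 4, 5, 6, 7,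 3, 2, 1, 4, 3, 2, 5, 7, 3, 8, 7, 3, 2, 1, 4, 3, 2, 7, 3, 8, 7]) (.leaf [])) (.node (.leaf [1, 2, 3, 4, 5, 6, 7, 3, 2, 1, 4, 8, 7, 3, 2, 1, 4, 5, 6]) (.leaf [1, 2, 3, 4, 5, 6, 7, 3, 2, 1, 4, 3, 2, 5, 4, 8, 7, 3, 2, 1, 0, 4, 3, 5, 7]) (.leaf [1, 2, 3, 4, 5, 6, 7, 3, 2, 1, 4, 3, 2, 5, 7, 8, 7, 3, 2, 1, 4, 3, 2, 5, 4, 3, 7, 3, 4]) (.leaf []))) (.node (.node (.leaf [1, 0, 2, 3, 4, 5, 6, 7, 3, 2, 4, 3, 7]) (.leaf [1, 2, 3, 4, 5, 6, 7, 3, 2, 1, 4, 3, 5, 7, 8, 7, 3, 2, 1, 4, 3]) (.leaf [1, 2, 3, 4, 5, 6, 7, 3, 2, 1, 4, 3, 5, 4, 7, 8, 7, 3, 2, 1, 4, 3, 2, 5, 4, 7]) (.leaf [1, 2, 3, 4, 5, 6, 7, 3, 2, 1, 4, 3, 2, 5, 4, 3, 8, 7, 3, 2, 1, 0, 4, 3, 2,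 7, 3, 4, 5, 8, 7])) (.node (.leaf [1, 2, 3, 4, 5, 6, 7, 3, 2, 1, 4, 5, 8, 7, 3, 2]) (.leaf [1, 2, 3, 4, 5, 6, 7, 3, 2, 4, 3, 5, 4, 7, 8, 7, 3, 2, 4, 3, 5, 6]) (.leaf [1, 2, 3, 4, 5, 6, 7, 3, 2, 1, 4, 3, 5, 4, 7, 8, 7, 3, 2, 1, 4, 3, 2, 5, 4, 7, 8]) (.leaf [])) (.node (.leaf [1, 2, 3, 4, 5, 6, 7, 3, 2, 1, 4, 3, 8, 7, 3, 2, 1, 0]) (.leaf [1, 2, 3, 4, 5, 6, 7, 3, 2, 1, 4, 3, 2, 5, 7, 8, 7, 3, 2, 1, 0, 4, 3, 5]) (.leaf [1, 2, 3, 4, 5, 6, 7, 3, 2, 1, 4, 3, 5, 4, 7, 8, 7, 3, 2, 1, 4, 3, 2, 5, 4, 3, 7, 8]) (.leaf [])) (.node (.leaf [1, 0, 2, 3, 4, 5, 6, 7, 3, 2, 4, 3, 5, 7, 8, 7, 3, 2, 4, 5]) (.leaf [1, 2, 3, 4, 5, 6, 7, 3, 2, 1, 4, 3, 2, 8, 7,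 3, 2, 1, 0, 4, 3, 5, 4, 7, 3]) (.leaf [1, 2, 3, 4, 5, 6, 7, 3, 2, 1, 4, 3, 5, 4, 7, 8, 7, 3, 2, 4, 3, 5, 4, 7, 3, 2, 1, 8, 7]) (.leaf [])))) (.node (.node (.node (.leaf [1, 0, 2, 3, 4, 5, 7]) (.leaf [1, 2, 3, 4, 5, 6, 7, 3, 2, 1, 4, 3, 5, 8, 7, 3, 2, 4, 5, 6]) (.leaf [1, 2, 3, 4, 5, 6, 7, 3, 2, 1, 4, 3, 5, 8, 7, 3, 2, 1, 4, 3, 2, 5, 4, 6, 7]) (.leaf [1, 2, 3, 4, 5, 6, 7, 3, 2, 1, 4, 3, 2, 5, 4, 3, 8, 7, 3, 2, 1, 4, 3, 2, 7, 3, 4, 8, 7, 3])) (.node (.leaf [1, 2, 3, 4, 5, 7, 3, 2, 1, 4, 3, 7, 8, 7]) (.leaf [1, 2, 3, 4, 5, 6, 7, 3, 2, 4, 3, 5, 7, 8, 7, 3, 2, 4, 3, 7, 8]) (.leaf [1, 2, 3, 4, 5, 6, 7, 3, 2, 1, 4, 3, 5, 8, 7, 3, 2, 1, 4, 3, 2,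 7, 3, 4, 5, 8]) (.leaf [1, 2, 3, 4, 5, 6, 7, 3, 2, 1, 4, 3, 2, 5, 8, 7, 3, 2, 1, 4, 3, 2, 5, 4, 6, 7, 3, 4, 5, 6, 8])) (.node (.leaf [1, 0, 2, 3, 4, 5, 6, 7, 3, 4, 5, 8, 7, 3, 2, 1, 0]) (.leaf [1, 2, 3, 4, 5, 6, 7, 3, 2, 1, 4, 3, 2, 5, 8, 7, 3, 2, 1, 4, 3, 5, 7]) (.leaf [1, 2, 3, 4, 5, 6, 7, 3, 2, 1, 4, 3, 5, 8, 7, 3, 2, 1, 4, 3, 5, 4, 7, 3, 2, 1, 8]) (.leaf [])) (.node (.leaf [1, 2, 3, 4, 5, 6, 7, 3, 4, 5, 8, 7, 3, 2, 4, 3, 7, 8]) (.leaf [1, 2, 3, 4, 5, 6, 7, 3, 2, 1, 4, 3, 5, 7, 8, 7, 3, 2, 1, 0, 4, 3, 7, 8]) (.leaf [1, 2, 3, 4, 5, 6, 7, 3, 2, 1, 4, 3, 5, 8, 7, 3, 2, 1, 4, 3, 2, 5, 7, 3, 4, 5, 6, 8]) (.leaf []))) (.node (.node (.leaf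 [1, 2, 3, 4, 7, 3, 2, 1, 8]) (.leaf [1, 2, 3, 4, 5, 6, 7, 3, 2, 4, 3, 5, 8, 7, 3, 2, 1, 0, 4, 5]) (.leaf [1, 2, 3, 4, 5, 6, 7, 3, 2, 1, 4, 3, 2, 5, 4, 3, 8, 7, 3, 2, 1, 4, 3, 5, 6, 7]) (.leaf [1, 2, 3, 4, 5, 6, 7, 3, 2, 1, 4, 3, 2, 5, 4, 8, 7, 3, 2, 4, 3, 5, 4, 6, 5, 7, 3, 4, 8, 7])) (.node (.leaf [1, 2, 3, 4, 5, 6, 7, 3, 2, 1, 4, 3, 2, 8, 7]) (.leaf [1, 2, 3, 4, 5, 6, 7, 3, 2, 1, 4, 3, 2, 5, 8, 7, 3, 2, 1, 0, 4, 5]) (.leaf [1, 2, 3, 4, 5, 6, 7, 3, 2, 1, 4, 3, 2, 5, 4, 8, 7, 3, 2, 1, 0, 4, 3, 2, 1, 5, 7]) (.leaf [1, 2, 3, 4, 5, 6, 7, 3, 2, 1, 4, 3, 2, 5, 4, 8, 7, 3, 2, 1, 0, 4, 3, 2, 5, 4, 3, 6, 7, 3, 8, 7])) (.node (.leaf [1, 2, 3, 4,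 5, 6, 7, 3, 2, 4, 3, 5, 4, 8, 7, 3, 4]) (.leaf [1, 2, 3, 4, 5, 6, 7, 3, 2, 1, 4, 3, 5, 8, 7, 3, 2, 1, 0, 4, 3, 7, 8]) (.leaf [1, 2, 3, 4, 5, 6, 7, 3, 2, 1, 4, 3, 2, 5, 4, 8, 7, 3, 2, 1, 0, 4, 3, 2, 5, 4, 6, 7]) (.leaf [])) (.node (.leaf [1, 2, 3, 4, 5, 6, 7, 3, 2, 1, 4, 3, 5, 4, 7, 3, 8, 7, 3]) (.leaf [1, 2, 3, 4, 5, 6, 7, 3, 2, 1, 4, 5, 8, 7, 3, 2, 4, 3, 5, 4, 7, 3, 2, 1]) (.leaf [1, 2, 3, 4, 5, 6, 7, 3, 2, 1, 4, 3, 2, 5, 4, 8, 7, 3, 2, 1, 0, 4, 3, 2, 5, 7, 3, 4, 5]) (.leaf []))) (.node (.node (.leaf [1, 2, 3, 4, 5, 6, 7, 3, 2, 8, 7]) (.leaf [1, 2, 3, 4, 5, 6, 7, 3, 2, 1, 4, 3, 2, 5, 7, 3, 8, 7, 3, 2, 4]) (.leaf [1, 2, 3, 4, 5, 6, 7, 3,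 2, 1, 4, 3, 2, 5, 8, 7, 3, 2, 1, 0, 4, 3, 2, 1, 5, 6]) (.leaf [1, 2, 3, 4, 5, 6, 7, 3, 2, 1, 4, 3, 5, 4, 7, 8, 7, 3, 2, 4, 3, 5, 4, 7, 3, 2, 1, 0, 8, 7])) (.node (.leaf [1, 0, 2, 3, 4, 5, 7, 3, 2, 4, 3, 8, 7, 3, 2, 1]) (.leaf [1, 2, 3, 4, 5, 6, 7, 3, 2, 1, 4, 3, 5, 8, 7, 3, 2, 1, 4, 3, 5, 7]) (.leaf [1, 2, 3, 4, 5, 6, 7, 3, 2, 1, 4, 3, 2, 5, 8, 7, 3, 2, 1, 0, 4, 3, 2, 1, 5, 4, 7]) (.leaf [1, 2, 3, 4, 5, 6, 7, 3, 2, 1, 4, 3, 2, 5, 4, 7, 8, 7, 3, 2, 1, 4, 3, 2, 5, 4, 7, 3, 4, 8, 7, 3, 2])) (.node (.leaf [1, 0, 2, 3, 4, 5, 6, 7, 3, 2, 4, 5, 8, 7, 3, 2, 1, 4]) (.leaf [1, 2, 3, 4, 5, 6, 7, 3, 2, 4, 3, 5, 7, 8, 7, 3, 2, 1, 0, 4, 3, 2, 5]) (.leaf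 [1, 2, 3, 4, 5, 6, 7, 3, 2, 1, 4, 3, 2, 5, 7, 8, 7, 3, 2, 1, 4, 3, 2, 7, 3, 4, 5, 8]) (.leaf [])) (.node (.leaf [1, 2, 3, 4, 5, 6, 7, 3, 2, 4, 3, 5, 4, 8, 7, 3, 2, 4, 3]) (.leaf [1, 2, 3, 4, 5, 6, 7, 3, 2, 1, 4, 3, 2, 5, 7, 3, 8, 7, 3, 2, 1, 0, 4, 3, 2]) (.leaf [1, 2, 3, 4, 5, 6, 7, 3, 2, 1, 4, 3, 2, 5, 8, 7, 3, 2, 1, 0, 4, 3, 2, 5, 4, 3, 7, 3, 8]) (.leaf []))) (.node (.node (.leaf [1, 2, 3, 4, 5, 6, 7, 3, 2, 1, 4, 3, 2]) (.leaf [1, 2, 3, 4, 5, 6, 7, 3, 2, 1, 4, 3, 7, 8, 7, 3, 2, 1, 0, 4, 5]) (.leaf [1, 2, 3, 4, 5, 6, 7, 3, 2, 1, 4, 3, 5, 4, 8, 7, 3, 2, 1, 0, 4, 3, 2, 5, 4, 7]) (.leaf [1, 2, 3, 4, 5, 6, 7, 3, 2, 1, 4, 3, 2, 5, 4, 7, 8,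 7, 3, 2, 1, 4, 3, 2, 5, 4, 7, 3, 2, 8, 7])) (.node (.leaf [1, 2, 3, 4, 7, 3, 2, 1, 8, 7, 3, 2, 4, 3, 5, 6]) (.leaf [1, 2, 3, 4, 5, 6, 7, 3, 2, 4, 3, 5, 7, 8, 7, 3, 2, 1, 0, 4, 3, 5]) (.leaf [1, 2, 3, 4, 5, 6, 7, 3, 2, 1, 4, 3, 5, 4, 8, 7, 3, 2, 1, 0, 4, 3, 2, 5, 4, 7, 8]) (.leaf [])) (.node (.leaf [1, 2, 3, 4, 5, 6, 7, 3, 2, 1, 4, 5, 8, 7, 3, 2, 1, 0]) (.leaf [1, 2, 3, 4, 5, 6, 7, 3, 2, 1, 4, 3, 2, 5, 8, 7, 3, 2, 1, 4, 3, 2, 5, 4]) (.leaf [1, 2, 3, 4, 5, 6, 7, 3, 2, 1, 4, 3, 5, 4, 8, 7, 3, 2, 1, 0, 4, 3, 2, 5, 4, 3, 7, 8]) (.leaf [])) (.node (.leaf [1, 0, 2, 3, 4, 5, 6, 7, 3, 2, 4, 5, 8, 7, 3, 2, 1, 4, 5, 6]) (.leaf [1, 2, 3, 4, 5, 6, 7,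 3, 2, 1, 4, 3, 5, 4, 7, 8, 7, 3, 2, 1, 4, 3, 5, 7, 8]) (.leaf [1, 2, 3, 4, 5, 6, 7, 3, 2, 1, 4, 3, 5, 4, 8, 7, 3, 2, 1, 4, 3, 2, 5, 4, 3, 7, 3, 2, 8]) (.leaf [])))) (.node (.node (.node (.leaf [1, 2, 3, 4, 5, 7, 3]) (.leaf [1, 2, 3, 4, 5, 7, 3, 2, 1, 4, 3, 7, 8, 7, 3, 2, 1, 0, 4, 3]) (.leaf [1, 2, 3, 4, 5, 6, 7, 3, 2, 1, 4, 3, 8, 7, 3, 2, 1, 4, 3, 2, 5, 4, 3, 7, 8]) (.leaf [1, 2, 3, 4, 5, 6, 7, 3, 2, 1, 4, 3, 2, 5, 4, 7, 8, 7, 3, 2, 1, 4, 3, 5, 4, 7, 3, 2, 8, 7])) (.node (.leaf [1, 2, 3, 4, 5, 6, 7, 3, 2, 4, 3, 5, 8, 7]) (.leaf [1, 2, 3, 4, 5, 6, 7, 3, 2, 4, 5, 8, 7, 3, 2, 1, 4, 3, 2, 5, 6]) (.leaf [1, 2, 3, 4, 5, 6, 7, 3, 2, 1, 4, 5, 8,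 7, 3, 2, 1, 4, 3, 2, 5, 4, 6, 7, 3, 4]) (.leaf [1, 2, 3, 4, 5, 6, 7, 3, 2, 1, 4, 3, 2, 5, 8, 7, 3, 2, 1, 4, 3, 2, 5, 7, 3, 4, 8, 7, 3, 2, 1])) (.node (.leaf [1, 2, 3, 4, 5, 6, 7, 3, 2, 1, 4, 3, 2, 8, 7, 3, 4]) (.leaf [1, 2, 3, 4, 5, 6, 7, 3, 2, 1, 4, 3, 2, 8, 7, 3, 2, 1, 4, 3, 5, 7, 8]) (.leaf [1, 2, 3, 4, 5, 6, 7, 3, 2, 1, 4, 5, 8, 7, 3, 2, 1, 4, 3, 2, 5, 4, 7, 3, 2, 4, 5]) (.leaf [])) (.node (.leaf [1, 0, 2, 3, 4, 5, 6, 7, 3, 2, 4, 3, 7, 8, 7, 3, 2, 1, 4]) (.leaf [1, 2, 3, 4, 5, 6, 7, 3, 2, 1, 4, 3, 5, 8, 7, 3, 2, 1, 0, 4, 3, 2, 5, 6]) (.leaf [1, 2, 3, 4, 5, 6, 7, 3, 2, 1, 4, 3, 2, 5, 4, 3, 8, 7, 3, 2, 1, 0, 4, 3, 2, 1, 7, 3, 4]) (.leaf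 []))) (.node (.node (.leaf [1, 0, 2, 3, 4, 5, 7, 3, 8, 7]) (.leaf [1, 2, 3, 4, 5, 6, 7, 3, 2, 4, 5, 8, 7, 3, 2, 1, 0, 4, 3, 2]) (.leaf [1, 2, 3, 4, 5, 6, 7, 3, 2, 1, 4, 3, 2, 5, 4, 8, 7, 3, 2, 1, 0, 4, 3, 2, 5, 4]) (.leaf [1, 2, 3, 4, 5, 6, 7, 3, 2, 1, 4, 3, 2, 5, 7, 8, 7, 3, 2, 1, 4, 3, 2, 7, 3, 4, 5, 6, 8, 7])) (.node (.leaf [1, 2, 3, 4, 5, 6, 7, 3, 2, 1, 4, 8, 7, 3, 4]) (.leaf [1, 2, 3, 4, 5, 6, 7, 3, 2, 1, 4, 3, 2, 8, 7, 3, 2, 1, 0, 4, 3, 7]) (.leaf [1, 2, 3, 4, 5, 6, 7, 3, 2, 1, 4, 3, 2, 5, 4, 8, 7, 3, 2, 1, 4, 3, 2, 5, 4, 3, 6]) (.leaf [1, 2, 3, 4, 5, 6, 7, 3, 2, 1, 4, 3, 2, 5, 4, 8, 7, 3, 2, 1, 4, 3, 2, 5, 4, 7, 3, 4, 5, 6, 8, 7]))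 (.node (.leaf [1, 2, 3, 4, 5, 7, 3, 2, 4, 3, 7, 8, 7, 3, 2, 4, 3]) (.leaf [1, 2, 3, 4, 5, 6, 7, 3, 2, 1, 4, 3, 7, 8, 7, 3, 2, 1, 4, 3, 2, 5, 4]) (.leaf [1, 2, 3, 4, 5, 6, 7, 3, 2, 1, 4, 3, 2, 5, 4, 8, 7, 3, 2, 1, 4, 3, 2, 5, 4, 6, 5, 7]) (.leaf [])) (.node (.leaf [1, 2, 3, 4, 5, 6, 7, 3, 2, 1, 4, 3, 7, 8, 7, 3, 2, 4, 3]) (.leaf [1, 2, 3, 4, 5, 6, 7, 3, 2, 4, 3, 5, 8, 7, 3, 2, 1, 4, 3, 2, 5, 6, 7, 3]) (.leaf [1, 2, 3, 4, 5, 6, 7, 3, 2, 1, 4, 3, 2, 5, 4, 8, 7, 3, 2, 1, 4, 3, 2, 5, 4, 7, 3, 2, 1]) (.leaf []))) (.node (.node (.leaf [1, 0, 2, 3, 4, 5, 6, 7, 3, 4, 8, 7]) (.leaf [1, 2, 3, 4, 5, 6, 7, 3, 2, 1, 4, 3, 2, 8, 7, 3, 2, 1, 0, 4, 3])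 (.leaf [1, 2, 3, 4, 5, 6, 7, 3, 2, 1, 4, 3, 2, 5, 8, 7, 3, 2, 1, 4, 3, 2, 5, 4, 6, 5]) (.leaf [1, 2, 3, 4, 5, 6, 7, 3, 2, 1, 4, 3, 5, 4, 8, 7, 3, 2, 1, 4, 3, 2, 5, 4, 6, 7, 3, 2, 8, 7])) (.node (.leaf [1, 0, 2, 1, 3, 4, 5, 6, 7, 3, 4, 5, 8, 7, 3, 2, 1]) (.leaf [1, 2, 3, 4, 5, 6, 7, 3, 2, 1, 4, 3, 8, 7, 3, 2, 1, 4, 3, 2, 5, 7]) (.leaf [1, 2, 3, 4, 5, 6, 7, 3, 2, 1, 4, 3, 2, 5, 8, 7, 3, 2, 1, 4, 3, 2, 5, 4, 3, 7, 8]) (.leaf [1, 2, 3, 4, 5, 6, 7, 3, 2, 1, 4, 3, 2, 5, 8, 7, 3, 2, 1, 0, 4, 3, 2, 5, 4, 3, 7, 3, 4, 8, 7, 3, 2])) (.node (.leaf [1, 2, 3, 4, 5, 6, 7, 3, 2, 1, 4, 3, 2, 5, 4, 7, 8, 7]) (.leaf [1, 2, 3, 4, 5, 6, 7, 3, 2, 1, 4, 3, 2,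 5, 4, 3, 8, 7, 3, 2, 1, 4, 3, 5]) (.leaf [1, 2, 3, 4, 5, 6, 7, 3, 2, 1, 4, 3, 2, 5, 8, 7, 3, 2, 1, 0, 4, 3, 2, 5, 7, 3, 4, 8]) (.leaf [])) (.node (.leaf [1, 2, 3, 4, 5, 6, 7, 3, 2, 4, 3, 7, 8, 7, 3, 2, 1, 4, 5]) (.leaf [1, 2, 3, 4, 5, 6, 7, 3, 2, 1, 4, 3, 2, 5, 7, 8, 7, 3, 2, 4, 3, 5, 4, 7, 8]) (.leaf [1, 2, 3, 4, 5, 6, 7, 3, 2, 1, 4, 3, 2, 5, 8, 7, 3, 2, 1, 4, 3, 2, 5, 4, 6, 7, 3, 4, 5]) (.leaf []))) (.node (.node (.leaf [1, 2, 3, 4, 5, 6, 7, 3, 2, 4, 3, 5, 4]) (.leaf [1, 2, 3, 4, 5, 6, 7, 3, 2, 1, 4, 3, 8, 7, 3, 2, 1, 4, 3, 5, 7]) (.leaf [1, 2, 3, 4, 5, 6, 7, 3, 2, 1, 4, 3, 5, 4, 8, 7, 3, 2, 1, 4, 3, 2, 5, 6, 7, 3]) (.leaf [1, 2, 3, 4,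 5, 6, 7, 3, 2, 1, 4, 3, 2, 5, 4, 8, 7, 3, 2, 1, 0, 4, 3, 2, 5, 4, 7, 3, 4, 5, 8])) (.node (.leaf [1, 2, 3, 4, 5, 7, 3, 2, 4, 3, 8, 7, 3, 2, 1, 0]) (.leaf [1, 2, 3, 4, 5, 6, 7, 3, 2, 4, 5, 8, 7, 3, 2, 1, 4, 3, 2, 5, 7, 3]) (.leaf [1, 2, 3, 4, 5, 6, 7, 3, 2, 1, 4, 3, 5, 4, 8, 7, 3, 2, 1, 4, 3, 2, 5, 4, 7, 3, 8]) (.leaf [])) (.node (.leaf [1, 2, 3, 4, 5, 7, 3, 2, 1, 4, 8, 7, 3, 2, 4, 3, 5, 6]) (.leaf [1, 2, 3, 4, 5, 6, 7, 3, 2, 1, 4, 3, 2, 8, 7, 3, 2, 1, 0, 4, 3, 2, 5, 4]) (.leaf [1, 2, 3, 4, 5, 6, 7, 3, 2, 1, 4, 3, 5, 4, 8, 7, 3, 2, 1, 4, 3, 2, 5, 4, 6, 5, 7, 8]) (.leaf [])) (.node (.leaf [1, 2, 3, 4, 5, 6, 7, 3, 2, 1, 4, 3, 2, 5, 8, 7, 3,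 2, 1, 0]) (.leaf [1, 2, 3, 4, 5, 6, 7, 3, 2, 1, 4, 3, 5, 4, 8, 7, 3, 2, 1, 4, 3, 2, 5, 4, 3]) (.leaf [1, 2, 3, 4, 5, 6, 7, 3, 2, 1, 4, 3, 5, 4, 8, 7, 3, 2, 1, 4, 3, 5, 4, 6, 7, 3, 2, 8, 7]) (.leaf [])))) (.node (.node (.node (.leaf [1, 0, 2, 1, 3, 2, 4, 5, 6, 7]) (.leaf [1, 2, 3, 4, 5, 6, 7, 3, 2, 1, 4, 5, 8, 7, 3, 2, 4, 3, 5, 4]) (.leaf [1, 2, 3, 4, 5, 6, 7, 3, 2, 1, 4, 5, 8, 7, 3, 2, 1, 4, 3, 2, 5, 6, 7, 3, 4]) (.leaf [1, 2, 3, 4, 5, 6, 7, 3, 2, 1, 4, 3, 2, 5, 4, 8, 7, 3, 2, 1, 0, 4, 3, 2, 5, 4, 6, 7, 3, 8])) (.node (.leaf [1, 2, 3, 4, 5, 6, 7, 3, 4, 8, 7, 3, 2, 1]) (.leaf [1, 0, 2, 3, 4, 5, 6, 7, 3, 2, 4, 3, 5, 7, 8, 7, 3, 2, 1, 0, 4,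 3]) (.leaf [1, 2, 3, 4, 5, 6, 7, 3, 2, 4, 3, 5, 8, 7, 3, 2, 1, 4, 3, 2, 5, 4, 3, 7, 3, 4]) (.leaf [1, 2, 3, 4, 5, 6, 7, 3, 2, 1, 4, 3, 5, 4, 8, 7, 3, 2, 1, 4, 3, 2, 5, 4, 7, 3, 2, 1, 8, 7, 3])) (.node (.leaf [1, 2, 3, 4, 5, 6, 7, 3, 2, 1, 4, 3, 8, 7, 3, 2, 4]) (.leaf [1, 2, 3, 4, 5, 6, 7, 3, 2, 1, 4, 3, 5, 4, 8, 7, 3, 2, 1, 0, 4, 3, 5]) (.leaf [1, 2, 3, 4, 5, 6, 7, 3, 2, 1, 4, 3, 2, 5, 4, 3, 8, 7, 3, 2, 1, 0, 4, 3, 5, 6, 7, 8]) (.leaf [])) (.node (.leaf [1, 0, 2, 3, 4, 5, 6, 7, 3, 2, 4, 8, 7, 3, 2, 1, 4, 5, 6]) (.leaf [1, 2, 3, 4, 5, 6, 7, 3, 2, 1, 4, 3, 5, 8, 7, 3, 2, 1, 4, 3, 5, 4, 6, 7]) (.leaf [1, 2, 3, 4, 5, 6, 7, 3, 2, 1, 4, 3, 2,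 5, 4, 3, 8, 7, 3, 2, 4, 3, 5, 4, 6, 7, 3, 2, 1]) (.leaf []))) (.node (.node (.leaf [1, 2, 3, 4, 7, 3, 2, 8, 7, 3]) (.leaf [1, 0, 2, 3, 4, 5, 6, 7, 3, 2, 4, 3, 5, 4, 8, 7, 3, 2, 4, 3, 5]) (.leaf [1, 2, 3, 4, 5, 6, 7, 3, 2, 1, 4, 3, 2, 5, 4, 8, 7, 3, 2, 1, 4, 3, 2, 7, 3, 8]) (.leaf [1, 2, 3, 4, 5, 6, 7, 3, 2, 1, 4, 3, 2, 5, 8, 7, 3, 2, 1, 4, 3, 2, 5, 4, 3, 7, 3, 4, 5, 6])) (.node (.leaf [1, 2, 3, 4, 5, 6, 7, 3, 2, 4, 3, 5, 8, 7, 3]) (.leaf [1, 2, 3, 4, 5, 6, 7, 3, 2, 1, 4, 3, 5, 4, 7, 8, 7, 3, 2, 1, 4, 5]) (.leaf [1, 2, 3, 4, 5, 6, 7, 3, 2, 1, 4, 3, 2, 5, 4, 8, 7, 3, 2, 1, 4, 3, 5, 4, 7, 3, 2]) (.leaf [1, 2, 3, 4, 5, 6, 7, 3, 2, 1, 4, 3,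 2, 5, 8, 7, 3, 2, 1, 0, 4, 3, 2, 5, 4, 7, 3, 4, 8, 7, 3, 2])) (.node (.leaf [1, 2, 3, 4, 5, 7, 3, 2, 4, 8, 7, 3, 2, 1, 0, 4, 5]) (.leaf [1, 2, 3, 4, 5, 6, 7, 3, 2, 1, 4, 5, 8, 7, 3, 2, 1, 4, 3, 2, 5, 4, 6]) (.leaf [1, 2, 3, 4, 5, 6, 7, 3, 2, 1, 4, 3, 2, 5, 4, 8, 7, 3, 2, 1, 4, 3, 5, 4, 7, 3, 2, 1]) (.leaf [])) (.node (.leaf [1, 2, 3, 4, 5, 7, 3, 2, 1, 4, 3, 8, 7, 3, 2, 1, 0, 4, 5]) (.leaf [1, 2, 3, 4, 5, 6, 7, 3, 2, 1, 4, 3, 2, 5, 4, 3, 8, 7, 3, 2, 4, 3, 5, 4, 6]) (.leaf [1, 2, 3, 4, 5, 6, 7, 3, 2, 1, 4, 3, 2, 5, 4, 8, 7, 3, 2, 4, 3, 5, 4, 6, 5, 7, 3, 4, 8]) (.leaf []))) (.node (.node (.leaf [1, 2, 3, 4, 7, 3, 2, 1, 8, 7, 3, 4]) (.leaf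 [1, 2, 3, 4, 5, 7, 3, 2, 1, 4, 3, 2, 8, 7, 3, 2, 1, 4, 3, 5, 4]) (.leaf [1, 2, 3, 4, 5, 6, 7, 3, 2, 1, 4, 3, 2, 5, 8, 7, 3, 2, 4, 3, 5, 4, 6, 5, 7, 8]) (.leaf [1, 2, 3, 4, 5, 6, 7, 3, 2, 1, 4, 3, 5, 8, 7, 3, 2, 1, 4, 3, 2, 5, 4, 3, 7, 3, 2, 1, 4, 8])) (.node (.leaf [1, 2, 3, 4, 5, 7, 3, 2, 1, 4, 3, 2, 7, 8, 7, 3]) (.leaf [1, 2, 3, 4, 5, 6, 7, 3, 2, 1, 4, 5, 8, 7, 3, 2, 1, 4, 3, 5, 4, 7]) (.leaf [1, 2, 3, 4, 5, 6, 7, 3, 2, 1, 4, 3, 2, 5, 8, 7, 3, 2, 1, 4, 3, 5, 4, 6, 7, 3, 8]) (.leaf [])) (.node (.leaf [1, 2, 3, 4, 5, 7, 3, 2, 1, 4, 3, 2, 8, 7, 3, 2, 1, 4]) (.leaf [1, 2, 3, 4, 5, 6, 7, 3, 2, 1, 4, 3, 2, 5, 4, 8, 7, 3, 2, 1, 0, 4, 5, 6])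 (.leaf [1, 2, 3, 4, 5, 6, 7, 3, 2, 1, 4, 3, 2, 5, 8, 7, 3, 2, 1, 4, 3, 2, 5, 6, 7, 3, 4, 8]) (.leaf [])) (.node (.leaf [1, 2, 3, 4, 5, 6, 7, 3, 2, 4, 5, 8, 7, 3, 2, 4, 3, 5, 6]) (.leaf [1, 2, 3, 4, 5, 6, 7, 3, 2, 1, 4, 3, 2, 5, 8, 7, 3, 2, 1, 4, 3, 2, 5, 7, 3]) (.leaf [1, 2, 3, 4, 5, 6, 7, 3, 2, 1, 4, 3, 2, 5, 8, 7, 3, 2, 1, 4, 3, 2, 5, 7, 3, 4, 5, 8, 7]) (.leaf []))) (.node (.node (.leaf [1, 2, 3, 4, 5, 7, 3, 4, 8, 7, 3, 2, 1]) (.leaf [1, 2, 3, 4, 5, 6, 7, 3, 2, 1, 4, 5, 8, 7, 3, 2, 4, 3, 5, 7, 8]) (.leaf [1, 2, 3, 4, 5, 6, 7, 3, 2, 1, 4, 3, 5, 7, 8, 7, 3, 2, 1, 0, 4, 3, 2, 5, 4, 7]) (.leaf [1, 2, 3, 4, 5, 6, 7, 3, 2, 1, 4, 3, 2, 5, 4,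 8, 7, 3, 2, 1, 4, 3, 2, 5, 4, 7, 3, 4, 5, 8, 7])) (.node (.leaf [1, 2, 3, 4, 5, 6, 7, 3, 4, 5, 8, 7, 3, 2, 1, 4]) (.leaf [1, 2, 3, 4, 5, 6, 7, 3, 2, 1, 4, 3, 2, 5, 4, 7, 8, 7, 3, 2, 1, 4, 5]) (.leaf [1, 2, 3, 4, 5, 6, 7, 3, 2, 1, 4, 3, 5, 7, 8, 7, 3, 2, 1, 0, 4, 3, 2, 5, 4, 7, 3]) (.leaf [])) (.node (.leaf [1, 2, 3, 4, 5, 6, 7, 3, 2, 4, 3, 5, 8, 7, 3, 2, 4, 3]) (.leaf [1, 2, 3, 4, 5, 6, 7, 3, 2, 1, 4, 3, 5, 4, 7, 8, 7, 3, 2, 1, 4, 3, 5, 7]) (.leaf [1, 2, 3, 4, 5, 6, 7, 3, 2, 1, 4, 3, 5, 4, 8, 7, 3, 2, 1, 4, 3, 5, 4, 7, 3, 2, 8, 7]) (.leaf [])) (.node (.leaf [1, 2, 3, 4, 5, 7, 3, 2, 1, 4, 3, 2, 7, 3, 8, 7, 3, 2, 1, 0]) (.leaf [1, 2, 3, 4,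 5, 6, 7, 3, 2, 1, 4, 3, 5, 4, 8, 7, 3, 2, 4, 3, 5, 4, 7, 3, 2]) (.leaf [1, 2, 3, 4, 5, 6, 7, 3, 2, 1, 4, 3, 5, 8, 7, 3, 2, 1, 4, 3, 2, 5, 4, 3, 7, 3, 2, 4, 5]) (.leaf [])))))
def pathTree9 : SporBound.Q (List ℕ) := (.node (.node (.node (.node (.leaf [1, 0, 2, 1, 3, 2, 7]) (.leaf [1, 2, 3, 4, 5, 6, 7, 3, 2, 1, 4, 3, 5, 4, 8, 7, 3, 2, 1, 0]) (.leaf [1, 2, 3, 4, 5, 6, 7, 3, 2, 1, 4, 3, 5, 7, 8, 7, 3, 2, 1, 4, 3, 5, 4, 7, 8]) (.leaf [1, 2, 3, 4, 5, 6, 7, 3, 2, 1, 4, 5, 8, 7, 3, 2, 1, 4, 3, 2, 5, 4, 7, 3, 2, 1, 4, 5, 8])) (.node (.leaf [1, 0, 2, 3, 4, 5, 7, 3, 4, 8, 7, 3, 2, 1]) (.leaf [1, 2, 3, 4, 5, 6, 7, 3, 2, 4, 3, 5, 4, 8, 7, 3, 2, 1, 4,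 3, 7]) (.leaf [1, 2, 3, 4, 5, 6, 7, 3, 2, 1, 4, 3, 5, 8, 7, 3, 2, 1, 0, 4, 3, 5, 4, 6, 7, 8]) (.leaf [1, 2, 3, 4, 5, 6, 7, 3, 2, 1, 4, 3, 2, 5, 8, 7, 3, 2, 1, 0, 4, 3, 2, 1, 5, 4, 3, 7, 3, 8, 7])) (.node (.leaf [1, 0, 2, 3, 4, 5, 7, 3, 2, 4, 3, 8, 7, 3, 2, 1, 0]) (.leaf [1, 2, 3, 4, 5, 6, 7, 3, 2, 1, 4, 3, 2, 5, 7, 8, 7, 3, 2, 1, 0, 4, 5]) (.leaf [1, 2, 3, 4, 5, 6, 7, 3, 2, 1, 4, 3, 5, 8, 7, 3, 2, 1, 4, 3, 2, 5, 4, 3, 7, 3, 4]) (.leaf [])) (.node (.leaf [1, 2, 3, 4, 5, 7, 3, 2, 4, 3, 8, 7, 3, 2, 1, 4, 3, 2]) (.leaf [1, 2, 3, 4, 5, 6, 7, 3, 2, 1, 4, 3, 5, 4, 8, 7, 3, 2, 1, 4, 3, 2, 7, 8]) (.leaf [1, 2, 3, 4, 5, 6, 7, 3, 2, 1, 4, 3, 5, 8,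 7, 3, 2, 1, 4, 3, 2, 5, 4, 3, 7, 3, 4, 5]) (.leaf []))) (.node (.node (.leaf [1, 0, 2, 3, 4, 5, 6, 7, 3]) (.leaf [1, 2, 3, 4, 5, 6, 7, 3, 2, 4, 3, 5, 4, 7, 8, 7, 3, 2, 4, 5]) (.leaf [1, 2, 3, 4, 5, 6, 7, 3, 2, 4, 3, 5, 8, 7, 3, 2, 1, 4, 3, 2, 5, 4, 7, 3, 4]) (.leaf [1, 2, 3, 4, 5, 6, 7, 3, 2, 1, 4, 3, 2, 5, 4, 8, 7, 3, 2, 1, 4, 3, 2, 5, 4, 6, 7, 3, 8, 7])) (.node (.leaf [1, 0, 2, 3, 4, 5, 6, 7, 3, 2, 8, 7, 3, 4, 5]) (.leaf [1, 2, 3, 4, 5, 6, 7, 3, 2, 1, 4, 3, 2, 5, 4, 8, 7, 3, 2, 1, 0, 4]) (.leaf [1, 2, 3, 4, 5, 6, 7, 3, 2, 1, 4, 3, 2, 5, 4, 3, 8, 7, 3, 2, 1, 4, 3, 5, 6, 7, 8]) (.leaf [1, 2, 3, 4, 5, 6, 7, 3, 2, 1, 4, 3, 2, 5, 4, 3, 8,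 7, 3, 2, 1, 0, 4, 3, 2, 7, 3, 4, 5, 8, 7, 3])) (.node (.leaf [1, 2, 3, 4, 5, 6, 7, 3, 2, 1, 4, 8, 7, 3, 4, 5, 6]) (.leaf [1, 2, 3, 4, 5, 6, 7, 3, 2, 1, 4, 3, 5, 7, 8, 7, 3, 2, 1, 4, 3, 2, 7]) (.leaf [1, 2, 3, 4, 5, 6, 7, 3, 2, 1, 4, 3, 2, 5, 4, 7, 8, 7, 3, 2, 1, 4, 3, 2, 5, 7, 3, 8]) (.leaf [])) (.node (.leaf [1, 2, 3, 4, 5, 6, 7, 3, 2, 1, 4, 3, 2, 8, 7, 3, 2, 1, 0]) (.leaf [1, 2, 3, 4, 5, 6, 7, 3, 2, 1, 4, 5, 8, 7, 3, 2, 1, 0, 4, 3, 5, 4, 7, 3]) (.leaf [1, 2, 3, 4, 5, 6, 7, 3, 2, 1, 4, 3, 2, 5, 4, 8, 7, 3, 2, 1, 0, 4, 3, 2, 1, 5, 4, 7, 8]) (.leaf []))) (.node (.node (.leaf [1, 0, 2, 1, 3, 4, 5, 7, 3, 4, 8, 7]) (.leaf [1, 0, 2, 3, 4, 5,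 6, 7, 3, 2, 4, 5, 8, 7, 3, 2, 1, 0, 4, 5, 6]) (.leaf [1, 2, 3, 4, 5, 6, 7, 3, 2, 1, 4, 3, 2, 5, 7, 8, 7, 3, 2, 1, 0, 4, 3, 2, 1, 7]) (.leaf [1, 2, 3, 4, 5, 6, 7, 3, 2, 1, 4, 3, 2, 5, 8, 7, 3, 2, 1, 4, 3, 2, 5, 4, 7, 3, 4, 8, 7, 3])) (.node (.leaf [1, 2, 3, 4, 5, 7, 3, 2, 4, 8, 7, 3, 4, 5, 6]) (.leaf [1, 2, 3, 4, 5, 6, 7, 3, 2, 1, 4, 3, 5, 7, 8, 7, 3, 2, 1, 4, 3, 5]) (.leaf [1, 2, 3, 4, 5, 6, 7, 3, 2, 1, 4, 3, 2, 5, 7, 8, 7, 3, 2, 1, 0, 4, 3, 2, 5, 4, 7]) (.leaf [1, 2, 3, 4, 5, 6, 7, 3, 2, 1, 4, 3, 5, 4, 7, 8, 7, 3, 2, 1, 4, 3, 2, 5, 4, 7, 3, 2, 1, 8, 7, 3])) (.node (.leaf [1, 0, 2, 3, 4, 5, 6, 7, 3, 2, 4, 3, 7, 8, 7, 3, 2, 4]) (.leaf [1,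 2, 3, 4, 5, 6, 7, 3, 2, 1, 8, 7, 3, 2, 4, 3, 5, 4, 7, 3, 2, 1, 0]) (.leaf [1, 2, 3, 4, 5, 6, 7, 3, 2, 1, 4, 3, 2, 5, 7, 8, 7, 3, 2, 1, 0, 4, 3, 2, 1, 5, 4, 7]) (.leaf [])) (.node (.leaf [1, 2, 3, 4, 5, 6, 7, 3, 2, 1, 4, 8, 7, 3, 2, 4, 3, 5, 4]) (.leaf [1, 2, 3, 4, 5, 6, 7, 3, 2, 1, 4, 3, 2, 5, 4, 8, 7, 3, 2, 1, 0, 4, 3, 7, 8]) (.leaf [1, 2, 3, 4, 5, 6, 7, 3, 2, 1, 4, 3, 2, 5, 7, 8, 7, 3, 2, 1, 4, 3, 2, 5, 4, 3, 7, 3, 8]) (.leaf []))) (.node (.node (.leaf [1, 0, 2, 3, 4, 5, 6, 7, 3, 2, 4, 3, 8]) (.leaf [1, 2, 3, 4, 5, 6, 7, 3, 2, 1, 4, 3, 5, 7, 8, 7, 3, 2, 1, 4, 5]) (.leaf [1, 2, 3, 4, 5, 6, 7, 3, 2, 1, 4, 3, 5, 4, 7, 8, 7, 3, 2, 1, 4, 3,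 2, 5, 6, 7]) (.leaf [1, 2, 3, 4, 5, 6, 7, 3, 2, 1, 4, 3, 2, 5, 4, 3, 8, 7, 3, 2, 1, 0, 4, 3, 2, 7, 3, 4, 8, 7, 3])) (.node (.leaf [1, 2, 3, 4, 5, 6, 7, 3, 2, 1, 4, 5, 8, 7, 3, 4]) (.leaf [1, 2, 3, 4, 5, 6, 7, 3, 2, 4, 3, 5, 4, 8, 7, 3, 2, 1, 0, 4, 3, 2]) (.leaf [1, 2, 3, 4, 5, 6, 7, 3, 2, 1, 4, 3, 5, 4, 7, 8, 7, 3, 2, 1, 4, 3, 2, 5, 6, 7, 8]) (.leaf [])) (.node (.leaf [1, 2, 3, 4, 5, 6, 7, 3, 2, 1, 4, 3, 8, 7, 3, 2, 1, 4]) (.leaf [1, 2, 3, 4, 5, 6, 7, 3, 2, 1, 4, 3, 2, 5, 7, 8, 7, 3, 2, 1, 0, 4, 3, 7]) (.leaf [1, 2, 3, 4, 5, 6, 7, 3, 2, 1, 4, 3, 5, 4, 7, 8, 7, 3, 2, 1, 4, 3, 2, 5, 4, 6, 7, 3]) (.leaf [])) (.node (.leaf [1, 0, 2, 3, 4, 5,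 6, 7, 3, 2, 4, 3, 5, 7, 8, 7, 3, 4, 5, 6]) (.leaf [1, 2, 3, 4, 5, 6, 7, 3, 2, 1, 4, 3, 2, 8, 7, 3, 2, 1, 4, 3, 2, 5, 4, 3, 7]) (.leaf [1, 2, 3, 4, 5, 6, 7, 3, 2, 1, 4, 3, 5, 4, 8, 7, 3, 2, 1, 0, 4, 3, 2, 1, 5, 4, 7, 3, 8]) (.leaf [])))) (.node (.node (.node (.leaf [1, 0, 2, 3, 4, 7, 8]) (.leaf [1, 2, 3, 4, 5, 6, 7, 3, 2, 1, 4, 3, 7, 8, 7, 3, 2, 1, 0, 4]) (.leaf [1, 2, 3, 4, 5, 6, 7, 3, 2, 1, 4, 3, 5, 8, 7, 3, 2, 1, 4, 3, 2, 5, 4, 7, 3]) (.leaf [1, 2, 3, 4, 5, 6, 7, 3, 2, 1, 4, 3, 2, 5, 4, 3, 8, 7, 3, 2, 1, 4, 3, 5, 4, 7, 3, 2, 1, 8])) (.node (.leaf [1, 2, 3, 4, 5, 7, 3, 2, 1, 4, 3, 8, 7, 3]) (.leaf [1, 2, 3, 4, 5, 6, 7, 3, 2, 4, 3, 5, 8,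 7, 3, 2, 1, 0, 4, 3, 2]) (.leaf [1, 2, 3, 4, 5, 6, 7, 3, 2, 1, 4, 3, 5, 8, 7, 3, 2, 1, 4, 3, 5, 4, 7, 3, 2, 1]) (.leaf [1, 2, 3, 4, 5, 6, 7, 3, 2, 1, 4, 3, 2, 5, 8, 7, 3, 2, 1, 4, 3, 2, 5, 4, 6, 7, 3, 4, 5, 8, 7])) (.node (.leaf [1, 0, 2, 3, 4, 5, 6, 7, 3, 4, 5, 8, 7, 3, 2, 1, 4]) (.leaf [1, 2, 3, 4, 5, 6, 7, 3, 2, 1, 4, 3, 2, 5, 8, 7, 3, 2, 1, 4, 3, 7, 8]) (.leaf [1, 2, 3, 4, 5, 6, 7, 3, 2, 1, 4, 3, 5, 8, 7, 3, 2, 4, 3, 5, 4, 7, 3, 2, 1, 0, 8]) (.leaf [])) (.node (.leaf [1, 0, 2, 3, 4, 5, 6, 7, 3, 2, 4, 3, 5, 4, 7, 3, 8, 7, 3]) (.leaf [1, 2, 3, 4, 5, 6, 7, 3, 2, 1, 4, 3, 5, 7, 8, 7, 3, 2, 1, 4, 3, 2, 5, 4]) (.leaf [1, 2, 3, 4, 5, 6, 7,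 3, 2, 1, 4, 3, 8, 7, 3, 2, 1, 4, 3, 2, 5, 4, 3, 7, 3, 2, 1, 0]) (.leaf []))) (.node (.node (.leaf [1, 2, 3, 4, 5, 7, 3, 2, 4]) (.leaf [1, 2, 3, 4, 5, 6, 7, 3, 2, 4, 3, 5, 8, 7, 3, 2, 1, 4, 3, 2]) (.leaf [1, 2, 3, 4, 5, 6, 7, 3, 2, 1, 4, 3, 2, 5, 4, 3, 8, 7, 3, 2, 1, 4, 3, 5, 7, 8]) (.leaf [1, 2, 3, 4, 5, 6, 7, 3, 2, 1, 4, 3, 2, 5, 4, 8, 7, 3, 2, 4, 3, 5, 4, 6, 7, 3, 2, 1, 8, 7])) (.node (.leaf [1, 2, 3, 4, 5, 7, 3, 2, 1, 4, 3, 2, 7, 3, 4]) (.leaf [1, 2, 3, 4, 5, 6, 7, 3, 2, 1, 4, 3, 2, 5, 8, 7, 3, 2, 1, 4, 3, 2]) (.leaf [1, 2, 3, 4, 5, 6, 7, 3, 2, 1, 4, 3, 2, 5, 4, 8, 7, 3, 2, 1, 0, 4, 3, 2, 1, 7, 3]) (.leaf [1, 2, 3, 4, 5, 6, 7, 3, 2,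 1, 4, 3, 2, 5, 4, 8, 7, 3, 2, 1, 0, 4, 3, 2, 5, 4, 3, 7, 3, 2, 8, 7])) (.node (.leaf [1, 2, 3, 4, 5, 6, 7, 3, 2, 4, 3, 5, 7, 8, 7, 3, 2]) (.leaf [1, 2, 3, 4, 5, 6, 7, 3, 2, 1, 4, 3, 5, 8, 7, 3, 2, 1, 4, 3, 2, 5, 4]) (.leaf [1, 2, 3, 4, 5, 6, 7, 3, 2, 1, 4, 3, 2, 5, 4, 8, 7, 3, 2, 1, 0, 4, 3, 2, 5, 4, 7, 3]) (.leaf [])) (.node (.leaf [1, 2, 3, 4, 5, 6, 7, 3, 2, 1, 4, 3, 5, 4, 7, 8, 7, 3, 2]) (.leaf [1, 2, 3, 4, 5, 6, 7, 3, 2, 1, 4, 5, 8, 7, 3, 2, 4, 3, 5, 4, 7, 3, 2, 8]) (.leaf [1, 2, 3, 4, 5, 6, 7, 3, 2, 1, 4, 3, 2, 5, 4, 8, 7, 3, 2, 1, 0, 4, 3, 2, 5, 7, 3, 4, 8]) (.leaf []))) (.node (.node (.leaf [1, 2, 3, 4, 5, 7, 3, 2, 8, 7, 3]) (.leaf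 [1, 2, 3, 4, 5, 6, 7, 3, 2, 1, 4, 3, 2, 5, 7, 8, 7, 3, 2, 1, 0]) (.leaf [1, 2, 3, 4, 5, 6, 7, 3, 2, 1, 4, 3, 2, 5, 8, 7, 3, 2, 1, 0, 4, 3, 2, 1, 5, 7]) (.leaf [1, 2, 3, 4, 5, 6, 7, 3, 2, 1, 4, 3, 5, 4, 8, 7, 3, 2, 1, 0, 4, 3, 2, 1, 5, 4, 7, 3, 8, 7])) (.node (.leaf [1, 0, 2, 3, 4, 5, 7, 3, 2, 4, 3, 8, 7, 3, 2, 4]) (.leaf [1, 2, 3, 4, 5, 6, 7, 3, 2, 1, 4, 3, 5, 8, 7, 3, 2, 1, 4, 3, 7, 8]) (.leaf [1, 2, 3, 4, 5, 6, 7, 3, 2, 1, 4, 3, 2, 5, 8, 7, 3, 2, 1, 0, 4, 3, 2, 1, 5, 6, 7]) (.leaf [1, 2, 3, 4, 5, 6, 7, 3, 2, 1, 4, 3, 2, 5, 4, 7, 8, 7, 3, 2, 1, 4, 3, 2, 5, 7, 3, 4, 8, 7, 3, 2, 1])) (.node (.leaf [1, 0, 2, 3, 4, 5, 6, 7, 3, 2, 4, 5, 8,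 7, 3, 2, 4, 3]) (.leaf [1, 2, 3, 4, 5, 6, 7, 3, 2, 4, 3, 5, 7, 8, 7, 3, 2, 1, 4, 3, 2, 5, 4]) (.leaf [1, 2, 3, 4, 5, 6, 7, 3, 2, 1, 4, 3, 2, 5, 7, 8, 7, 3, 2, 1, 4, 3, 2, 7, 3, 4, 8, 7]) (.leaf [])) (.node (.leaf [1, 2, 3, 4, 5, 6, 7, 3, 2, 4, 3, 5, 4, 8, 7, 3, 2, 4, 5]) (.leaf [1, 2, 3, 4, 5, 6, 7, 3, 2, 1, 4, 3, 2, 5, 7, 3, 8, 7, 3, 2, 1, 0, 4, 3, 7]) (.leaf [1, 2, 3, 4, 5, 6, 7, 3, 2, 1, 4, 3, 2, 5, 8, 7, 3, 2, 1, 0, 4, 3, 2, 5, 4, 6, 7, 3, 4]) (.leaf []))) (.node (.node (.leaf [1, 2, 3, 4, 5, 7, 3, 2, 1, 4, 3, 2, 7]) (.leaf [1, 2, 3, 4, 5, 6, 7, 3, 2, 1, 4, 3, 7, 8, 7, 3, 2, 1, 4, 3, 2]) (.leaf [1, 2, 3, 4, 5, 6, 7, 3, 2, 1, 4, 3, 5,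 4, 8, 7, 3, 2, 1, 0, 4, 3, 2, 5, 6, 7]) (.leaf [1, 2, 3, 4, 5, 6, 7, 3, 2, 1, 4, 3, 2, 5, 4, 7, 8, 7, 3, 2, 1, 4, 3, 2, 5, 4, 7, 3, 4, 8, 7])) (.node (.leaf [1, 2, 3, 4, 5, 6, 7, 3, 2, 4, 3, 5, 4, 7, 3, 2]) (.leaf [1, 2, 3, 4, 5, 6, 7, 3, 2, 4, 3, 5, 7, 8, 7, 3, 2, 1, 4, 3, 2, 5]) (.leaf [1, 2, 3, 4, 5, 6, 7, 3, 2, 1, 4, 3, 5, 4, 8, 7, 3, 2, 1, 0, 4, 3, 2, 5, 6, 7, 8]) (.leaf [])) (.node (.leaf [1, 2, 3, 4, 5, 6, 7, 3, 2, 1, 4, 5, 8, 7, 3, 2, 1, 4]) (.leaf [1, 2, 3, 4, 5, 6, 7, 3, 2, 1, 4, 3, 2, 5, 8, 7, 3, 2, 1, 4, 3, 2, 5, 6]) (.leaf [1, 2, 3, 4, 5, 6, 7, 3, 2, 1, 4, 3, 5, 4, 8, 7, 3, 2, 1, 0, 4, 3, 2, 5, 4, 6, 5, 7]) (.leaf [])) (.node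 (.leaf [1, 0, 2, 3, 4, 5, 6, 7, 3, 2, 4, 5, 8, 7, 3, 2, 4, 3, 5, 6]) (.leaf [1, 2, 3, 4, 5, 6, 7, 3, 2, 1, 4, 3, 5, 4, 7, 8, 7, 3, 2, 4, 3, 5, 4, 6, 7]) (.leaf [1, 2, 3, 4, 5, 6, 7, 3, 2, 1, 4, 3, 5, 4, 8, 7, 3, 2, 1, 4, 3, 2, 5, 4, 3, 7, 3, 8, 7]) (.leaf [])))) (.node (.node (.node (.leaf [1, 2, 3, 4, 7, 3, 8]) (.leaf [1, 2, 3, 4, 5, 7, 3, 2, 1, 4, 3, 7, 8, 7, 3, 2, 1, 4, 3, 2]) (.leaf [1, 2, 3, 4, 5, 6, 7, 3, 2, 1, 4, 3, 8, 7, 3, 2, 1, 4, 3, 2, 5, 4, 7, 3, 2]) (.leaf [1, 2, 3, 4, 5, 6, 7, 3, 2, 1, 4, 3, 2, 5, 4, 8, 7, 3, 2, 1, 0, 4, 3, 2, 1, 5, 4, 6, 7, 3])) (.node (.leaf [1, 2, 3, 4, 5, 6, 7, 3, 2, 4, 3, 7, 8, 7]) (.leaf [1, 2, 3, 4,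 5, 6, 7, 3, 2, 4, 5, 8, 7, 3, 2, 1, 4, 3, 2, 5, 7]) (.leaf [1, 2, 3, 4, 5, 6, 7, 3, 2, 1, 4, 5, 8, 7, 3, 2, 1, 4, 3, 2, 5, 4, 6, 7, 3, 8]) (.leaf [1, 2, 3, 4, 5, 6, 7, 3, 2, 1, 4, 3, 5, 4, 7, 3, 8, 7, 3, 2, 4, 3, 5, 4, 7, 3, 2, 1, 8, 7, 3])) (.node (.leaf [1, 2, 3, 4, 5, 7, 3, 2, 1, 4, 3, 2, 7, 3, 8, 7, 3]) (.leaf [1, 2, 3, 4, 5, 6, 7, 3, 2, 1, 4, 3, 2, 8, 7, 3, 2, 4, 3, 5, 4, 6, 5]) (.leaf [1, 2, 3, 4, 5, 6, 7, 3, 2, 1, 4, 5, 8, 7, 3, 2, 1, 4, 3, 2, 5, 4, 7, 3, 2, 4, 8]) (.leaf [])) (.node (.leaf [1, 0, 2, 3, 4, 5, 6, 7, 3, 2, 4, 3, 7, 8, 7, 3, 2, 4, 3]) (.leaf [1, 2, 3, 4, 5, 6, 7, 3, 2, 1, 4, 3, 5, 8, 7, 3, 2, 1, 0, 4, 3, 2, 5, 7]) (.leaf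 [1, 2, 3, 4, 5, 6, 7, 3, 2, 1, 4, 3, 2, 5, 4, 3, 8, 7, 3, 2, 1, 0, 4, 3, 2, 1, 7, 3, 8]) (.leaf []))) (.node (.node (.leaf [1, 0, 2, 1, 3, 4, 5, 6, 7, 3, 4]) (.leaf [1, 2, 3, 4, 5, 6, 7, 3, 2, 4, 5, 8, 7, 3, 2, 1, 0, 4, 3, 5]) (.leaf [1, 2, 3, 4, 5, 6, 7, 3, 2, 1, 4, 3, 2, 5, 4, 8, 7, 3, 2, 1, 0, 4, 3, 2, 5, 6]) (.leaf [1, 2, 3, 4, 5, 6, 7, 3, 2, 1, 4, 3, 2, 5, 8, 7, 3, 2, 1, 0, 4, 3, 2, 1, 5, 4, 3, 7, 3, 8])) (.node (.leaf [1, 2, 3, 4, 5, 7, 3, 2, 1, 4, 8, 7, 3, 2, 1]) (.leaf [1, 2, 3, 4, 5, 6, 7, 3, 2, 1, 4, 3, 2, 8, 7, 3, 2, 1, 0, 4, 5, 6]) (.leaf [1, 2, 3, 4, 5, 6, 7, 3, 2, 1, 4, 3, 2, 5, 4, 8, 7, 3, 2, 1, 4, 3, 2, 5, 4, 3, 7]) (.leaf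 [1, 2, 3, 4, 5, 6, 7, 3, 2, 1, 4, 3, 2, 5, 4, 8, 7, 3, 2, 1, 4, 3, 2, 5, 4, 7, 3, 4, 5, 8, 7, 3])) (.node (.leaf [1, 2, 3, 4, 5, 7, 3, 2, 4, 3, 7, 8, 7, 3, 2, 4, 5]) (.leaf [1, 2, 3, 4, 5, 6, 7, 3, 2, 1, 4, 3, 7, 8, 7, 3, 2, 1, 4, 3, 5, 4, 6]) (.leaf [1, 2, 3, 4, 5, 6, 7, 3, 2, 1, 4, 3, 2, 5, 4, 8, 7, 3, 2, 1, 4, 3, 2, 5, 4, 6, 7, 3]) (.leaf [])) (.node (.leaf [1, 2, 3, 4, 5, 6, 7, 3, 2, 1, 4, 3, 7, 8, 7, 3, 2, 4, 5]) (.leaf [1, 2, 3, 4, 5, 6, 7, 3, 2, 4, 3, 5, 8, 7, 3, 2, 1, 4, 3, 2, 5, 7, 3, 4]) (.leaf [1, 2, 3, 4, 5, 6, 7, 3, 2, 1, 4, 3, 2, 5, 4, 8, 7, 3, 2, 1, 4, 3, 2, 5, 4, 7, 3, 2, 8]) (.leaf []))) (.node (.node (.leaf [1, 0, 2, 3,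 4, 5, 7, 3, 4, 8, 7, 3]) (.leaf [1, 2, 3, 4, 5, 6, 7, 3, 2, 1, 4, 3, 2, 8, 7, 3, 2, 1, 0, 4, 5]) (.leaf [1, 2, 3, 4, 5, 6, 7, 3, 2, 1, 4, 3, 2, 5, 8, 7, 3, 2, 1, 4, 3, 2, 5, 4, 6, 7]) (.leaf [1, 2, 3, 4, 5, 6, 7, 3, 2, 1, 4, 3, 5, 4, 8, 7, 3, 2, 1, 4, 3, 2, 5, 4, 7, 3, 2, 1, 0, 8])) (.node (.leaf [1, 0, 2, 1, 3, 4, 5, 6, 7, 3, 4, 5, 8, 7, 3, 2, 4]) (.leaf [1, 2, 3, 4, 5, 6, 7, 3, 2, 1, 4, 3, 8, 7, 3, 2, 1, 4, 3, 5, 4, 6]) (.leaf [1, 2, 3, 4, 5, 6, 7, 3, 2, 1, 4, 3, 2, 5, 8, 7, 3, 2, 1, 4, 3, 2, 5, 4, 6, 5, 7]) (.leaf [1, 2, 3, 4, 5, 6, 7, 3, 2, 1, 4, 3, 2, 5, 8, 7, 3, 2, 1, 0, 4, 3, 2, 5, 4, 7, 3, 2, 4, 8, 7, 3, 2])) (.node (.leaf [1, 2,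 3, 4, 5, 6, 7, 3, 2, 1, 4, 3, 2, 5, 4, 8, 7, 3]) (.leaf [1, 2, 3, 4, 5, 6, 7, 3, 2, 1, 4, 3, 2, 5, 4, 3, 8, 7, 3, 2, 1, 4, 3, 7]) (.leaf [1, 2, 3, 4, 5, 6, 7, 3, 2, 1, 4, 3, 2, 5, 8, 7, 3, 2, 1, 0, 4, 3, 2, 5, 7, 3, 8, 7]) (.leaf [])) (.node (.leaf [1, 2, 3, 4, 5, 6, 7, 3, 2, 4, 3, 7, 8, 7, 3, 2, 4, 3, 5]) (.leaf [1, 2, 3, 4, 5, 6, 7, 3, 2, 1, 4, 3, 2, 5, 8, 7, 3, 2, 1, 0, 4, 3, 2, 1, 5]) (.leaf [1, 2, 3, 4, 5, 6, 7, 3, 2, 1, 4, 3, 2, 5, 8, 7, 3, 2, 1, 4, 3, 2, 5, 4, 6, 7, 3, 4, 8]) (.leaf []))) (.node (.node (.leaf [1, 2, 3, 4, 5, 6, 7, 3, 2, 4, 3, 5, 7]) (.leaf [1, 2, 3, 4, 5, 6, 7, 3, 2, 1, 4, 3, 8, 7, 3, 2, 4, 3, 5, 4, 6]) (.leaf [1,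 2, 3, 4, 5, 6, 7, 3, 2, 1, 4, 3, 5, 4, 8, 7, 3, 2, 1, 4, 3, 2, 5, 6, 7, 8]) (.leaf [1, 2, 3, 4, 5, 6, 7, 3, 2, 1, 4, 3, 2, 5, 4, 8, 7, 3, 2, 1, 0, 4, 3, 2, 5, 4, 7, 3, 4, 8, 7])) (.node (.leaf [1, 2, 3, 4, 5, 7, 3, 2, 4, 3, 8, 7, 3, 2, 1, 4]) (.leaf [1, 2, 3, 4, 5, 6, 7, 3, 2, 4, 5, 8, 7, 3, 2, 1, 4, 3, 2, 7, 3, 4]) (.leaf [1, 2, 3, 4, 5, 6, 7, 3, 2, 1, 4, 3, 5, 4, 8, 7, 3, 2, 1, 4, 3, 2, 5, 6, 7, 3, 8]) (.leaf [])) (.node (.leaf [1, 2, 3, 4, 5, 6, 7, 3, 2, 1, 8, 7, 3, 2, 4, 3, 5, 4]) (.leaf [1, 2, 3, 4, 5, 6, 7, 3, 2, 1, 4, 3, 2, 8, 7, 3, 2, 1, 0, 4, 3, 5, 4, 6]) (.leaf [1, 2, 3, 4, 5, 6, 7, 3, 2, 1, 4, 3, 5, 4, 8, 7, 3, 2, 1, 4, 3, 2,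 5, 4, 6, 7, 3, 2]) (.leaf [])) (.node (.leaf [1, 2, 3, 4, 5, 6, 7, 3, 2, 1, 4, 3, 2, 5, 8, 7, 3, 2, 1, 4]) (.leaf [1, 2, 3, 4, 5, 6, 7, 3, 2, 1, 4, 3, 5, 4, 8, 7, 3, 2, 1, 4, 3, 2, 5, 4, 6]) (.leaf [1, 2, 3, 4, 5, 6, 7, 3, 2, 1, 4, 3, 5, 4, 8, 7, 3, 2, 1, 4, 3, 5, 4, 7, 3, 2, 1, 0, 8]) (.leaf [])))) (.node (.node (.node (.leaf [1, 0, 2, 1, 3, 2, 4, 5]) (.leaf [1, 2, 3, 4, 5, 6, 7, 3, 2, 1, 4, 5, 8, 7, 3, 2, 4, 3, 5, 6]) (.leaf [1, 2, 3, 4, 5, 6, 7, 3, 2, 1, 4, 5, 8, 7, 3, 2, 1, 4, 3, 2, 5, 6, 7, 3, 8]) (.leaf [1, 2, 3, 4, 5, 6, 7, 3, 2, 1, 4, 3, 2, 5, 4, 8, 7, 3, 2, 1, 0, 4, 3, 2, 5, 4, 7, 3, 2, 8])) (.node (.leaf [1, 2, 3, 4, 5, 7, 3,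 4, 8, 7, 3, 2, 1, 0]) (.leaf [1, 0, 2, 3, 4, 5, 6, 7, 3, 2, 4, 3, 5, 7, 8, 7, 3, 2, 1, 4, 3, 5]) (.leaf [1, 2, 3, 4, 5, 6, 7, 3, 2, 4, 3, 5, 8, 7, 3, 2, 1, 4, 3, 2, 5, 4, 3, 7, 3, 8]) (.leaf [1, 2, 3, 4, 5, 6, 7, 3, 2, 1, 4, 3, 5, 4, 8, 7, 3, 2, 1, 4, 3, 2, 5, 4, 7, 3, 2, 4, 5, 8, 7])) (.node (.leaf [1, 2, 3, 4, 5, 6, 7, 3, 2, 1, 4, 3, 8, 7, 3, 4, 5]) (.leaf [1, 2, 3, 4, 5, 6, 7, 3, 2, 1, 4, 3, 5, 4, 8, 7, 3, 2, 1, 0, 4, 3, 7]) (.leaf [1, 2, 3, 4, 5, 6, 7, 3, 2, 1, 4, 3, 2, 5, 4, 3, 8, 7, 3, 2, 1, 4, 3, 2, 5, 7, 3, 4]) (.leaf [])) (.node (.leaf [1, 0, 2, 3, 4, 5, 7, 3, 2, 4, 8, 7, 3, 2, 1, 0, 4, 5, 6]) (.leaf [1, 2, 3, 4, 5, 6, 7, 3, 2,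 1, 4, 3, 5, 8, 7, 3, 2, 1, 4, 3, 5, 4, 7, 3]) (.leaf [1, 2, 3, 4, 5, 6, 7, 3, 2, 1, 4, 3, 2, 5, 4, 3, 8, 7, 3, 2, 4, 3, 5, 4, 6, 7, 3, 2, 8]) (.leaf []))) (.node (.node (.leaf [1, 2, 3, 4, 5, 6, 7, 3, 4, 5]) (.leaf [1, 0, 2, 3, 4, 5, 6, 7, 3, 2, 4, 3, 5, 4, 8, 7, 3, 2, 4, 3, 7]) (.leaf [1, 2, 3, 4, 5, 6, 7, 3, 2, 1, 4, 3, 2, 5, 4, 8, 7, 3, 2, 1, 4, 3, 5, 4, 6, 5]) (.leaf [1, 2, 3, 4, 5, 6, 7, 3, 2, 1, 4, 3, 2, 5, 8, 7, 3, 2, 1, 4, 3, 2, 5, 4, 3, 7, 3, 4, 5, 8])) (.node (.leaf [1, 2, 3, 4, 5, 6, 7, 3, 2, 4, 3, 7, 8, 7, 3]) (.leaf [1, 2, 3, 4, 5, 6, 7, 3, 2, 1, 4, 3, 5, 4, 7, 8, 7, 3, 2, 4, 3, 5]) (.leaf [1, 2, 3, 4, 5, 6, 7, 3, 2, 1, 4,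 3, 2, 5, 4, 8, 7, 3, 2, 1, 4, 3, 5, 4, 7, 3, 8]) (.leaf [1, 2, 3, 4, 5, 6, 7, 3, 2, 1, 4, 3, 2, 5, 8, 7, 3, 2, 1, 4, 3, 2, 5, 4, 3, 7, 3, 4, 5, 6, 8, 7])) (.node (.leaf [1, 2, 3, 4, 5, 7, 3, 2, 4, 8, 7, 3, 2, 1, 4, 5, 6]) (.leaf [1, 2, 3, 4, 5, 6, 7, 3, 2, 1, 4, 5, 8, 7, 3, 2, 1, 4, 3, 2, 5, 4, 7]) (.leaf [1, 2, 3, 4, 5, 6, 7, 3, 2, 1, 4, 3, 2, 5, 4, 8, 7, 3, 2, 1, 4, 3, 5, 4, 7, 3, 2, 8]) (.leaf [])) (.node (.leaf [1, 2, 3, 4, 5, 7, 3, 2, 1, 4, 3, 8, 7, 3, 2, 1, 4, 3, 2]) (.leaf [1, 2, 3, 4, 5, 6, 7, 3, 2, 1, 4, 3, 2, 5, 4, 3, 8, 7, 3, 2, 4, 3, 5, 4, 7]) (.leaf [1, 2, 3, 4, 5, 6, 7, 3, 2, 1, 4, 3, 2, 5, 4, 8, 7, 3, 2, 4, 3, 5, 4, 6, 5,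 7, 3, 8, 7]) (.leaf []))) (.node (.node (.leaf [1, 2, 3, 4, 5, 6, 7, 3, 2, 4, 3, 5]) (.leaf [1, 2, 3, 4, 5, 6, 7, 3, 2, 1, 4, 3, 8, 7, 3, 2, 1, 4, 3, 7, 8]) (.leaf [1, 2, 3, 4, 5, 6, 7, 3, 2, 1, 4, 3, 2, 5, 8, 7, 3, 2, 4, 3, 5, 4, 6, 7, 3, 2]) (.leaf [1, 2, 3, 4, 5, 6, 7, 3, 2, 1, 4, 3, 5, 8, 7, 3, 2, 1, 4, 3, 2, 5, 4, 3, 7, 3, 2, 1, 8, 7])) (.node (.leaf [1, 2, 3, 4, 5, 7, 3, 2, 1, 4, 3, 2, 8, 7, 3, 2]) (.leaf [1, 2, 3, 4, 5, 6, 7, 3, 2, 1, 4, 5, 8, 7, 3, 2, 1, 4, 3, 5, 6, 7]) (.leaf [1, 2, 3, 4, 5, 6, 7, 3, 2, 1, 4, 3, 2, 5, 8, 7, 3, 2, 1, 4, 3, 5, 4, 7, 3, 2, 1]) (.leaf [])) (.node (.leaf [1, 2, 3, 4, 5, 7, 3, 2, 1, 4, 3, 2, 8, 7, 3,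 2, 4, 3]) (.leaf [1, 2, 3, 4, 5, 6, 7, 3, 2, 1, 4, 3, 2, 5, 4, 8, 7, 3, 2, 1, 4, 3, 2, 5]) (.leaf [1, 2, 3, 4, 5, 6, 7, 3, 2, 1, 4, 3, 2, 5, 8, 7, 3, 2, 1, 4, 3, 2, 5, 6, 7, 3, 8, 7]) (.leaf [])) (.node (.leaf [1, 2, 3, 4, 5, 6, 7, 3, 2, 4, 5, 8, 7, 3, 2, 4, 3, 5, 7]) (.leaf [1, 2, 3, 4, 5, 6, 7, 3, 2, 1, 4, 3, 2, 5, 8, 7, 3, 2, 1, 4, 3, 2, 5, 7, 8]) (.leaf [1, 2, 3, 4, 5, 6, 7, 3, 2, 1, 4, 3, 2, 5, 8, 7, 3, 2, 1, 4, 3, 2, 5, 7, 3, 4, 8, 7, 3]) (.leaf []))) (.node (.node (.leaf [1, 0, 2, 3, 4, 5, 6, 7, 3, 2, 4, 3, 5, 4]) (.leaf [1, 2, 3, 4, 5, 6, 7, 3, 2, 1, 4, 8, 7, 3, 2, 1, 0, 4, 3, 5, 4]) (.leaf [1, 2, 3, 4, 5, 6, 7, 3, 2, 1, 4, 3, 5,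 7, 8, 7, 3, 2, 1, 0, 4, 3, 2, 5, 7, 8]) (.leaf [1, 2, 3, 4, 5, 6, 7, 3, 2, 1, 4, 3, 2, 5, 4, 8, 7, 3, 2, 1, 4, 3, 2, 5, 4, 7, 3, 4, 8, 7, 3])) (.node (.leaf [1, 2, 3, 4, 5, 6, 7, 3, 4, 5, 8, 7, 3, 2, 4, 3]) (.leaf [1, 2, 3, 4, 5, 6, 7, 3, 2, 1, 4, 3, 2, 5, 4, 7, 8, 7, 3, 2, 4, 3, 5]) (.leaf [1, 2, 3, 4, 5, 6, 7, 3, 2, 1, 4, 3, 5, 7, 8, 7, 3, 2, 1, 0, 4, 3, 2, 5, 4, 7, 8]) (.leaf [])) (.node (.leaf [1, 2, 3, 4, 5, 6, 7, 3, 2, 4, 3, 5, 8, 7, 3, 2, 4, 5]) (.leaf [1, 2, 3, 4, 5, 6, 7, 3, 2, 1, 4, 3, 5, 4, 7, 8, 7, 3, 2, 1, 4, 3, 7, 8]) (.leaf [1, 2, 3, 4, 5, 6, 7, 3, 2, 1, 4, 3, 5, 4, 8, 7, 3, 2, 4, 3, 5, 4, 7, 3, 2, 1, 0, 8]) (.leaf [])) (.node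 (.leaf [1, 2, 3, 4, 5, 7, 3, 2, 1, 4, 3, 2, 7, 8, 7, 3, 2, 1, 0, 4]) (.leaf [1, 2, 3, 4, 5, 6, 7, 3, 2, 1, 4, 3, 5, 4, 8, 7, 3, 2, 4, 3, 5, 4, 7, 3, 8]) (.leaf [1, 2, 3, 4, 5, 6, 7, 3, 2, 1, 4, 3, 5, 8, 7, 3, 2, 1, 4, 3, 2, 5, 4, 3, 7, 3, 2, 4, 8]) (.leaf [])))))
def pathTree10 : SporBound.Q (List ℕ) := (.node (.node (.node (.node (.leaf [1, 0, 2, 1, 3, 2]) (.leaf [1, 2, 3, 4, 5, 6, 7, 3, 2, 1, 4, 3, 5, 4, 8, 7, 3, 2, 1, 4]) (.leaf [1, 2, 3, 4, 5, 6, 7, 3, 2, 1, 4, 3, 5, 7, 8, 7, 3, 2, 1, 4, 3, 5, 6, 7, 8]) (.leaf [1, 2, 3, 4, 5, 6, 7, 3, 2, 1, 4, 5, 8, 7, 3, 2, 1, 4, 3, 2, 5, 4, 7, 3, 2, 1, 4, 8, 7])) (.node (.leaf [1, 0, 2, 1, 3, 4, 5,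 6, 7, 3, 4, 5, 8, 7, 3]) (.leaf [1, 2, 3, 4, 5, 6, 7, 3, 2, 4, 3, 5, 4, 8, 7, 3, 2, 1, 4, 5, 6]) (.leaf [1, 2, 3, 4, 5, 6, 7, 3, 2, 1, 4, 3, 5, 8, 7, 3, 2, 1, 0, 4, 3, 5, 4, 7, 3, 2]) (.leaf [1, 2, 3, 4, 5, 6, 7, 3, 2, 1, 4, 3, 2, 5, 8, 7, 3, 2, 1, 0, 4, 3, 2, 1, 5, 4, 6, 7, 3, 8, 7])) (.node (.leaf [1, 0, 2, 3, 4, 5, 7, 3, 2, 4, 3, 8, 7, 3, 2, 1, 4]) (.leaf [1, 2, 3, 4, 5, 6, 7, 3, 2, 1, 4, 3, 2, 5, 7, 8, 7, 3, 2, 1, 4, 3, 2]) (.leaf [1, 2, 3, 4, 5, 6, 7, 3, 2, 1, 4, 3, 5, 8, 7, 3, 2, 1, 4, 3, 2, 5, 4, 3, 7, 3, 8]) (.leaf [])) (.node (.leaf [1, 2, 3, 4, 5, 7, 3, 2, 4, 3, 8, 7, 3, 2, 1, 4, 5, 6]) (.leaf [1, 2, 3, 4, 5, 6, 7, 3, 2, 1, 4,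 3, 5, 4, 8, 7, 3, 2, 1, 4, 3, 5, 4, 6]) (.leaf [1, 2, 3, 4, 5, 6, 7, 3, 2, 1, 4, 3, 5, 8, 7, 3, 2, 1, 4, 3, 2, 5, 4, 3, 7, 3, 4, 8]) (.leaf []))) (.node (.node (.leaf [1, 0, 2, 3, 4, 5, 7, 3, 8]) (.leaf [1, 2, 3, 4, 5, 6, 7, 3, 2, 4, 3, 5, 4, 7, 8, 7, 3, 4, 5, 6]) (.leaf [1, 2, 3, 4, 5, 6, 7, 3, 2, 4, 3, 5, 8, 7, 3, 2, 1, 4, 3, 2, 5, 6, 7, 3, 4]) (.leaf [1, 2, 3, 4, 5, 6, 7, 3, 2, 1, 4, 3, 2, 5, 4, 8, 7, 3, 2, 1, 4, 3, 2, 5, 4, 7, 3, 2, 1, 0])) (.node (.leaf [1, 0, 2, 3, 4, 5, 7, 3, 2, 8, 7, 3, 4, 5, 6]) (.leaf [1, 2, 3, 4, 5, 6, 7, 3, 2, 1, 4, 3, 2, 5, 4, 8, 7, 3, 2, 1, 4, 3]) (.leaf [1, 2, 3, 4, 5, 6, 7, 3, 2, 1, 4, 3, 2, 5, 4, 3, 8,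 7, 3, 2, 4, 3, 5, 4, 6, 7, 3]) (.leaf [1, 2, 3, 4, 5, 6, 7, 3, 2, 1, 4, 3, 2, 5, 4, 3, 8, 7, 3, 2, 1, 4, 3, 2, 7, 3, 4, 5, 6, 8, 7, 3])) (.node (.leaf [1, 2, 3, 4, 5, 7, 3, 2, 1, 4, 8, 7, 3, 2, 1, 0, 4]) (.leaf [1, 2, 3, 4, 5, 6, 7, 3, 2, 1, 4, 3, 5, 7, 8, 7, 3, 2, 1, 4, 3, 5, 4]) (.leaf [1, 2, 3, 4, 5, 6, 7, 3, 2, 1, 4, 3, 2, 5, 4, 7, 8, 7, 3, 2, 1, 4, 3, 2, 7, 3, 8, 7]) (.leaf [])) (.node (.leaf [1, 2, 3, 4, 5, 6, 7, 3, 2, 1, 4, 3, 2, 8, 7, 3, 2, 1, 4]) (.leaf [1, 2, 3, 4, 5, 6, 7, 3, 2, 1, 4, 5, 8, 7, 3, 2, 1, 0, 4, 3, 5, 4, 7, 8]) (.leaf [1, 2, 3, 4, 5, 6, 7, 3, 2, 1, 4, 3, 2, 5, 4, 8, 7, 3, 2, 1, 0, 4, 3, 2, 1, 5, 6, 7, 8]) (.leaf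 []))) (.node (.node (.leaf [1, 0, 2, 1, 3, 4, 5, 6, 7, 3, 8, 7]) (.leaf [1, 0, 2, 3, 4, 5, 6, 7, 3, 2, 4, 5, 8, 7, 3, 2, 1, 4, 3, 5, 6]) (.leaf [1, 2, 3, 4, 5, 6, 7, 3, 2, 1, 4, 3, 2, 5, 7, 8, 7, 3, 2, 1, 0, 4, 3, 2, 5, 4]) (.leaf [1, 2, 3, 4, 5, 6, 7, 3, 2, 1, 4, 3, 2, 5, 8, 7, 3, 2, 1, 4, 3, 2, 5, 6, 7, 3, 4, 5, 6, 8])) (.node (.leaf [1, 2, 3, 4, 5, 6, 7, 3, 2, 8, 7, 3, 4, 5, 6]) (.leaf [1, 2, 3, 4, 5, 6, 7, 3, 2, 1, 4, 3, 5, 7, 8, 7, 3, 2, 1, 4, 3, 7]) (.leaf [1, 2, 3, 4, 5, 6, 7, 3, 2, 1, 4, 3, 2, 5, 7, 8, 7, 3, 2, 1, 0, 4, 3, 2, 5, 7, 3]) (.leaf [1, 2, 3, 4, 5, 6, 7, 3, 2, 1, 4, 3, 5, 4, 8, 7, 3, 2, 1, 0, 4, 3, 2, 5, 4, 3, 7, 3, 2,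 8, 7, 3])) (.node (.leaf [1, 0, 2, 3, 4, 5, 6, 7, 3, 2, 4, 3, 7, 8, 7, 3, 4, 5]) (.leaf [1, 2, 3, 4, 5, 6, 7, 3, 2, 4, 3, 5, 4, 7, 8, 7, 3, 2, 1, 4, 3, 2, 5]) (.leaf [1, 2, 3, 4, 5, 6, 7, 3, 2, 1, 4, 3, 2, 5, 7, 8, 7, 3, 2, 1, 0, 4, 3, 2, 1, 5, 7, 8]) (.leaf [])) (.node (.leaf [1, 2, 3, 4, 5, 6, 7, 3, 2, 1, 4, 8, 7, 3, 2, 4, 3, 5, 6]) (.leaf [1, 2, 3, 4, 5, 6, 7, 3, 2, 1, 4, 3, 2, 5, 4, 8, 7, 3, 2, 1, 4, 3, 2, 5, 4]) (.leaf [1, 2, 3, 4, 5, 6, 7, 3, 2, 1, 4, 3, 2, 5, 7, 8, 7, 3, 2, 1, 4, 3, 2, 5, 4, 7, 3, 4, 5]) (.leaf []))) (.node (.node (.leaf [1, 0, 2, 3, 4, 5, 7, 3, 2, 4, 3, 7, 8]) (.leaf [1, 2, 3, 4, 5, 6, 7, 3, 2, 1, 4, 3, 5, 7, 8,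 7, 3, 2, 4, 3, 5]) (.leaf [1, 2, 3, 4, 5, 6, 7, 3, 2, 1, 4, 3, 5, 4, 7, 8, 7, 3, 2, 1, 4, 3, 2, 5, 7, 8]) (.leaf [1, 2, 3, 4, 5, 6, 7, 3, 2, 1, 4, 3, 2, 5, 4, 3, 8, 7, 3, 2, 1, 4, 3, 2, 5, 7, 3, 4, 5, 8, 7])) (.node (.leaf [1, 2, 3, 4, 5, 6, 7, 3, 2, 1, 4, 8, 7, 3, 2, 1]) (.leaf [1, 2, 3, 4, 5, 6, 7, 3, 2, 4, 3, 5, 4, 8, 7, 3, 2, 1, 0, 4, 3, 5]) (.leaf [1, 2, 3, 4, 5, 6, 7, 3, 2, 1, 4, 3, 5, 4, 7, 8, 7, 3, 2, 1, 4, 3, 5, 4, 6, 7, 3]) (.leaf [])) (.node (.leaf [1, 2, 3, 4, 5, 6, 7, 3, 2, 1, 4, 3, 8, 7, 3, 2, 4, 3]) (.leaf [1, 2, 3, 4, 5, 6, 7, 3, 2, 1, 4, 3, 2, 5, 7, 8, 7, 3, 2, 1, 4, 3, 2, 5]) (.leaf [1, 2, 3, 4, 5, 6, 7, 3, 2, 1, 4, 3,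 5, 4, 7, 8, 7, 3, 2, 1, 4, 3, 2, 5, 4, 6, 7, 8]) (.leaf [])) (.node (.leaf [1, 0, 2, 3, 4, 5, 6, 7, 3, 2, 4, 3, 5, 8, 7, 3, 2, 1, 0, 4]) (.leaf [1, 2, 3, 4, 5, 6, 7, 3, 2, 1, 4, 3, 2, 8, 7, 3, 2, 1, 4, 3, 5, 4, 7, 3, 2]) (.leaf [1, 2, 3, 4, 5, 6, 7, 3, 2, 1, 4, 3, 5, 4, 8, 7, 3, 2, 1, 0, 4, 3, 2, 5, 4, 3, 7, 3, 2]) (.leaf [])))) (.node (.node (.node (.leaf [1, 0, 2, 1, 3, 4, 7, 3]) (.leaf [1, 2, 3, 4, 5, 6, 7, 3, 2, 1, 4, 3, 7, 8, 7, 3, 2, 1, 4, 3]) (.leaf [1, 2, 3, 4, 5, 6, 7, 3, 2, 1, 4, 3, 5, 8, 7, 3, 2, 1, 4, 3, 2, 5, 4, 7, 8]) (.leaf [1, 2, 3, 4, 5, 6, 7, 3, 2, 1, 4, 3, 2, 5, 4, 3, 8, 7, 3, 2, 1, 4, 3, 5, 4, 7, 3, 2, 8, 7])) (.node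 (.leaf [1, 2, 3, 4, 5, 6, 7, 3, 2, 1, 4, 5, 8, 7]) (.leaf [1, 2, 3, 4, 5, 6, 7, 3, 2, 4, 3, 5, 8, 7, 3, 2, 1, 0, 4, 3, 5]) (.leaf [1, 2, 3, 4, 5, 6, 7, 3, 2, 1, 4, 3, 5, 8, 7, 3, 2, 1, 4, 3, 5, 4, 7, 3, 2, 8]) (.leaf [1, 2, 3, 4, 5, 6, 7, 3, 2, 1, 4, 3, 2, 5, 8, 7, 3, 2, 1, 4, 3, 2, 5, 4, 6, 7, 3, 4, 8, 7, 3])) (.node (.leaf [1, 0, 2, 3, 4, 5, 6, 7, 3, 4, 5, 8, 7, 3, 2, 4, 3]) (.leaf [1, 2, 3, 4, 5, 6, 7, 3, 2, 1, 4, 3, 2, 5, 8, 7, 3, 2, 4, 3, 5, 4, 6]) (.leaf [1, 2, 3, 4, 5, 6, 7, 3, 2, 1, 4, 3, 8, 7, 3, 2, 1, 0, 4, 3, 5, 4, 7, 3, 2, 1, 0]) (.leaf [])) (.node (.leaf [1, 0, 2, 3, 4, 5, 6, 7, 3, 2, 4, 3, 5, 4, 7, 8, 7, 3, 2]) (.leaf [1,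 2, 3, 4, 5, 6, 7, 3, 2, 1, 4, 3, 5, 7, 8, 7, 3, 2, 1, 4, 3, 2, 5, 6]) (.leaf [1, 2, 3, 4, 5, 6, 7, 3, 2, 1, 4, 3, 8, 7, 3, 2, 1, 4, 3, 2, 5, 4, 3, 7, 3, 2, 1, 8]) (.leaf []))) (.node (.node (.leaf [1, 2, 3, 4, 5, 6, 7, 3, 2]) (.leaf [1, 2, 3, 4, 5, 6, 7, 3, 2, 4, 3, 5, 8, 7, 3, 2, 1, 4, 3, 5]) (.leaf [1, 2, 3, 4, 5, 6, 7, 3, 2, 1, 4, 3, 2, 5, 4, 3, 8, 7, 3, 2, 4, 3, 5, 4, 6, 7]) (.leaf [1, 2, 3, 4, 5, 6, 7, 3, 2, 1, 4, 3, 2, 5, 4, 8, 7, 3, 2, 4, 3, 5, 4, 7, 3, 2, 1, 0, 8, 7])) (.node (.leaf [1, 2, 3, 4, 5, 7, 3, 2, 1, 4, 3, 2, 7, 3, 8]) (.leaf [1, 2, 3, 4, 5, 6, 7, 3, 2, 1, 4, 3, 2, 5, 8, 7, 3, 2, 1, 4, 3, 5]) (.leaf [1, 2, 3, 4, 5, 6,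 7, 3, 2, 1, 4, 3, 2, 5, 4, 8, 7, 3, 2, 1, 0, 4, 3, 2, 1, 7, 8]) (.leaf [1, 2, 3, 4, 5, 6, 7, 3, 2, 1, 4, 3, 2, 5, 4, 8, 7, 3, 2, 1, 0, 4, 3, 2, 5, 4, 3, 7, 3, 4, 8, 7])) (.node (.leaf [1, 2, 3, 4, 5, 6, 7, 3, 2, 4, 3, 5, 7, 8, 7, 3, 4]) (.leaf [1, 2, 3, 4, 5, 6, 7, 3, 2, 1, 4, 3, 5, 8, 7, 3, 2, 1, 4, 3, 2, 5, 6]) (.leaf [1, 2, 3, 4, 5, 6, 7, 3, 2, 1, 4, 3, 2, 5, 4, 8, 7, 3, 2, 1, 0, 4, 3, 2, 5, 4, 7, 8]) (.leaf [])) (.node (.leaf [1, 2, 3, 4, 5, 6, 7, 3, 2, 1, 4, 3, 5, 4, 7, 8, 7, 3, 4]) (.leaf [1, 2, 3, 4, 5, 6, 7, 3, 2, 1, 4, 8, 7, 3, 2, 1, 0, 4, 3, 5, 4, 7, 3, 2]) (.leaf [1, 2, 3, 4, 5, 6, 7, 3, 2, 1, 4, 3, 2, 5, 4, 8, 7, 3, 2, 1, 0,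 4, 3, 2, 5, 7, 3, 8, 7]) (.leaf []))) (.node (.node (.leaf [1, 2, 3, 4, 7, 3, 2, 8, 7, 3, 4]) (.leaf [1, 2, 3, 4, 5, 6, 7, 3, 2, 1, 4, 3, 2, 5, 7, 8, 7, 3, 2, 1, 4]) (.leaf [1, 2, 3, 4, 5, 6, 7, 3, 2, 1, 4, 3, 2, 5, 8, 7, 3, 2, 1, 0, 4, 3, 2, 1, 7, 8]) (.leaf [1, 2, 3, 4, 5, 6, 7, 3, 2, 1, 4, 3, 5, 4, 8, 7, 3, 2, 1, 0, 4, 3, 2, 5, 4, 3, 7, 3, 2, 8])) (.node (.leaf [1, 0, 2, 3, 4, 5, 7, 3, 2, 4, 3, 8, 7, 3, 4, 5]) (.leaf [1, 2, 3, 4, 5, 6, 7, 3, 2, 1, 4, 3, 5, 8, 7, 3, 2, 4, 3, 5, 4, 6]) (.leaf [1, 2, 3, 4, 5, 6, 7, 3, 2, 1, 4, 3, 2, 5, 8, 7, 3, 2, 1, 0, 4, 3, 2, 1, 5, 7, 8]) (.leaf [1, 2, 3, 4, 5, 6, 7, 3, 2, 1, 4, 3, 2, 5, 4, 8, 7, 3,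 2, 1, 0, 4, 3, 2, 1, 5, 4, 7, 3, 2, 8, 7, 3])) (.node (.leaf [1, 0, 2, 3, 4, 5, 6, 7, 3, 2, 4, 5, 8, 7, 3, 2, 4, 5]) (.leaf [1, 2, 3, 4, 5, 6, 7, 3, 2, 4, 3, 5, 7, 8, 7, 3, 2, 1, 4, 3, 2, 5, 6]) (.leaf [1, 2, 3, 4, 5, 6, 7, 3, 2, 1, 4, 3, 2, 5, 8, 7, 3, 2, 1, 0, 4, 3, 2, 1, 5, 4, 3, 7]) (.leaf [])) (.node (.leaf [1, 2, 3, 4, 5, 6, 7, 3, 2, 4, 3, 5, 4, 8, 7, 3, 4, 5, 6]) (.leaf [1, 2, 3, 4, 5, 6, 7, 3, 2, 1, 4, 3, 2, 5, 7, 3, 8, 7, 3, 2, 1, 4, 3, 2, 7]) (.leaf [1, 2, 3, 4, 5, 6, 7, 3, 2, 1, 4, 3, 2, 5, 8, 7, 3, 2, 1, 0, 4, 3, 2, 5, 4, 6, 7, 3, 8]) (.leaf []))) (.node (.node (.leaf [1, 2, 3, 4, 5, 7, 3, 2, 1, 4, 3, 2, 8]) (.leaf [1, 2, 3,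 4, 5, 6, 7, 3, 2, 1, 4, 3, 7, 8, 7, 3, 2, 1, 4, 3, 5]) (.leaf [1, 2, 3, 4, 5, 6, 7, 3, 2, 1, 4, 3, 5, 4, 8, 7, 3, 2, 1, 0, 4, 3, 2, 5, 7, 3]) (.leaf [1, 2, 3, 4, 5, 6, 7, 3, 2, 1, 4, 3, 2, 5, 4, 7, 8, 7, 3, 2, 1, 4, 3, 2, 5, 7, 3, 4, 8, 7, 3])) (.node (.leaf [1, 2, 3, 4, 5, 6, 7, 3, 2, 4, 3, 5, 4, 7, 3, 8]) (.leaf [1, 2, 3, 4, 5, 6, 7, 3, 2, 4, 3, 5, 7, 8, 7, 3, 2, 1, 4, 3, 2, 7]) (.leaf [1, 2, 3, 4, 5, 6, 7, 3, 2, 1, 4, 3, 5, 4, 8, 7, 3, 2, 1, 0, 4, 3, 2, 5, 7, 3, 4]) (.leaf [])) (.node (.leaf [1, 2, 3, 4, 5, 6, 7, 3, 2, 1, 4, 5, 8, 7, 3, 2, 4, 3]) (.leaf [1, 2, 3, 4, 5, 6, 7, 3, 2, 1, 4, 3, 2, 5, 8, 7, 3, 2, 1, 4, 3, 2, 5, 7]) (.leaf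 [1, 2, 3, 4, 5, 6, 7, 3, 2, 1, 4, 3, 5, 4, 8, 7, 3, 2, 1, 0, 4, 3, 2, 5, 4, 6, 7, 3]) (.leaf [])) (.node (.leaf [1, 0, 2, 3, 4, 5, 6, 7, 3, 2, 4, 5, 8, 7, 3, 2, 4, 3, 5, 7]) (.leaf [1, 2, 3, 4, 5, 6, 7, 3, 2, 1, 4, 3, 5, 4, 7, 8, 7, 3, 2, 4, 3, 5, 4, 7, 3]) (.leaf [1, 2, 3, 4, 5, 6, 7, 3, 2, 1, 4, 3, 5, 4, 8, 7, 3, 2, 1, 4, 3, 2, 5, 4, 6, 5, 7, 3, 4]) (.leaf [])))) (.node (.node (.node (.leaf [1, 2, 3, 4, 5, 6, 7]) (.leaf [1, 2, 3, 4, 5, 7, 3, 2, 1, 4, 3, 7, 8, 7, 3, 2, 1, 4, 3, 5]) (.leaf [1, 2, 3, 4, 5, 6, 7, 3, 2, 1, 4, 3, 8, 7, 3, 2, 1, 4, 3, 5, 4, 7, 3, 2, 1]) (.leaf [1, 2, 3, 4, 5, 6, 7, 3, 2, 1, 4, 3, 2, 5, 4, 8, 7, 3, 2, 1, 0, 4,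 3, 2, 1, 5, 4, 6, 7, 8])) (.node (.leaf [1, 2, 3, 4, 5, 6, 7, 3, 2, 4, 3, 8, 7, 3]) (.leaf [1, 2, 3, 4, 5, 6, 7, 3, 2, 4, 5, 8, 7, 3, 2, 1, 4, 3, 2, 7, 3]) (.leaf [1, 2, 3, 4, 5, 6, 7, 3, 2, 1, 4, 5, 8, 7, 3, 2, 1, 4, 3, 2, 5, 4, 7, 3, 2, 1]) (.leaf [1, 2, 3, 4, 5, 6, 7, 3, 2, 1, 4, 3, 5, 4, 7, 8, 7, 3, 2, 1, 4, 3, 2, 5, 4, 7, 3, 2, 1, 8, 7])) (.node (.leaf [1, 2, 3, 4, 5, 7, 3, 2, 1, 4, 3, 2, 7, 8, 7, 3, 2]) (.leaf [1, 2, 3, 4, 5, 6, 7, 3, 2, 1, 4, 3, 2, 8, 7, 3, 2, 4, 3, 5, 4, 6, 7]) (.leaf [1, 2, 3, 4, 5, 6, 7, 3, 2, 1, 4, 5, 8, 7, 3, 2, 1, 4, 3, 2, 5, 4, 7, 3, 2, 8, 7]) (.leaf [])) (.node (.leaf [1, 0, 2, 3, 4, 5, 6, 7, 3, 2, 4, 3,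 7, 8, 7, 3, 2, 4, 5]) (.leaf [1, 2, 3, 4, 5, 6, 7, 3, 2, 1, 4, 3, 5, 8, 7, 3, 2, 1, 0, 4, 3, 2, 7, 8]) (.leaf [1, 2, 3, 4, 5, 6, 7, 3, 2, 1, 4, 3, 2, 5, 4, 3, 8, 7, 3, 2, 1, 0, 4, 3, 2, 5, 7, 3, 8]) (.leaf []))) (.node (.node (.leaf [1, 0, 2, 1, 3, 4, 5, 7, 3, 4, 8]) (.leaf [1, 2, 3, 4, 5, 6, 7, 3, 2, 4, 5, 8, 7, 3, 2, 1, 0, 4, 5, 6]) (.leaf [1, 2, 3, 4, 5, 6, 7, 3, 2, 1, 4, 3, 2, 5, 4, 8, 7, 3, 2, 1, 0, 4, 3, 2, 5, 7]) (.leaf [1, 2, 3, 4, 5, 6, 7, 3, 2, 1, 4, 3, 2, 5, 8, 7, 3, 2, 1, 0, 4, 3, 2, 1, 5, 4, 6, 7, 3, 8])) (.node (.leaf [1, 2, 3, 4, 5, 7, 3, 2, 1, 4, 8, 7, 3, 2, 4]) (.leaf [1, 2, 3, 4, 5, 6, 7, 3, 2, 1, 4, 3, 2, 8, 7, 3, 2,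 1, 4, 3, 2, 5]) (.leaf [1, 2, 3, 4, 5, 6, 7, 3, 2, 1, 4, 3, 2, 5, 4, 8, 7, 3, 2, 1, 4, 3, 2, 5, 4, 6, 5]) (.leaf [1, 2, 3, 4, 5, 6, 7, 3, 2, 1, 4, 3, 2, 5, 4, 8, 7, 3, 2, 1, 4, 3, 2, 5, 4, 7, 3, 4, 8, 7, 3, 2])) (.node (.leaf [1, 2, 3, 4, 5, 7, 3, 2, 4, 3, 7, 8, 7, 3, 4, 5, 6]) (.leaf [1, 2, 3, 4, 5, 6, 7, 3, 2, 1, 4, 3, 7, 8, 7, 3, 2, 1, 4, 3, 5, 4, 7]) (.leaf [1, 2, 3, 4, 5, 6, 7, 3, 2, 1, 4, 3, 2, 5, 4, 8, 7, 3, 2, 1, 4, 3, 2, 5, 4, 6, 7, 8]) (.leaf [])) (.node (.leaf [1, 2, 3, 4, 5, 6, 7, 3, 2, 1, 4, 3, 7, 8, 7, 3, 4, 5, 6]) (.leaf [1, 2, 3, 4, 5, 6, 7, 3, 2, 4, 3, 5, 8, 7, 3, 2, 1, 4, 3, 2, 7, 3, 4, 5]) (.leaf [1, 2, 3, 4, 5, 6, 7,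 3, 2, 1, 4, 3, 2, 5, 4, 8, 7, 3, 2, 1, 4, 3, 2, 5, 4, 7, 3, 4, 5]) (.leaf []))) (.node (.node (.leaf [1, 0, 2, 1, 3, 4, 5, 6, 7, 3, 4, 5, 8]) (.leaf [1, 2, 3, 4, 5, 6, 7, 3, 2, 1, 4, 3, 2, 8, 7, 3, 2, 1, 4, 3, 2]) (.leaf [1, 2, 3, 4, 5, 6, 7, 3, 2, 1, 4, 3, 2, 5, 8, 7, 3, 2, 1, 4, 3, 2, 5, 4, 7, 3]) (.leaf [1, 2, 3, 4, 5, 6, 7, 3, 2, 1, 4, 3, 5, 4, 8, 7, 3, 2, 1, 4, 3, 2, 5, 4, 7, 3, 2, 1, 4, 8])) (.node (.leaf [1, 0, 2, 1, 3, 4, 5, 6, 7, 3, 4, 8, 7, 3, 2, 1, 0]) (.leaf [1, 2, 3, 4, 5, 6, 7, 3, 2, 1, 4, 3, 8, 7, 3, 2, 1, 4, 3, 5, 4, 7]) (.leaf [1, 2, 3, 4, 5, 6, 7, 3, 2, 1, 4, 3, 2, 5, 8, 7, 3, 2, 1, 4, 3, 2, 5, 4, 6, 7, 3]) (.leaf [1,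 2, 3, 4, 5, 6, 7, 3, 2, 1, 4, 3, 2, 5, 8, 7, 3, 2, 1, 4, 3, 2, 5, 4, 3, 7, 3, 4, 5, 8, 7, 3, 2])) (.node (.leaf [1, 2, 3, 4, 5, 6, 7, 3, 2, 1, 4, 3, 2, 5, 7, 3, 8, 7]) (.leaf [1, 2, 3, 4, 5, 6, 7, 3, 2, 1, 4, 3, 2, 5, 4, 3, 8, 7, 3, 2, 1, 4, 5, 6]) (.leaf [1, 2, 3, 4, 5, 6, 7, 3, 2, 1, 4, 3, 2, 5, 8, 7, 3, 2, 1, 0, 4, 3, 5, 4, 7, 3, 2, 8]) (.leaf [])) (.node (.leaf [1, 2, 3, 4, 5, 6, 7, 3, 2, 4, 3, 7, 8, 7, 3, 2, 4, 5, 6]) (.leaf [1, 2, 3, 4, 5, 6, 7, 3, 2, 1, 4, 3, 2, 5, 8, 7, 3, 2, 1, 0, 4, 3, 2, 1, 7]) (.leaf [1, 2, 3, 4, 5, 6, 7, 3, 2, 1, 4, 3, 2, 5, 8, 7, 3, 2, 1, 4, 3, 2, 5, 4, 6, 7, 3, 8, 7]) (.leaf []))) (.node (.node (.leaf [1,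 2, 3, 4, 5, 6, 7, 3, 2, 4, 3, 5, 8]) (.leaf [1, 2, 3, 4, 5, 6, 7, 3, 2, 1, 4, 3, 8, 7, 3, 2, 4, 3, 5, 4, 7]) (.leaf [1, 2, 3, 4, 5, 6, 7, 3, 2, 1, 4, 3, 5, 4, 8, 7, 3, 2, 1, 4, 3, 2, 5, 7, 3, 4]) (.leaf [1, 2, 3, 4, 5, 6, 7, 3, 2, 1, 4, 3, 2, 5, 4, 8, 7, 3, 2, 1, 0, 4, 3, 2, 5, 7, 3, 4, 5, 8, 7])) (.node (.leaf [1, 2, 3, 4, 5, 7, 3, 2, 4, 3, 8, 7, 3, 2, 4, 3]) (.leaf [1, 2, 3, 4, 5, 6, 7, 3, 4, 5, 8, 7, 3, 2, 1, 4, 3, 2, 7, 3, 4, 5]) (.leaf [1, 2, 3, 4, 5, 6, 7, 3, 2, 1, 4, 3, 5, 4, 8, 7, 3, 2, 1, 4, 3, 2, 5, 7, 3, 4, 5]) (.leaf [])) (.node (.leaf [1, 2, 3, 4, 5, 6, 7, 3, 2, 1, 8, 7, 3, 2, 4, 3, 5, 6]) (.leaf [1, 2, 3, 4, 5, 6, 7, 3, 2,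 1, 4, 3, 2, 8, 7, 3, 2, 1, 0, 4, 3, 5, 4, 7]) (.leaf [1, 2, 3, 4, 5, 6, 7, 3, 2, 1, 4, 3, 5, 4, 8, 7, 3, 2, 1, 4, 3, 2, 5, 4, 6, 7, 3, 8]) (.leaf [])) (.node (.leaf [1, 2, 3, 4, 5, 6, 7, 3, 2, 1, 4, 3, 2, 5, 8, 7, 3, 2, 4, 3]) (.leaf [1, 2, 3, 4, 5, 6, 7, 3, 2, 1, 4, 3, 5, 4, 8, 7, 3, 2, 1, 4, 3, 2, 5, 4, 7]) (.leaf [1, 2, 3, 4, 5, 6, 7, 3, 2, 1, 4, 3, 5, 4, 8, 7, 3, 2, 1, 4, 3, 5, 4, 7, 3, 2, 1, 8, 7]) (.leaf [])))) (.node (.node (.node (.leaf [1, 0, 2, 1, 3, 2, 4, 5, 7, 8]) (.leaf [1, 2, 3, 4, 5, 6, 7, 3, 2, 1, 4, 5, 8, 7, 3, 2, 4, 3, 5, 7]) (.leaf [1, 2, 3, 4, 5, 6, 7, 3, 2, 1, 4, 5, 8, 7, 3, 2, 1, 4, 3, 2, 5, 7, 3, 4, 5]) (.leaf [1,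 2, 3, 4, 5, 6, 7, 3, 2, 1, 4, 3, 2, 5, 4, 8, 7, 3, 2, 1, 0, 4, 3, 2, 5, 4, 7, 3, 4, 5])) (.node (.leaf [1, 0, 2, 3, 4, 5, 6, 7, 3, 2, 4, 3, 5, 4, 7]) (.leaf [1, 0, 2, 3, 4, 5, 6, 7, 3, 2, 4, 3, 5, 7, 8, 7, 3, 2, 4, 3, 5, 4]) (.leaf [1, 2, 3, 4, 5, 6, 7, 3, 2, 4, 3, 5, 8, 7, 3, 2, 1, 4, 3, 2, 5, 4, 7, 3, 4, 5]) (.leaf [1, 2, 3, 4, 5, 6, 7, 3, 2, 1, 4, 3, 5, 4, 8, 7, 3, 2, 1, 4, 3, 2, 5, 4, 7, 3, 2, 4, 8, 7, 3])) (.node (.leaf [1, 2, 3, 4, 5, 7, 3, 2, 1, 4, 3, 7, 8, 7, 3, 2, 1]) (.leaf [1, 2, 3, 4, 5, 6, 7, 3, 2, 1, 4, 3, 5, 4, 8, 7, 3, 2, 1, 0, 4, 5, 6]) (.leaf [1, 2, 3, 4, 5, 6, 7, 3, 2, 1, 4, 3, 2, 5, 4, 3, 8, 7, 3, 2, 1, 4, 3, 2, 5, 7,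 3, 8]) (.leaf [])) (.node (.leaf [1, 0, 2, 3, 4, 5, 6, 7, 3, 4, 5, 8, 7, 3, 2, 1, 0, 4, 3]) (.leaf [1, 2, 3, 4, 5, 6, 7, 3, 2, 1, 4, 3, 5, 8, 7, 3, 2, 1, 4, 3, 5, 4, 7, 8]) (.leaf [1, 2, 3, 4, 5, 6, 7, 3, 2, 1, 4, 3, 2, 5, 4, 3, 8, 7, 3, 2, 4, 3, 5, 4, 6, 7, 3, 8, 7]) (.leaf []))) (.node (.node (.leaf [1, 2, 3, 4, 5, 6, 7, 3, 4, 8]) (.leaf [1, 0, 2, 3, 4, 5, 6, 7, 3, 2, 4, 3, 5, 4, 8, 7, 3, 2, 4, 5, 6]) (.leaf [1, 2, 3, 4, 5, 6, 7, 3, 2, 1, 4, 3, 2, 5, 4, 8, 7, 3, 2, 1, 4, 3, 5, 4, 6, 7]) (.leaf [1, 2, 3, 4, 5, 6, 7, 3, 2, 1, 4, 3, 2, 5, 8, 7, 3, 2, 1, 4, 3, 2, 5, 4, 3, 7, 3, 4, 8, 7])) (.node (.leaf [1, 2, 3, 4, 5, 6, 7, 3, 2, 4, 3, 8,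 7, 3, 2]) (.leaf [1, 2, 3, 4, 5, 6, 7, 3, 2, 1, 4, 3, 5, 4, 7, 8, 7, 3, 2, 4, 3, 7]) (.leaf [1, 2, 3, 4, 5, 6, 7, 3, 2, 1, 4, 3, 2, 5, 4, 8, 7, 3, 2, 4, 3, 5, 4, 6, 5, 7, 3]) (.leaf [1, 2, 3, 4, 5, 6, 7, 3, 2, 1, 4, 3, 2, 5, 8, 7, 3, 2, 1, 4, 3, 2, 5, 4, 3, 7, 3, 4, 5, 8, 7, 3])) (.node (.leaf [1, 2, 3, 4, 5, 6, 7, 3, 4, 5, 8, 7, 3, 2, 1, 0, 4]) (.leaf [1, 2, 3, 4, 5, 6, 7, 3, 2, 1, 4, 5, 8, 7, 3, 2, 1, 4, 3, 2, 5, 6, 7]) (.leaf [1, 2, 3, 4, 5, 6, 7, 3, 2, 1, 4, 3, 2, 5, 4, 8, 7, 3, 2, 1, 4, 3, 5, 4, 7, 3, 8, 7]) (.leaf [])) (.node (.leaf [1, 2, 3, 4, 5, 7, 3, 2, 1, 4, 3, 8, 7, 3, 2, 1, 4, 3, 5]) (.leaf [1, 2, 3, 4, 5, 6, 7, 3, 2, 1, 4,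 3, 2, 5, 4, 3, 8, 7, 3, 2, 4, 3, 5, 6, 7]) (.leaf [1, 2, 3, 4, 5, 6, 7, 3, 2, 1, 4, 3, 2, 5, 4, 8, 7, 3, 2, 4, 3, 5, 4, 6, 7, 3, 2, 1, 8]) (.leaf []))) (.node (.node (.leaf [1, 2, 3, 4, 5, 6, 7, 3, 2, 4, 3, 7]) (.leaf [1, 2, 3, 4, 5, 6, 7, 3, 2, 1, 4, 3, 7, 8, 7, 3, 2, 4, 3, 7, 8]) (.leaf [1, 2, 3, 4, 5, 6, 7, 3, 2, 1, 4, 3, 2, 5, 8, 7, 3, 2, 4, 3, 5, 4, 6, 7, 3, 8]) (.leaf [1, 2, 3, 4, 5, 6, 7, 3, 2, 1, 4, 3, 5, 8, 7, 3, 2, 1, 4, 3, 2, 5, 4, 3, 7, 3, 2, 4, 5, 8])) (.node (.leaf [1, 2, 3, 4, 5, 7, 3, 2, 1, 4, 3, 2, 8, 7, 3, 4]) (.leaf [1, 2, 3, 4, 5, 6, 7, 3, 2, 1, 4, 5, 8, 7, 3, 2, 1, 4, 3, 5, 7, 8]) (.leaf [1, 2, 3, 4, 5, 6, 7, 3, 2,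 1, 4, 3, 2, 5, 8, 7, 3, 2, 1, 4, 3, 5, 4, 7, 3, 2, 8]) (.leaf [])) (.node (.leaf [1, 2, 3, 4, 5, 7, 3, 2, 1, 4, 3, 2, 8, 7, 3, 2, 4, 5]) (.leaf [1, 2, 3, 4, 5, 6, 7, 3, 2, 1, 4, 3, 2, 5, 4, 8, 7, 3, 2, 1, 4, 3, 2, 7]) (.leaf [1, 2, 3, 4, 5, 6, 7, 3, 2, 1, 4, 3, 2, 5, 8, 7, 3, 2, 1, 4, 3, 2, 5, 7, 3, 4, 5, 6]) (.leaf [])) (.node (.leaf [1, 2, 3, 4, 5, 6, 7, 3, 2, 4, 5, 8, 7, 3, 2, 4, 3, 7, 8]) (.leaf [1, 2, 3, 4, 5, 6, 7, 3, 2, 1, 4, 3, 2, 5, 8, 7, 3, 2, 1, 4, 3, 2, 7, 3, 4]) (.leaf [1, 2, 3, 4, 5, 6, 7, 3, 2, 1, 4, 3, 2, 5, 8, 7, 3, 2, 1, 4, 3, 2, 7, 3, 4, 5, 6, 8, 7]) (.leaf []))) (.node (.node (.leaf [1, 0, 2, 3, 4, 5, 6, 7, 3, 2, 4,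 3, 5, 7]) (.leaf [1, 2, 3, 4, 5, 6, 7, 3, 2, 1, 4, 8, 7, 3, 2, 1, 0, 4, 3, 5, 6]) (.leaf [1, 2, 3, 4, 5, 6, 7, 3, 2, 1, 4, 3, 5, 7, 8, 7, 3, 2, 1, 0, 4, 3, 5, 4, 7, 8]) (.leaf [1, 2, 3, 4, 5, 6, 7, 3, 2, 1, 4, 3, 2, 5, 4, 8, 7, 3, 2, 1, 4, 3, 2, 5, 7, 3, 4, 5, 6, 8, 7])) (.node (.leaf [1, 0, 2, 3, 4, 5, 6, 7, 3, 2, 4, 3, 5, 4, 7, 3, 2]) (.leaf [1, 2, 3, 4, 5, 6, 7, 3, 2, 1, 4, 3, 2, 5, 4, 7, 8, 7, 3, 2, 4, 3, 7]) (.leaf [1, 2, 3, 4, 5, 6, 7, 3, 2, 1, 4, 3, 5, 7, 8, 7, 3, 2, 1, 4, 3, 2, 5, 4, 3, 7, 3]) (.leaf [])) (.node (.leaf [1, 2, 3, 4, 5, 6, 7, 3, 2, 4, 3, 5, 8, 7, 3, 4, 5, 6]) (.leaf [1, 2, 3, 4, 5, 6, 7, 3, 2, 1, 4, 3, 5, 4, 7, 8,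 7, 3, 2, 4, 3, 5, 4, 6]) (.leaf [1, 2, 3, 4, 5, 6, 7, 3, 2, 1, 4, 3, 5, 4, 8, 7, 3, 2, 4, 3, 5, 4, 7, 3, 2, 1, 8, 7]) (.leaf [])) (.node (.leaf [1, 2, 3, 4, 5, 7, 3, 2, 1, 4, 3, 2, 7, 8, 7, 3, 2, 1, 4, 3]) (.leaf [1, 2, 3, 4, 5, 6, 7, 3, 2, 1, 4, 3, 5, 7, 8, 7, 3, 2, 1, 0, 4, 3, 2, 1, 5]) (.leaf [1, 2, 3, 4, 5, 6, 7, 3, 2, 1, 4, 3, 5, 8, 7, 3, 2, 1, 4, 3, 2, 5, 4, 3, 7, 3, 2, 8, 7]) (.leaf [])))))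
def pathTree11 : SporBound.Q (List ℕ) := (.node (.node (.node (.node (.leaf [1, 0, 2, 1, 3]) (.leaf [1, 2, 3, 4, 5, 6, 7, 3, 2, 1, 4, 3, 5, 4, 8, 7, 3, 2, 4, 3]) (.leaf [1, 2, 3, 4, 5, 6, 7, 3, 2, 1, 4, 3, 5, 7, 8, 7, 3, 2, 4, 3, 5, 4, 6, 7, 8]) (.leaf [1, 2, 3, 4, 5, 6, 7, 3, 2, 1, 4, 5, 8, 7, 3, 2, 1, 4, 3, 2, 5, 4, 7, 3, 2, 4, 5, 8, 7])) (.node (.leaf [1, 0, 2, 1, 3, 4, 5, 6, 7, 3, 4, 8, 7, 3, 2]) (.leaf [1, 2, 3, 4, 5, 6, 7, 3, 2, 4, 3, 5, 4, 8, 7, 3, 2, 4, 3, 5, 4]) (.leaf [1, 2, 3, 4, 5, 6, 7, 3, 2, 1, 4, 3, 5, 8, 7, 3, 2, 1, 0, 4, 3, 5, 4, 7, 3, 8]) (.leaf [1, 2, 3, 4, 5, 6, 7, 3, 2, 1, 4, 3, 2, 5, 8, 7, 3, 2, 1, 0, 4, 3, 2, 1, 5,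 4, 7, 3, 2, 8, 7])) (.node (.leaf [1, 0, 2, 3, 4, 5, 7, 3, 2, 4, 3, 8, 7, 3, 2, 4, 3]) (.leaf [1, 2, 3, 4, 5, 6, 7, 3, 2, 1, 4, 3, 2, 5, 7, 8, 7, 3, 2, 1, 4, 3, 5]) (.leaf [1, 2, 3, 4, 5, 6, 7, 3, 2, 1, 4, 3, 5, 8, 7, 3, 2, 1, 4, 3, 2, 5, 4, 6, 7, 3, 4]) (.leaf [])) (.node (.leaf [1, 2, 3, 4, 5, 7, 3, 2, 4, 3, 8, 7, 3, 2, 4, 3, 5, 6]) (.leaf [1, 2, 3, 4, 5, 6, 7, 3, 2, 1, 4, 3, 5, 4, 8, 7, 3, 2, 1, 4, 3, 5, 4, 7]) (.leaf [1, 2, 3, 4, 5, 6, 7, 3, 2, 1, 4, 3, 5, 8, 7, 3, 2, 1, 4, 3, 2, 5, 4, 3, 7, 3, 8, 7]) (.leaf []))) (.node (.node (.leaf [1, 0, 2, 3, 4, 7, 3, 8, 7]) (.leaf [1, 2, 3, 4, 5, 6, 7, 3, 2, 4, 3, 5, 4, 8, 7, 3, 2, 1, 0, 4]) (.leaf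 [1, 2, 3, 4, 5, 6, 7, 3, 2, 4, 3, 5, 8, 7, 3, 2, 1, 4, 3, 2, 5, 7, 3, 4, 5]) (.leaf [1, 2, 3, 4, 5, 6, 7, 3, 2, 1, 4, 3, 2, 5, 4, 8, 7, 3, 2, 1, 4, 3, 2, 5, 4, 7, 3, 2, 1, 8])) (.node (.leaf [1, 0, 2, 3, 4, 5, 6, 7, 3, 4, 5, 8, 7, 3, 2]) (.leaf [1, 2, 3, 4, 5, 6, 7, 3, 2, 1, 4, 3, 2, 5, 4, 8, 7, 3, 2, 1, 4, 5]) (.leaf [1, 2, 3, 4, 5, 6, 7, 3, 2, 1, 4, 3, 2, 5, 4, 3, 8, 7, 3, 2, 4, 3, 5, 4, 6, 7, 8]) (.leaf [1, 2, 3, 4, 5, 6, 7, 3, 2, 1, 4, 3, 2, 5, 4, 3, 8, 7, 3, 2, 1, 4, 3, 2, 7, 3, 4, 5, 8, 7, 3, 2])) (.node (.leaf [1, 2, 3, 4, 5, 7, 3, 2, 1, 4, 8, 7, 3, 2, 1, 4, 3]) (.leaf [1, 2, 3, 4, 5, 6, 7, 3, 2, 1, 4, 3, 5, 7, 8, 7, 3, 2, 1, 4,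 3, 5, 6]) (.leaf [1, 2, 3, 4, 5, 6, 7, 3, 2, 1, 4, 3, 2, 5, 4, 7, 8, 7, 3, 2, 1, 4, 3, 5, 4, 7, 3, 2]) (.leaf [])) (.node (.leaf [1, 2, 3, 4, 5, 6, 7, 3, 2, 1, 4, 3, 2, 8, 7, 3, 2, 4, 3]) (.leaf [1, 2, 3, 4, 5, 6, 7, 3, 2, 1, 4, 5, 8, 7, 3, 2, 1, 0, 4, 3, 5, 6, 7, 8]) (.leaf [1, 2, 3, 4, 5, 6, 7, 3, 2, 1, 4, 3, 2, 5, 4, 8, 7, 3, 2, 1, 0, 4, 3, 2, 1, 5, 7, 3, 4]) (.leaf []))) (.node (.node (.leaf [1, 0, 2, 1, 3, 2, 4, 3, 5, 4, 6]) (.leaf [1, 0, 2, 3, 4, 5, 6, 7, 3, 2, 4, 5, 8, 7, 3, 2, 4, 3, 5, 6, 7]) (.leaf [1, 2, 3, 4, 5, 6, 7, 3, 2, 1, 4, 3, 2, 5, 7, 8, 7, 3, 2, 1, 0, 4, 3, 2, 5, 7]) (.leaf [1, 2, 3, 4, 5, 6, 7, 3, 2, 1, 4, 3, 2, 5, 8,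 7, 3, 2, 1, 4, 3, 2, 5, 6, 7, 3, 4, 5, 8, 7])) (.node (.leaf [1, 2, 3, 4, 5, 6, 7, 3, 4, 5, 8, 7, 3, 2, 1]) (.leaf [1, 2, 3, 4, 5, 6, 7, 3, 2, 1, 4, 3, 5, 7, 8, 7, 3, 2, 1, 4, 5, 6]) (.leaf [1, 2, 3, 4, 5, 6, 7, 3, 2, 1, 4, 3, 2, 5, 7, 8, 7, 3, 2, 1, 0, 4, 3, 2, 5, 7, 8]) (.leaf [1, 2, 3, 4, 5, 6, 7, 3, 2, 1, 4, 3, 5, 4, 8, 7, 3, 2, 1, 0, 4, 3, 2, 5, 4, 7, 3, 2, 4, 8, 7, 3])) (.node (.leaf [1, 0, 2, 3, 4, 5, 6, 7, 3, 2, 4, 3, 8, 7, 3, 2, 1, 0]) (.leaf [1, 2, 3, 4, 5, 6, 7, 3, 2, 4, 3, 5, 4, 7, 8, 7, 3, 2, 1, 4, 3, 5, 4]) (.leaf [1, 2, 3, 4, 5, 6, 7, 3, 2, 1, 4, 3, 2, 5, 7, 8, 7, 3, 2, 1, 0, 4, 3, 2, 5, 4, 7, 3]) (.leaf [])) (.node (.leaf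 [1, 2, 3, 4, 5, 6, 7, 3, 2, 1, 4, 8, 7, 3, 2, 4, 3, 5, 7]) (.leaf [1, 2, 3, 4, 5, 6, 7, 3, 2, 1, 4, 3, 2, 5, 4, 8, 7, 3, 2, 1, 4, 3, 2, 5, 6]) (.leaf [1, 2, 3, 4, 5, 6, 7, 3, 2, 1, 4, 3, 2, 5, 7, 8, 7, 3, 2, 1, 4, 3, 2, 5, 4, 7, 3, 4, 8]) (.leaf []))) (.node (.node (.leaf [1, 0, 2, 3, 4, 5, 7, 3, 2, 4, 3, 8, 7]) (.leaf [1, 2, 3, 4, 5, 6, 7, 3, 2, 1, 4, 3, 5, 7, 8, 7, 3, 2, 4, 3, 7]) (.leaf [1, 2, 3, 4, 5, 6, 7, 3, 2, 1, 4, 3, 5, 4, 7, 8, 7, 3, 2, 1, 4, 3, 5, 4, 6, 7]) (.leaf [1, 2, 3, 4, 5, 6, 7, 3, 2, 1, 4, 3, 2, 5, 4, 3, 8, 7, 3, 2, 1, 4, 3, 2, 7, 3, 4, 5, 6, 8, 7])) (.node (.leaf [1, 2, 3, 4, 5, 6, 7, 3, 2, 1, 4, 8, 7, 3, 2, 4]) (.leaf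 [1, 2, 3, 4, 5, 6, 7, 3, 2, 4, 3, 5, 4, 8, 7, 3, 2, 1, 0, 4, 3, 7]) (.leaf [1, 2, 3, 4, 5, 6, 7, 3, 2, 1, 4, 3, 5, 4, 7, 8, 7, 3, 2, 1, 4, 3, 5, 4, 6, 7, 8]) (.leaf [])) (.node (.leaf [1, 2, 3, 4, 5, 6, 7, 3, 2, 1, 4, 3, 8, 7, 3, 2, 4, 5]) (.leaf [1, 2, 3, 4, 5, 6, 7, 3, 2, 1, 4, 3, 2, 5, 7, 8, 7, 3, 2, 1, 4, 3, 2, 7]) (.leaf [1, 2, 3, 4, 5, 6, 7, 3, 2, 1, 4, 3, 5, 4, 7, 8, 7, 3, 2, 1, 4, 3, 2, 5, 4, 7, 3, 2]) (.leaf [])) (.node (.leaf [1, 0, 2, 3, 4, 5, 6, 7, 3, 2, 4, 3, 5, 8, 7, 3, 2, 1, 4, 3]) (.leaf [1, 2, 3, 4, 5, 6, 7, 3, 2, 1, 4, 3, 2, 8, 7, 3, 2, 4, 3, 5, 4, 6, 7, 3, 2]) (.leaf [1, 2, 3, 4, 5, 6, 7, 3, 2, 1, 4, 3, 5, 4, 8, 7, 3,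 2, 1, 0, 4, 3, 2, 5, 4, 3, 7, 3, 8]) (.leaf [])))) (.node (.node (.node (.leaf [1, 0, 2, 1, 3, 7]) (.leaf [1, 2, 3, 4, 5, 6, 7, 3, 2, 1, 4, 3, 7, 8, 7, 3, 2, 1, 4, 5]) (.leaf [1, 2, 3, 4, 5, 6, 7, 3, 2, 1, 4, 3, 5, 8, 7, 3, 2, 1, 4, 3, 2, 5, 6, 7, 3]) (.leaf [1, 2, 3, 4, 5, 6, 7, 3, 2, 1, 4, 3, 2, 5, 4, 3, 8, 7, 3, 2, 4, 3, 5, 4, 6, 7, 3, 2, 1, 8])) (.node (.leaf [1, 2, 3, 4, 5, 6, 7, 3, 2, 1, 4, 8, 7, 3]) (.leaf [1, 2, 3, 4, 5, 6, 7, 3, 2, 4, 3, 5, 8, 7, 3, 2, 1, 0, 4, 5, 6]) (.leaf [1, 2, 3, 4, 5, 6, 7, 3, 2, 1, 4, 3, 5, 8, 7, 3, 2, 4, 3, 5, 4, 7, 3, 2, 1, 0]) (.leaf [1, 2, 3, 4, 5, 6, 7, 3, 2, 1, 4, 3, 2, 5, 8, 7, 3, 2, 1, 4, 3, 2, 5,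 4, 7, 3, 2, 1, 0, 8, 7])) (.node (.leaf [1, 0, 2, 1, 3, 4, 5, 6, 7, 3, 4, 5, 8, 7, 3, 2, 1, 0]) (.leaf [1, 2, 3, 4, 5, 6, 7, 3, 2, 1, 4, 3, 2, 5, 8, 7, 3, 2, 4, 3, 5, 4, 7]) (.leaf [1, 2, 3, 4, 5, 6, 7, 3, 2, 1, 4, 3, 8, 7, 3, 2, 1, 4, 3, 2, 5, 4, 3, 7, 3, 2, 1]) (.leaf [])) (.node (.leaf [1, 0, 2, 3, 4, 5, 6, 7, 3, 2, 4, 3, 5, 4, 7, 8, 7, 3, 4]) (.leaf [1, 2, 3, 4, 5, 6, 7, 3, 2, 1, 4, 3, 5, 7, 8, 7, 3, 2, 1, 4, 3, 2, 5, 7]) (.leaf [1, 2, 3, 4, 5, 6, 7, 3, 2, 1, 4, 5, 8, 7, 3, 2, 1, 0, 4, 3, 2, 5, 4, 6, 7, 3, 8, 7]) (.leaf []))) (.node (.node (.leaf [1, 2, 3, 4, 5, 7, 3, 2, 8]) (.leaf [1, 2, 3, 4, 5, 6, 7, 3, 2, 4, 3, 5, 8, 7, 3, 2, 1,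 4, 3, 7]) (.leaf [1, 2, 3, 4, 5, 6, 7, 3, 2, 1, 4, 3, 2, 5, 4, 3, 8, 7, 3, 2, 4, 3, 5, 4, 7, 3]) (.leaf [1, 2, 3, 4, 5, 6, 7, 3, 2, 1, 4, 3, 2, 5, 7, 3, 8, 7, 3, 2, 1, 0, 4, 3, 2, 1, 7, 3, 8, 7])) (.node (.leaf [1, 2, 3, 4, 5, 7, 3, 2, 1, 4, 3, 2, 7, 8, 7]) (.leaf [1, 2, 3, 4, 5, 6, 7, 3, 2, 1, 4, 3, 2, 5, 8, 7, 3, 2, 1, 4, 3, 7]) (.leaf [1, 2, 3, 4, 5, 6, 7, 3, 2, 1, 4, 3, 2, 5, 4, 8, 7, 3, 2, 1, 0, 4, 3, 2, 5, 4, 3]) (.leaf [1, 2, 3, 4, 5, 6, 7, 3, 2, 1, 4, 3, 2, 5, 4, 8, 7, 3, 2, 1, 0, 4, 3, 2, 5, 4, 6, 5, 7, 3, 8, 7])) (.node (.leaf [1, 2, 3, 4, 5, 6, 7, 3, 2, 4, 3, 5, 8, 7, 3, 2, 1]) (.leaf [1, 2, 3, 4, 5, 6, 7, 3, 2, 1, 4, 3, 5, 8,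 7, 3, 2, 1, 4, 3, 2, 5, 7]) (.leaf [1, 2, 3, 4, 5, 6, 7, 3, 2, 1, 4, 3, 2, 5, 4, 8, 7, 3, 2, 1, 0, 4, 3, 2, 5, 6, 7, 8]) (.leaf [])) (.node (.leaf [1, 2, 3, 4, 5, 6, 7, 3, 2, 1, 4, 3, 5, 4, 8, 7, 3, 2, 1]) (.leaf [1, 2, 3, 4, 5, 6, 7, 3, 2, 1, 4, 8, 7, 3, 2, 1, 4, 3, 5, 4, 7, 3, 2, 1]) (.leaf [1, 2, 3, 4, 5, 6, 7, 3, 2, 1, 4, 3, 2, 5, 4, 8, 7, 3, 2, 1, 0, 4, 3, 2, 7, 3, 4, 5, 8]) (.leaf []))) (.node (.node (.leaf [1, 2, 3, 4, 5, 6, 7, 3, 4, 5, 8]) (.leaf [1, 2, 3, 4, 5, 6, 7, 3, 2, 1, 4, 3, 2, 5, 7, 8, 7, 3, 2, 4, 3]) (.leaf [1, 2, 3, 4, 5, 6, 7, 3, 2, 1, 4, 3, 2, 5, 8, 7, 3, 2, 1, 0, 4, 3, 2, 5, 4, 3]) (.leaf [1, 2, 3, 4, 5, 6, 7, 3, 2,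 1, 4, 3, 5, 4, 8, 7, 3, 2, 1, 0, 4, 3, 2, 5, 4, 3, 7, 3, 8, 7])) (.node (.leaf [1, 0, 2, 3, 4, 5, 6, 7, 3, 2, 4, 5, 8, 7, 3, 2]) (.leaf [1, 2, 3, 4, 5, 6, 7, 3, 2, 1, 4, 3, 5, 8, 7, 3, 2, 4, 3, 5, 4, 7]) (.leaf [1, 2, 3, 4, 5, 6, 7, 3, 2, 1, 4, 3, 2, 5, 8, 7, 3, 2, 1, 0, 4, 3, 2, 5, 4, 3, 7]) (.leaf [1, 2, 3, 4, 5, 6, 7, 3, 2, 1, 4, 3, 2, 5, 4, 8, 7, 3, 2, 1, 0, 4, 3, 2, 1, 5, 4, 7, 3, 4, 8, 7, 3])) (.node (.leaf [1, 0, 2, 3, 4, 5, 6, 7, 3, 2, 4, 5, 8, 7, 3, 4, 5, 6]) (.leaf [1, 2, 3, 4, 5, 6, 7, 3, 2, 4, 3, 5, 7, 8, 7, 3, 2, 1, 4, 3, 2, 5, 7]) (.leaf [1, 2, 3, 4, 5, 6, 7, 3, 2, 1, 4, 3, 2, 5, 8, 7, 3, 2, 1, 0, 4, 3, 2, 1, 5, 4, 6, 7])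 (.leaf [])) (.node (.leaf [1, 2, 3, 4, 5, 6, 7, 3, 2, 4, 3, 5, 7, 8, 7, 3, 2, 1, 0]) (.leaf [1, 2, 3, 4, 5, 6, 7, 3, 2, 1, 4, 3, 2, 5, 7, 3, 8, 7, 3, 2, 1, 4, 3, 7, 8]) (.leaf [1, 2, 3, 4, 5, 6, 7, 3, 2, 1, 4, 3, 2, 5, 8, 7, 3, 2, 1, 0, 4, 3, 2, 5, 4, 7, 3, 2, 4]) (.leaf []))) (.node (.node (.leaf [1, 2, 3, 4, 5, 6, 7, 3, 2, 1, 4, 3, 5]) (.leaf [1, 2, 3, 4, 5, 6, 7, 3, 2, 1, 4, 3, 7, 8, 7, 3, 2, 1, 4, 3, 7]) (.leaf [1, 2, 3, 4, 5, 6, 7, 3, 2, 1, 4, 3, 5, 4, 8, 7, 3, 2, 1, 0, 4, 3, 2, 5, 7, 8]) (.leaf [1, 2, 3, 4, 5, 6, 7, 3, 2, 1, 4, 3, 2, 5, 4, 7, 8, 7, 3, 2, 1, 4, 3, 5, 4, 7, 3, 2, 8, 7, 3])) (.node (.leaf [1, 2, 3, 4, 5, 6, 7, 3, 2,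 4, 3, 5, 4, 7, 8, 7]) (.leaf [1, 2, 3, 4, 5, 6, 7, 3, 2, 4, 3, 5, 7, 8, 7, 3, 2, 1, 4, 3, 5, 4]) (.leaf [1, 2, 3, 4, 5, 6, 7, 3, 2, 1, 4, 3, 5, 4, 8, 7, 3, 2, 1, 0, 4, 3, 2, 5, 7, 3, 8]) (.leaf [])) (.node (.leaf [1, 2, 3, 4, 5, 6, 7, 3, 2, 1, 4, 5, 8, 7, 3, 2, 4, 5]) (.leaf [1, 2, 3, 4, 5, 6, 7, 3, 2, 1, 4, 3, 2, 5, 8, 7, 3, 2, 1, 4, 3, 2, 7, 3]) (.leaf [1, 2, 3, 4, 5, 6, 7, 3, 2, 1, 4, 3, 5, 4, 8, 7, 3, 2, 1, 0, 4, 3, 2, 5, 4, 6, 7, 8]) (.leaf [])) (.node (.leaf [1, 0, 2, 3, 4, 5, 6, 7, 3, 2, 4, 8, 7, 3, 2, 1, 0, 4, 5, 6]) (.leaf [1, 2, 3, 4, 5, 6, 7, 3, 2, 1, 4, 3, 5, 4, 7, 8, 7, 3, 2, 4, 3, 5, 4, 7, 8]) (.leaf [1, 2, 3, 4, 5, 6, 7,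 3, 2, 1, 4, 3, 5, 4, 8, 7, 3, 2, 1, 4, 3, 2, 5, 4, 6, 5, 7, 3, 8]) (.leaf [])))) (.node (.node (.node (.leaf [1, 2, 3, 4, 5, 7, 8]) (.leaf [1, 2, 3, 4, 5, 7, 3, 2, 1, 4, 3, 7, 8, 7, 3, 2, 1, 4, 3, 7]) (.leaf [1, 2, 3, 4, 5, 6, 7, 3, 2, 1, 4, 3, 8, 7, 3, 2, 4, 3, 5, 4, 7, 3, 2, 1, 0]) (.leaf [1, 2, 3, 4, 5, 6, 7, 3, 2, 1, 4, 3, 2, 5, 4, 8, 7, 3, 2, 1, 0, 4, 3, 2, 1, 5, 4, 7, 3, 2])) (.node (.leaf [1, 2, 3, 4, 5, 7, 3, 2, 4, 3, 7, 8, 7, 3]) (.leaf [1, 2, 3, 4, 5, 6, 7, 3, 2, 4, 5, 8, 7, 3, 2, 1, 4, 3, 5, 6, 7]) (.leaf [1, 2, 3, 4, 5, 6, 7, 3, 2, 1, 4, 5, 8, 7, 3, 2, 1, 4, 3, 2, 5, 4, 7, 3, 2, 4]) (.leaf [1, 2, 3, 4, 5, 6, 7, 3, 2, 1, 4, 3,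 5, 4, 7, 8, 7, 3, 2, 1, 4, 3, 2, 5, 4, 7, 3, 2, 8, 7, 3])) (.node (.leaf [1, 2, 3, 4, 5, 7, 3, 2, 1, 4, 3, 2, 7, 8, 7, 3, 4]) (.leaf [1, 2, 3, 4, 5, 6, 7, 3, 2, 1, 4, 3, 2, 8, 7, 3, 2, 4, 3, 5, 4, 7, 3]) (.leaf [1, 2, 3, 4, 5, 6, 7, 3, 2, 1, 4, 5, 8, 7, 3, 2, 1, 4, 3, 2, 5, 4, 7, 3, 4, 5, 8]) (.leaf [])) (.node (.leaf [1, 0, 2, 3, 4, 5, 6, 7, 3, 2, 4, 3, 7, 8, 7, 3, 4, 5, 6]) (.leaf [1, 2, 3, 4, 5, 6, 7, 3, 2, 1, 4, 3, 5, 8, 7, 3, 2, 1, 0, 4, 3, 5, 4, 6]) (.leaf [1, 2, 3, 4, 5, 6, 7, 3, 2, 1, 4, 3, 2, 5, 4, 3, 8, 7, 3, 2, 1, 0, 4, 3, 2, 7, 3, 4, 5]) (.leaf []))) (.node (.node (.leaf [1, 0, 2, 1, 3, 4, 5, 6, 7, 3, 8]) (.leaf [1, 2, 3, 4,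 5, 6, 7, 3, 2, 4, 5, 8, 7, 3, 2, 1, 4, 3, 2, 5]) (.leaf [1, 2, 3, 4, 5, 6, 7, 3, 2, 1, 4, 3, 2, 5, 4, 8, 7, 3, 2, 1, 0, 4, 3, 2, 7, 3]) (.leaf [1, 2, 3, 4, 5, 6, 7, 3, 2, 1, 4, 3, 2, 5, 8, 7, 3, 2, 1, 0, 4, 3, 2, 1, 5, 4, 7, 3, 2, 8])) (.node (.leaf [1, 2, 3, 4, 5, 7, 3, 2, 1, 4, 8, 7, 3, 4, 5]) (.leaf [1, 2, 3, 4, 5, 6, 7, 3, 2, 1, 4, 3, 2, 8, 7, 3, 2, 1, 4, 3, 2, 7]) (.leaf [1, 2, 3, 4, 5, 6, 7, 3, 2, 1, 4, 3, 2, 5, 4, 8, 7, 3, 2, 1, 4, 3, 2, 5, 4, 6, 7]) (.leaf [1, 2, 3, 4, 5, 6, 7, 3, 2, 1, 4, 3, 2, 5, 4, 8, 7, 3, 2, 1, 4, 3, 2, 5, 7, 3, 4, 5, 6, 8, 7, 3])) (.node (.leaf [1, 2, 3, 4, 5, 7, 3, 2, 4, 3, 8, 7, 3, 2, 1, 0, 4]) (.leaf [1,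 2, 3, 4, 5, 6, 7, 3, 2, 1, 4, 3, 8, 7, 3, 2, 1, 0, 4, 3, 5, 4, 7]) (.leaf [1, 2, 3, 4, 5, 6, 7, 3, 2, 1, 4, 3, 2, 5, 4, 8, 7, 3, 2, 1, 4, 3, 2, 5, 4, 7, 3, 2]) (.leaf [])) (.node (.leaf [1, 2, 3, 4, 5, 6, 7, 3, 2, 1, 4, 3, 8, 7, 3, 2, 1, 0, 4]) (.leaf [1, 2, 3, 4, 5, 6, 7, 3, 2, 4, 3, 8, 7, 3, 2, 1, 4, 3, 2, 5, 4, 3, 7, 8]) (.leaf [1, 2, 3, 4, 5, 6, 7, 3, 2, 1, 4, 3, 2, 5, 4, 8, 7, 3, 2, 1, 4, 3, 2, 5, 4, 7, 3, 4, 8]) (.leaf []))) (.node (.node (.leaf [1, 0, 2, 1, 3, 4, 5, 6, 7, 3, 4, 8, 7]) (.leaf [1, 2, 3, 4, 5, 6, 7, 3, 2, 1, 4, 3, 2, 8, 7, 3, 2, 1, 4, 3, 5]) (.leaf [1, 2, 3, 4, 5, 6, 7, 3, 2, 1, 4, 3, 2, 5, 8, 7, 3, 2, 1, 4, 3, 2, 5,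 4, 7, 8]) (.leaf [1, 2, 3, 4, 5, 6, 7, 3, 2, 1, 4, 3, 5, 4, 8, 7, 3, 2, 1, 4, 3, 2, 5, 4, 7, 3, 2, 1, 8, 7])) (.node (.leaf [1, 2, 3, 4, 5, 6, 7, 3, 2, 1, 4, 3, 2, 5, 4, 3]) (.leaf [1, 2, 3, 4, 5, 6, 7, 3, 2, 1, 4, 3, 8, 7, 3, 2, 4, 3, 5, 4, 7, 3]) (.leaf [1, 2, 3, 4, 5, 6, 7, 3, 2, 1, 4, 3, 2, 5, 8, 7, 3, 2, 1, 4, 3, 2, 5, 4, 6, 7, 8]) (.leaf [1, 2, 3, 4, 5, 6, 7, 3, 2, 1, 4, 3, 2, 5, 8, 7, 3, 2, 1, 4, 3, 2, 5, 4, 3, 7, 3, 4, 8, 7, 3, 2, 1])) (.node (.leaf [1, 2, 3, 4, 5, 6, 7, 3, 2, 1, 4, 3, 2, 5, 7, 8, 7, 3]) (.leaf [1, 2, 3, 4, 5, 6, 7, 3, 2, 1, 4, 3, 2, 5, 4, 3, 8, 7, 3, 2, 4, 3, 5, 4]) (.leaf [1, 2, 3, 4, 5, 6, 7, 3, 2, 1, 4, 3, 2,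 5, 8, 7, 3, 2, 1, 4, 3, 2, 5, 4, 3, 7, 3, 4]) (.leaf [])) (.node (.leaf [1, 2, 3, 4, 5, 6, 7, 3, 2, 4, 3, 8, 7, 3, 2, 1, 0, 4, 3]) (.leaf [1, 2, 3, 4, 5, 6, 7, 3, 2, 1, 4, 3, 2, 5, 8, 7, 3, 2, 1, 0, 4, 3, 2, 5, 4]) (.leaf [1, 2, 3, 4, 5, 6, 7, 3, 2, 1, 4, 3, 2, 5, 8, 7, 3, 2, 1, 4, 3, 2, 5, 4, 7, 3, 2, 1, 0]) (.leaf []))) (.node (.node (.leaf [1, 2, 3, 4, 5, 6, 7, 3, 2, 4, 3, 7, 8]) (.leaf [1, 2, 3, 4, 5, 6, 7, 3, 2, 1, 4, 5, 8, 7, 3, 2, 1, 0, 4, 3, 2]) (.leaf [1, 2, 3, 4, 5, 6, 7, 3, 2, 1, 4, 3, 5, 4, 8, 7, 3, 2, 1, 4, 3, 2, 5, 7, 3, 8]) (.leaf [1, 2, 3, 4, 5, 6, 7, 3, 2, 1, 4, 3, 2, 5, 4, 8, 7, 3, 2, 1, 0, 4, 3, 2, 5, 7, 3, 4, 8, 7, 3]))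 (.node (.leaf [1, 2, 3, 4, 5, 7, 3, 2, 4, 3, 8, 7, 3, 2, 4, 5]) (.leaf [1, 0, 2, 3, 4, 5, 6, 7, 3, 2, 4, 3, 5, 4, 7, 8, 7, 3, 2, 4, 3, 5, 4]) (.leaf [1, 2, 3, 4, 5, 6, 7, 3, 2, 1, 4, 3, 5, 4, 8, 7, 3, 2, 1, 4, 3, 2, 5, 7, 3, 4, 8]) (.leaf [])) (.node (.leaf [1, 2, 3, 4, 5, 6, 7, 3, 2, 1, 8, 7, 3, 2, 4, 3, 5, 7]) (.leaf [1, 2, 3, 4, 5, 6, 7, 3, 2, 1, 4, 3, 2, 8, 7, 3, 2, 1, 4, 3, 2, 5, 4, 3]) (.leaf [1, 2, 3, 4, 5, 6, 7, 3, 2, 1, 4, 3, 5, 4, 8, 7, 3, 2, 1, 4, 3, 2, 5, 4, 7, 3, 2, 1]) (.leaf [])) (.node (.leaf [1, 2, 3, 4, 5, 6, 7, 3, 2, 1, 4, 3, 2, 5, 8, 7, 3, 2, 4, 5]) (.leaf [1, 2, 3, 4, 5, 6, 7, 3, 2, 1, 4, 3, 5, 4, 8, 7, 3, 2, 1, 4,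 3, 2, 5, 6, 7]) (.leaf [1, 2, 3, 4, 5, 6, 7, 3, 2, 1, 4, 3, 5, 4, 8, 7, 3, 2, 1, 4, 3, 5, 4, 7, 3, 2, 8, 7, 3]) (.leaf [])))) (.node (.node (.node (.leaf [1, 0, 2, 1, 3, 2, 4, 3]) (.leaf [1, 2, 3, 4, 5, 6, 7, 3, 2, 1, 4, 5, 8, 7, 3, 2, 4, 3, 7, 8]) (.leaf [1, 2, 3, 4, 5, 6, 7, 3, 2, 1, 4, 5, 8, 7, 3, 2, 1, 4, 3, 2, 5, 7, 3, 4, 8]) (.leaf [1, 2, 3, 4, 5, 6, 7, 3, 2, 1, 4, 3, 2, 5, 4, 8, 7, 3, 2, 1, 0, 4, 3, 2, 5, 4, 7, 3, 4, 8])) (.node (.leaf [1, 0, 2, 3, 4, 5, 6, 7, 3, 2, 4, 3, 5, 4, 8]) (.leaf [1, 0, 2, 3, 4, 5, 6, 7, 3, 2, 4, 3, 5, 7, 8, 7, 3, 2, 4, 3, 5, 6]) (.leaf [1, 2, 3, 4, 5, 6, 7, 3, 2, 4, 3, 5, 8, 7, 3, 2, 1, 4, 3, 2, 5, 6, 7,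 3, 4, 5]) (.leaf [1, 2, 3, 4, 5, 6, 7, 3, 2, 1, 4, 3, 5, 4, 8, 7, 3, 2, 1, 4, 3, 2, 5, 4, 7, 3, 2, 8, 7, 3, 4])) (.node (.leaf [1, 2, 3, 4, 5, 7, 3, 2, 1, 4, 3, 7, 8, 7, 3, 2, 4]) (.leaf [1, 2, 3, 4, 5, 6, 7, 3, 2, 1, 4, 3, 5, 4, 8, 7, 3, 2, 1, 4, 3, 2, 5]) (.leaf [1, 2, 3, 4, 5, 6, 7, 3, 2, 1, 4, 3, 2, 5, 4, 3, 8, 7, 3, 2, 1, 4, 3, 2, 7, 3, 4, 5]) (.leaf [])) (.node (.leaf [1, 2, 3, 4, 5, 6, 7, 3, 2, 1, 4, 3, 2, 5, 4, 3, 8, 7, 3]) (.leaf [1, 2, 3, 4, 5, 6, 7, 3, 2, 1, 4, 3, 5, 8, 7, 3, 2, 1, 4, 3, 5, 6, 7, 8]) (.leaf [1, 2, 3, 4, 5, 6, 7, 3, 2, 1, 4, 3, 2, 5, 4, 3, 8, 7, 3, 2, 4, 3, 5, 4, 7, 3, 2, 1, 0]) (.leaf []))) (.node (.node (.leaf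 [1, 2, 3, 4, 5, 7, 3, 4, 8, 7]) (.leaf [1, 0, 2, 3, 4, 5, 6, 7, 3, 2, 4, 3, 5, 7, 8, 7, 3, 2, 1, 0, 4]) (.leaf [1, 2, 3, 4, 5, 6, 7, 3, 2, 1, 4, 3, 2, 5, 4, 8, 7, 3, 2, 1, 4, 3, 5, 4, 7, 3]) (.leaf [1, 2, 3, 4, 5, 6, 7, 3, 2, 1, 4, 3, 2, 5, 8, 7, 3, 2, 1, 4, 3, 2, 5, 4, 6, 5, 7, 3, 4, 8])) (.node (.leaf [1, 2, 3, 4, 5, 6, 7, 3, 2, 4, 3, 8, 7, 3, 4]) (.leaf [1, 2, 3, 4, 5, 6, 7, 3, 2, 1, 4, 3, 5, 4, 7, 8, 7, 3, 2, 4, 5, 6]) (.leaf [1, 2, 3, 4, 5, 6, 7, 3, 2, 1, 4, 3, 2, 5, 4, 8, 7, 3, 2, 4, 3, 5, 4, 6, 5, 7, 8]) (.leaf [1, 2, 3, 4, 5, 6, 7, 3, 2, 1, 4, 3, 2, 5, 8, 7, 3, 2, 1, 4, 3, 2, 5, 4, 3, 7, 3, 4, 8, 7, 3, 2])) (.node (.leaf [1, 2,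 3, 4, 5, 6, 7, 3, 4, 5, 8, 7, 3, 2, 1, 4, 3]) (.leaf [1, 2, 3, 4, 5, 6, 7, 3, 2, 1, 4, 5, 8, 7, 3, 2, 1, 4, 3, 2, 5, 7, 3]) (.leaf [1, 2, 3, 4, 5, 6, 7, 3, 2, 1, 4, 3, 2, 5, 4, 8, 7, 3, 2, 4, 3, 5, 4, 6, 5, 7, 3, 4]) (.leaf [])) (.node (.leaf [1, 2, 3, 4, 5, 7, 3, 2, 1, 4, 3, 8, 7, 3, 2, 1, 4, 3, 7]) (.leaf [1, 2, 3, 4, 5, 6, 7, 3, 2, 1, 4, 3, 2, 5, 4, 3, 8, 7, 3, 2, 4, 3, 5, 7, 8]) (.leaf [1, 2, 3, 4, 5, 6, 7, 3, 2, 1, 4, 3, 2, 5, 4, 8, 7, 3, 2, 4, 3, 5, 4, 6, 7, 3, 2, 8, 7]) (.leaf []))) (.node (.node (.leaf [1, 2, 3, 4, 5, 6, 7, 3, 2, 4, 3, 8]) (.leaf [1, 2, 3, 4, 5, 6, 7, 3, 2, 1, 4, 3, 5, 4, 7, 3, 8, 7, 3, 2, 4]) (.leaf [1, 2, 3, 4,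 5, 6, 7, 3, 2, 1, 4, 3, 2, 5, 8, 7, 3, 2, 4, 3, 5, 4, 7, 3, 2, 1]) (.leaf [1, 2, 3, 4, 5, 6, 7, 3, 2, 1, 4, 3, 5, 8, 7, 3, 2, 1, 4, 3, 2, 5, 4, 3, 7, 3, 2, 4, 8, 7])) (.node (.leaf [1, 2, 3, 4, 5, 6, 7, 3, 2, 1, 4, 3, 5, 4, 7, 3]) (.leaf [1, 2, 3, 4, 5, 6, 7, 3, 2, 1, 4, 5, 8, 7, 3, 2, 4, 3, 5, 4, 6, 7]) (.leaf [1, 2, 3, 4, 5, 6, 7, 3, 2, 1, 4, 3, 2, 5, 8, 7, 3, 2, 4, 3, 5, 4, 6, 7, 3, 2, 1]) (.leaf [])) (.node (.leaf [1, 2, 3, 4, 5, 6, 7, 3, 2, 1, 8, 7, 3, 2, 4, 3, 7, 8]) (.leaf [1, 2, 3, 4, 5, 6, 7, 3, 2, 1, 4, 3, 2, 5, 4, 8, 7, 3, 2, 1, 4, 3, 5, 4]) (.leaf [1, 2, 3, 4, 5, 6, 7, 3, 2, 1, 4, 3, 2, 5, 8, 7, 3, 2, 1, 4, 3, 2, 5, 7, 3, 4,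 5, 8]) (.leaf [])) (.node (.leaf [1, 2, 3, 4, 5, 6, 7, 3, 2, 4, 8, 7, 3, 2, 1, 0, 4, 5, 6]) (.leaf [1, 2, 3, 4, 5, 6, 7, 3, 2, 1, 4, 3, 2, 5, 8, 7, 3, 2, 1, 4, 3, 2, 7, 3, 8]) (.leaf [1, 2, 3, 4, 5, 6, 7, 3, 2, 1, 4, 3, 2, 5, 8, 7, 3, 2, 1, 4, 3, 5, 4, 7, 3, 2, 1, 0, 8]) (.leaf []))) (.node (.node (.leaf [1, 0, 2, 3, 4, 5, 6, 7, 3, 2, 4, 3, 5, 8]) (.leaf [1, 2, 3, 4, 5, 6, 7, 3, 2, 1, 4, 8, 7, 3, 2, 1, 0, 4, 3, 5, 7]) (.leaf [1, 2, 3, 4, 5, 6, 7, 3, 2, 1, 4, 3, 5, 7, 8, 7, 3, 2, 1, 4, 3, 2, 5, 4, 3, 7]) (.leaf [1, 2, 3, 4, 5, 6, 7, 3, 2, 1, 4, 3, 2, 5, 4, 8, 7, 3, 2, 1, 4, 3, 2, 5, 7, 3, 4, 5, 8, 7, 3])) (.node (.leaf [1, 0, 2, 3, 4, 5,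 6, 7, 3, 2, 4, 3, 5, 4, 7, 3, 8]) (.leaf [1, 2, 3, 4, 5, 6, 7, 3, 2, 1, 4, 3, 2, 5, 4, 8, 7, 3, 2, 1, 0, 4, 3]) (.leaf [1, 2, 3, 4, 5, 6, 7, 3, 2, 1, 4, 3, 5, 7, 8, 7, 3, 2, 1, 4, 3, 2, 5, 4, 3, 7, 8]) (.leaf [])) (.node (.leaf [1, 2, 3, 4, 5, 6, 7, 3, 2, 4, 3, 7, 8, 7, 3, 2, 1, 0]) (.leaf [1, 2, 3, 4, 5, 6, 7, 3, 2, 1, 4, 3, 5, 4, 7, 8, 7, 3, 2, 4, 3, 5, 4, 7]) (.leaf [1, 2, 3, 4, 5, 6, 7, 3, 2, 1, 4, 3, 5, 7, 8, 7, 3, 2, 1, 0, 4, 3, 2, 5, 4, 7, 3, 8]) (.leaf [])) (.node (.leaf [1, 2, 3, 4, 5, 7, 3, 2, 1, 4, 3, 2, 8, 7, 3, 2, 1, 0, 4, 3]) (.leaf [1, 2, 3, 4, 5, 6, 7, 3, 2, 1, 4, 3, 5, 7, 8, 7, 3, 2, 1, 0, 4, 3, 2, 5, 4]) (.leaf [1, 2,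 3, 4, 5, 6, 7, 3, 2, 1, 4, 3, 5, 8, 7, 3, 2, 1, 4, 3, 2, 5, 4, 3, 7, 3, 4, 5, 8]) (.leaf [])))))
def pathTree12 : SporBound.Q (List ℕ) := (.node (.node (.node (.node (.leaf [1, 0, 2, 1]) (.leaf [1, 2, 3, 4, 5, 6, 7, 3, 2, 1, 4, 3, 5, 4, 8, 7, 3, 2, 4, 5]) (.leaf [1, 2, 3, 4, 5, 6, 7, 3, 2, 1, 4, 3, 5, 7, 8, 7, 3, 2, 4, 3, 5, 4, 7, 3, 8]) (.leaf [1, 2, 3, 4, 5, 6, 7, 3, 2, 1, 4, 5, 8, 7, 3, 2, 1, 4, 3, 2, 5, 4, 7, 3, 2, 4, 8, 7, 3])) (.node (.leaf [1, 0, 2, 1, 3, 4, 5, 7, 3, 4, 8, 7, 3, 2, 1]) (.leaf [1, 2, 3, 4, 5, 6, 7, 3, 2, 4, 3, 5, 4, 8, 7, 3, 2, 4, 3, 5, 6]) (.leaf [1, 2, 3, 4, 5, 6, 7, 3, 2, 1, 4, 3, 5, 8, 7, 3, 2, 1, 4, 3, 2, 5,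 4, 3, 7, 3]) (.leaf [1, 2, 3, 4, 5, 6, 7, 3, 2, 1, 4, 3, 2, 5, 8, 7, 3, 2, 1, 0, 4, 3, 2, 5, 4, 3, 7, 3, 4, 8, 7])) (.node (.leaf [1, 0, 2, 3, 4, 5, 7, 3, 2, 4, 3, 8, 7, 3, 2, 4, 5]) (.leaf [1, 2, 3, 4, 5, 6, 7, 3, 2, 1, 4, 3, 2, 5, 7, 8, 7, 3, 2, 1, 4, 3, 7]) (.leaf [1, 2, 3, 4, 5, 6, 7, 3, 2, 1, 4, 3, 5, 8, 7, 3, 2, 1, 4, 3, 2, 5, 4, 6, 7, 3, 8]) (.leaf [])) (.node (.leaf [1, 2, 3, 4, 5, 6, 7, 3, 2, 4, 5, 8, 7, 3, 2, 1, 0, 4]) (.leaf [1, 2, 3, 4, 5, 6, 7, 3, 2, 1, 4, 3, 5, 4, 8, 7, 3, 2, 1, 4, 3, 5, 6, 7]) (.leaf [1, 2, 3, 4, 5, 6, 7, 3, 2, 1, 4, 3, 5, 8, 7, 3, 2, 1, 4, 3, 2, 5, 4, 6, 7, 3, 4, 5]) (.leaf []))) (.node (.node (.leaf [1,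 0, 2, 3, 4, 5, 6, 7, 8]) (.leaf [1, 2, 3, 4, 5, 6, 7, 3, 2, 4, 3, 5, 4, 8, 7, 3, 2, 1, 4, 3]) (.leaf [1, 2, 3, 4, 5, 6, 7, 3, 2, 4, 5, 8, 7, 3, 2, 1, 4, 3, 2, 5, 6, 7, 3, 4, 5]) (.leaf [1, 2, 3, 4, 5, 6, 7, 3, 2, 1, 4, 3, 2, 5, 4, 8, 7, 3, 2, 1, 4, 3, 2, 5, 4, 7, 3, 2, 8, 7])) (.node (.leaf [1, 0, 2, 3, 4, 5, 6, 7, 3, 4, 5, 8, 7, 3, 4]) (.leaf [1, 2, 3, 4, 5, 6, 7, 3, 2, 1, 4, 3, 2, 5, 4, 8, 7, 3, 2, 4, 3, 5]) (.leaf [1, 2, 3, 4, 5, 6, 7, 3, 2, 1, 4, 3, 2, 5, 4, 3, 8, 7, 3, 2, 4, 3, 5, 4, 7, 3, 2]) (.leaf [1, 2, 3, 4, 5, 6, 7, 3, 2, 1, 4, 3, 2, 5, 4, 3, 8, 7, 3, 2, 1, 4, 3, 2, 7, 3, 4, 5, 8, 7, 3, 4])) (.node (.leaf [1, 2, 3, 4, 5, 7, 3,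 2, 1, 4, 8, 7, 3, 2, 1, 4, 5]) (.leaf [1, 2, 3, 4, 5, 6, 7, 3, 2, 1, 4, 3, 5, 7, 8, 7, 3, 2, 1, 4, 3, 5, 7]) (.leaf [1, 2, 3, 4, 5, 6, 7, 3, 2, 1, 4, 3, 2, 5, 4, 7, 8, 7, 3, 2, 1, 4, 3, 5, 4, 7, 3, 8]) (.leaf [])) (.node (.leaf [1, 2, 3, 4, 5, 6, 7, 3, 2, 1, 4, 3, 2, 8, 7, 3, 2, 4, 5]) (.leaf [1, 2, 3, 4, 5, 6, 7, 3, 2, 1, 4, 5, 8, 7, 3, 2, 1, 4, 3, 2, 5, 4, 6, 7]) (.leaf [1, 2, 3, 4, 5, 6, 7, 3, 2, 1, 4, 3, 2, 5, 4, 8, 7, 3, 2, 1, 0, 4, 3, 2, 1, 5, 7, 3, 8]) (.leaf []))) (.node (.node (.leaf [1, 2, 3, 4, 5, 7, 3, 2, 1, 4, 3]) (.leaf [1, 2, 3, 4, 5, 6, 7, 3, 2, 1, 4, 3, 2, 5, 4, 3, 8, 7, 3, 2, 1]) (.leaf [1, 2, 3, 4, 5, 6, 7, 3, 2, 1, 4,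 3, 2, 5, 7, 8, 7, 3, 2, 1, 0, 4, 3, 2, 7, 3]) (.leaf [1, 2, 3, 4, 5, 6, 7, 3, 2, 1, 4, 3, 2, 5, 8, 7, 3, 2, 1, 4, 3, 2, 5, 6, 7, 3, 4, 8, 7, 3])) (.node (.leaf [1, 2, 3, 4, 5, 6, 7, 3, 4, 5, 8, 7, 3, 2, 4]) (.leaf [1, 2, 3, 4, 5, 6, 7, 3, 2, 1, 4, 3, 5, 7, 8, 7, 3, 2, 4, 3, 5, 4]) (.leaf [1, 2, 3, 4, 5, 6, 7, 3, 2, 1, 4, 3, 2, 5, 7, 8, 7, 3, 2, 1, 0, 4, 3, 2, 7, 3, 8]) (.leaf [1, 2, 3, 4, 5, 6, 7, 3, 2, 1, 4, 3, 5, 4, 8, 7, 3, 2, 1, 4, 3, 2, 5, 4, 3, 7, 3, 2, 1, 8, 7, 3])) (.node (.leaf [1, 0, 2, 3, 4, 5, 6, 7, 3, 2, 4, 3, 8, 7, 3, 2, 1, 4]) (.leaf [1, 2, 3, 4, 5, 6, 7, 3, 2, 4, 3, 5, 4, 7, 8, 7, 3, 2, 1, 4, 3, 5, 6]) (.leaf [1, 2, 3, 4,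 5, 6, 7, 3, 2, 1, 4, 3, 2, 5, 7, 8, 7, 3, 2, 1, 0, 4, 3, 2, 5, 4, 7, 8]) (.leaf [])) (.node (.leaf [1, 2, 3, 4, 5, 7, 3, 2, 1, 4, 8, 7, 3, 2, 1, 0, 4, 3, 5]) (.leaf [1, 2, 3, 4, 5, 6, 7, 3, 2, 1, 4, 3, 2, 5, 4, 8, 7, 3, 2, 1, 4, 3, 2, 5, 7]) (.leaf [1, 2, 3, 4, 5, 6, 7, 3, 2, 1, 4, 3, 2, 5, 7, 8, 7, 3, 2, 1, 4, 3, 2, 5, 4, 7, 3, 8, 7]) (.leaf []))) (.node (.node (.leaf [1, 0, 2, 3, 4, 5, 6, 7, 3, 2, 4, 5, 8]) (.leaf [1, 2, 3, 4, 5, 6, 7, 3, 2, 1, 4, 3, 5, 7, 8, 7, 3, 2, 4, 5, 6]) (.leaf [1, 2, 3, 4, 5, 6, 7, 3, 2, 1, 4, 3, 5, 4, 7, 8, 7, 3, 2, 1, 4, 3, 5, 4, 7, 3]) (.leaf [1, 2, 3, 4, 5, 6, 7, 3, 2, 1, 4, 3, 2, 5, 4, 3, 8, 7, 3, 2, 1, 4,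 3, 2, 7, 3, 4, 5, 8, 7, 3])) (.node (.leaf [1, 2, 3, 4, 5, 6, 7, 3, 2, 1, 4, 8, 7, 3, 4, 5]) (.leaf [1, 2, 3, 4, 5, 6, 7, 3, 2, 4, 3, 5, 4, 8, 7, 3, 2, 1, 0, 4, 5, 6]) (.leaf [1, 2, 3, 4, 5, 6, 7, 3, 2, 1, 4, 3, 5, 4, 7, 8, 7, 3, 2, 1, 4, 3, 5, 4, 7, 3, 2]) (.leaf [])) (.node (.leaf [1, 2, 3, 4, 5, 6, 7, 3, 2, 1, 4, 3, 8, 7, 3, 4, 5, 6]) (.leaf [1, 2, 3, 4, 5, 6, 7, 3, 2, 1, 4, 3, 2, 5, 7, 8, 7, 3, 2, 1, 4, 3, 5, 4]) (.leaf [1, 2, 3, 4, 5, 6, 7, 3, 2, 1, 4, 3, 5, 4, 7, 8, 7, 3, 2, 1, 4, 3, 2, 5, 4, 7, 3, 8]) (.leaf [])) (.node (.leaf [1, 0, 2, 3, 4, 5, 6, 7, 3, 2, 4, 3, 5, 8, 7, 3, 2, 1, 4, 5]) (.leaf [1, 2, 3, 4, 5, 6, 7, 3, 2, 1, 4, 3,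 2, 8, 7, 3, 2, 4, 3, 5, 4, 7, 3, 2, 1]) (.leaf [1, 2, 3, 4, 5, 6, 7, 3, 2, 1, 4, 3, 5, 4, 8, 7, 3, 2, 1, 0, 4, 3, 2, 5, 4, 6, 5, 7, 3]) (.leaf [])))) (.node (.node (.node (.leaf [1, 0, 2, 1, 3, 4, 5, 7]) (.leaf [1, 2, 3, 4, 5, 6, 7, 3, 2, 1, 4, 3, 7, 8, 7, 3, 2, 4, 3, 5]) (.leaf [1, 2, 3, 4, 5, 6, 7, 3, 2, 1, 4, 3, 5, 8, 7, 3, 2, 1, 4, 3, 2, 5, 6, 7, 8]) (.leaf [1, 2, 3, 4, 5, 6, 7, 3, 2, 1, 4, 3, 2, 5, 4, 3, 8, 7, 3, 2, 4, 3, 5, 4, 6, 7, 3, 2, 8, 7])) (.node (.leaf [1, 2, 3, 4, 5, 7, 3, 2, 1, 4, 8, 7, 3, 2]) (.leaf [1, 2, 3, 4, 5, 6, 7, 3, 2, 4, 3, 5, 8, 7, 3, 2, 1, 4, 3, 2, 5]) (.leaf [1, 2, 3, 4, 5, 6, 7, 3, 2, 1, 4, 3, 5, 8, 7, 3, 2,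 4, 3, 5, 4, 7, 3, 2, 1, 8]) (.leaf [1, 2, 3, 4, 5, 6, 7, 3, 2, 1, 4, 3, 2, 5, 8, 7, 3, 2, 1, 4, 3, 2, 5, 4, 7, 3, 2, 1, 4, 5, 8])) (.node (.leaf [1, 0, 2, 1, 3, 4, 5, 6, 7, 3, 4, 5, 8, 7, 3, 2, 1, 4]) (.leaf [1, 2, 3, 4, 5, 6, 7, 3, 2, 1, 4, 3, 2, 5, 8, 7, 3, 2, 4, 3, 5, 6, 7]) (.leaf [1, 2, 3, 4, 5, 6, 7, 3, 2, 1, 4, 3, 8, 7, 3, 2, 1, 4, 3, 2, 5, 4, 3, 7, 3, 2, 8]) (.leaf [])) (.node (.leaf [1, 0, 2, 3, 4, 5, 6, 7, 3, 2, 4, 3, 5, 4, 8, 7, 3, 2, 1]) (.leaf [1, 2, 3, 4, 5, 6, 7, 3, 2, 1, 4, 3, 5, 7, 8, 7, 3, 2, 1, 4, 3, 2, 7, 3]) (.leaf [1, 2, 3, 4, 5, 6, 7, 3, 2, 1, 4, 5, 8, 7, 3, 2, 1, 0, 4, 3, 2, 5, 4, 7, 3, 2, 1, 8]) (.leaf []))) (.node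 (.node (.leaf [1, 2, 3, 4, 7, 3, 2, 8, 7]) (.leaf [1, 2, 3, 4, 5, 6, 7, 3, 2, 4, 3, 5, 8, 7, 3, 2, 1, 4, 5, 6]) (.leaf [1, 2, 3, 4, 5, 6, 7, 3, 2, 1, 4, 3, 2, 5, 4, 3, 8, 7, 3, 2, 4, 3, 5, 4, 7, 8]) (.leaf [1, 2, 3, 4, 5, 6, 7, 3, 2, 1, 4, 3, 2, 5, 7, 3, 8, 7, 3, 2, 1, 4, 3, 2, 7, 3, 4, 5, 8, 7])) (.node (.leaf [1, 2, 3, 4, 5, 7, 3, 2, 1, 4, 3, 2, 8, 7, 3]) (.leaf [1, 2, 3, 4, 5, 6, 7, 3, 2, 1, 4, 3, 2, 5, 8, 7, 3, 2, 1, 4, 5, 6]) (.leaf [1, 2, 3, 4, 5, 6, 7, 3, 2, 1, 4, 3, 2, 5, 4, 8, 7, 3, 2, 1, 0, 4, 3, 2, 5, 4, 6]) (.leaf [1, 2, 3, 4, 5, 6, 7, 3, 2, 1, 4, 3, 2, 5, 4, 8, 7, 3, 2, 1, 0, 4, 3, 2, 5, 4, 7, 3, 2, 8, 7, 3])) (.node (.leaf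 [1, 2, 3, 4, 5, 6, 7, 3, 2, 4, 3, 5, 8, 7, 3, 2, 4]) (.leaf [1, 2, 3, 4, 5, 6, 7, 3, 2, 1, 4, 3, 5, 8, 7, 3, 2, 1, 4, 3, 2, 7, 3]) (.leaf [1, 2, 3, 4, 5, 6, 7, 3, 2, 1, 4, 3, 2, 5, 4, 8, 7, 3, 2, 1, 0, 4, 3, 2, 5, 7, 3, 4]) (.leaf [])) (.node (.leaf [1, 2, 3, 4, 5, 6, 7, 3, 2, 1, 4, 3, 5, 4, 8, 7, 3, 2, 4]) (.leaf [1, 2, 3, 4, 5, 6, 7, 3, 2, 1, 4, 8, 7, 3, 2, 4, 3, 5, 4, 7, 3, 2, 1, 0]) (.leaf [1, 2, 3, 4, 5, 6, 7, 3, 2, 1, 4, 3, 2, 5, 4, 8, 7, 3, 2, 1, 0, 4, 3, 2, 7, 3, 4, 8, 7]) (.leaf []))) (.node (.node (.leaf [1, 2, 3, 4, 5, 6, 7, 3, 4, 8, 7]) (.leaf [1, 2, 3, 4, 5, 6, 7, 3, 2, 1, 4, 3, 2, 5, 7, 8, 7, 3, 2, 4, 5]) (.leaf [1, 2, 3,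 4, 5, 6, 7, 3, 2, 1, 4, 3, 2, 5, 8, 7, 3, 2, 1, 0, 4, 3, 2, 5, 4, 6]) (.leaf [1, 2, 3, 4, 5, 6, 7, 3, 2, 1, 4, 3, 5, 4, 8, 7, 3, 2, 1, 0, 4, 3, 2, 5, 4, 6, 5, 7, 3, 8])) (.node (.leaf [1, 0, 2, 3, 4, 5, 6, 7, 3, 2, 4, 5, 8, 7, 3, 4]) (.leaf [1, 2, 3, 4, 5, 6, 7, 3, 2, 1, 4, 3, 5, 8, 7, 3, 2, 4, 3, 5, 6, 7]) (.leaf [1, 2, 3, 4, 5, 6, 7, 3, 2, 1, 4, 3, 2, 5, 8, 7, 3, 2, 1, 0, 4, 3, 2, 5, 4, 6, 7]) (.leaf [1, 2, 3, 4, 5, 6, 7, 3, 2, 1, 4, 3, 2, 5, 4, 8, 7, 3, 2, 1, 0, 4, 3, 2, 5, 4, 3, 7, 3, 2, 8, 7, 3])) (.node (.leaf [1, 0, 2, 3, 4, 5, 6, 7, 3, 2, 4, 8, 7, 3, 2, 1, 0, 4]) (.leaf [1, 2, 3, 4, 5, 6, 7, 3, 2, 4, 3, 5, 8, 7, 3, 2, 1, 4, 3, 2,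 5, 4, 3]) (.leaf [1, 2, 3, 4, 5, 6, 7, 3, 2, 1, 4, 3, 2, 5, 8, 7, 3, 2, 1, 0, 4, 3, 2, 1, 5, 4, 7, 3]) (.leaf [])) (.node (.leaf [1, 2, 3, 4, 5, 6, 7, 3, 2, 4, 3, 5, 7, 8, 7, 3, 2, 1, 4]) (.leaf [1, 2, 3, 4, 5, 6, 7, 3, 2, 1, 4, 3, 2, 5, 7, 8, 7, 3, 2, 1, 0, 4, 3, 2, 1]) (.leaf [1, 2, 3, 4, 5, 6, 7, 3, 2, 1, 4, 3, 2, 5, 8, 7, 3, 2, 1, 0, 4, 3, 2, 5, 4, 7, 3, 2, 8]) (.leaf []))) (.node (.node (.leaf [1, 2, 3, 4, 5, 6, 7, 3, 2, 1, 4, 3, 7]) (.leaf [1, 2, 3, 4, 5, 6, 7, 3, 2, 1, 4, 3, 7, 8, 7, 3, 2, 1, 4, 5, 6]) (.leaf [1, 2, 3, 4, 5, 6, 7, 3, 2, 1, 4, 3, 5, 4, 8, 7, 3, 2, 1, 0, 4, 3, 2, 7, 3, 8]) (.leaf [1, 2, 3, 4, 5, 6, 7, 3, 2, 1, 4, 3,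 2, 5, 4, 8, 7, 3, 2, 1, 0, 4, 3, 2, 1, 5, 4, 6, 7, 3, 8])) (.node (.leaf [1, 2, 3, 4, 5, 6, 7, 3, 2, 4, 3, 5, 4, 8, 7, 3]) (.leaf [1, 2, 3, 4, 5, 6, 7, 3, 2, 4, 3, 5, 7, 8, 7, 3, 2, 1, 4, 3, 5, 6]) (.leaf [1, 2, 3, 4, 5, 6, 7, 3, 2, 1, 4, 3, 5, 4, 8, 7, 3, 2, 1, 0, 4, 3, 5, 4, 6, 5, 7]) (.leaf [])) (.node (.leaf [1, 2, 3, 4, 5, 6, 7, 3, 2, 1, 4, 5, 8, 7, 3, 4, 5, 6]) (.leaf [1, 2, 3, 4, 5, 6, 7, 3, 2, 1, 4, 3, 2, 5, 8, 7, 3, 2, 1, 4, 3, 2, 7, 8]) (.leaf [1, 2, 3, 4, 5, 6, 7, 3, 2, 1, 4, 3, 5, 4, 8, 7, 3, 2, 1, 0, 4, 3, 2, 5, 4, 7, 3, 2]) (.leaf [])) (.node (.leaf [1, 2, 3, 4, 5, 6, 7, 3, 2, 1, 4, 3, 2, 5, 4, 3, 8, 7, 3, 2]) (.leaf [1, 2,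 3, 4, 5, 6, 7, 3, 2, 1, 4, 3, 5, 4, 7, 8, 7, 3, 2, 4, 3, 5, 6, 7, 8]) (.leaf [1, 2, 3, 4, 5, 6, 7, 3, 2, 1, 4, 3, 5, 4, 8, 7, 3, 2, 1, 4, 3, 2, 5, 4, 6, 7, 3, 2, 8]) (.leaf [])))) (.node (.node (.node (.leaf [1, 0, 2, 3, 4, 7, 3, 2]) (.leaf [1, 2, 3, 4, 5, 6, 7, 3, 2, 4, 3, 8, 7, 3, 2, 1, 0, 4, 3, 2]) (.leaf [1, 2, 3, 4, 5, 6, 7, 3, 2, 1, 4, 5, 8, 7, 3, 2, 1, 0, 4, 3, 2, 5, 4, 6, 7]) (.leaf [1, 2, 3, 4, 5, 6, 7, 3, 2, 1, 4, 3, 2, 5, 4, 8, 7, 3, 2, 1, 0, 4, 3, 2, 1, 5, 4, 7, 3, 4])) (.node (.leaf [1, 2, 3, 4, 5, 7, 3, 2, 4, 3, 8, 7, 3, 2]) (.leaf [1, 2, 3, 4, 5, 6, 7, 3, 2, 4, 5, 8, 7, 3, 2, 4, 3, 5, 6, 7, 8]) (.leaf [1, 2, 3, 4, 5, 6, 7,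 3, 2, 1, 4, 5, 8, 7, 3, 2, 1, 4, 3, 2, 5, 4, 7, 3, 2, 8]) (.leaf [1, 2, 3, 4, 5, 6, 7, 3, 2, 1, 4, 3, 5, 4, 7, 8, 7, 3, 2, 1, 4, 3, 5, 4, 7, 3, 2, 1, 8, 7, 3])) (.node (.leaf [1, 2, 3, 4, 5, 7, 3, 2, 1, 4, 3, 2, 8, 7, 3, 2, 1]) (.leaf [1, 2, 3, 4, 5, 6, 7, 3, 2, 1, 4, 3, 5, 4, 7, 3, 8, 7, 3, 2, 4, 3, 5]) (.leaf [1, 2, 3, 4, 5, 6, 7, 3, 2, 1, 4, 5, 8, 7, 3, 2, 1, 4, 3, 2, 5, 4, 7, 3, 4, 8, 7]) (.leaf [])) (.node (.leaf [1, 0, 2, 3, 4, 5, 6, 7, 3, 2, 4, 3, 8, 7, 3, 2, 1, 0, 4]) (.leaf [1, 2, 3, 4, 5, 6, 7, 3, 2, 1, 4, 3, 5, 8, 7, 3, 2, 1, 0, 4, 3, 5, 4, 7]) (.leaf [1, 2, 3, 4, 5, 6, 7, 3, 2, 1, 4, 3, 2, 5, 4, 3, 8, 7, 3, 2, 1, 0, 4, 3, 2,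 7, 3, 4, 8]) (.leaf []))) (.node (.node (.leaf [1, 0, 2, 1, 3, 4, 5, 7, 3, 8, 7]) (.leaf [1, 2, 3, 4, 5, 6, 7, 3, 2, 4, 5, 8, 7, 3, 2, 1, 4, 3, 2, 7]) (.leaf [1, 2, 3, 4, 5, 6, 7, 3, 2, 1, 4, 3, 2, 5, 4, 8, 7, 3, 2, 1, 0, 4, 3, 2, 7, 8]) (.leaf [1, 2, 3, 4, 5, 6, 7, 3, 2, 1, 4, 3, 2, 5, 8, 7, 3, 2, 1, 0, 4, 3, 2, 1, 5, 4, 7, 3, 8, 7])) (.node (.leaf [1, 2, 3, 4, 5, 6, 7, 3, 2, 1, 8, 7, 3, 2, 4]) (.leaf [1, 2, 3, 4, 5, 6, 7, 3, 2, 1, 4, 3, 2, 8, 7, 3, 2, 1, 4, 3, 5, 4]) (.leaf [1, 2, 3, 4, 5, 6, 7, 3, 2, 1, 4, 3, 2, 5, 4, 8, 7, 3, 2, 1, 4, 3, 2, 5, 4, 7, 3]) (.leaf [1, 2, 3, 4, 5, 6, 7, 3, 2, 1, 4, 3, 2, 5, 4, 8, 7, 3, 2, 1, 4, 3, 2, 5,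 7, 3, 4, 5, 8, 7, 3, 2])) (.node (.leaf [1, 2, 3, 4, 5, 7, 3, 2, 4, 3, 8, 7, 3, 2, 1, 4, 3]) (.leaf [1, 2, 3, 4, 5, 6, 7, 3, 2, 1, 4, 3, 8, 7, 3, 2, 1, 4, 3, 2, 5, 4, 3]) (.leaf [1, 2, 3, 4, 5, 6, 7, 3, 2, 1, 4, 3, 2, 5, 4, 8, 7, 3, 2, 1, 4, 3, 2, 5, 4, 7, 3, 4]) (.leaf [])) (.node (.leaf [1, 2, 3, 4, 5, 6, 7, 3, 2, 1, 4, 3, 8, 7, 3, 2, 1, 4, 3]) (.leaf [1, 2, 3, 4, 5, 6, 7, 3, 2, 4, 5, 8, 7, 3, 2, 1, 4, 3, 2, 5, 6, 7, 3, 4]) (.leaf [1, 2, 3, 4, 5, 6, 7, 3, 2, 1, 4, 3, 2, 5, 4, 8, 7, 3, 2, 1, 4, 3, 2, 5, 4, 7, 3, 8, 7]) (.leaf []))) (.node (.node (.leaf [1, 0, 2, 1, 3, 4, 5, 7, 3, 4, 8, 7, 3]) (.leaf [1, 2, 3, 4, 5, 6, 7, 3, 2, 1, 4, 3,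 2, 8, 7, 3, 2, 1, 4, 3, 7]) (.leaf [1, 2, 3, 4, 5, 6, 7, 3, 2, 1, 4, 3, 2, 5, 8, 7, 3, 2, 1, 4, 3, 2, 5, 6, 7, 3]) (.leaf [1, 2, 3, 4, 5, 6, 7, 3, 2, 1, 4, 3, 5, 4, 8, 7, 3, 2, 1, 4, 3, 2, 5, 4, 7, 3, 2, 4, 5, 8])) (.node (.leaf [1, 2, 3, 4, 5, 6, 7, 3, 2, 1, 4, 3, 2, 5, 4, 7]) (.leaf [1, 2, 3, 4, 5, 6, 7, 3, 2, 1, 4, 5, 8, 7, 3, 2, 1, 0, 4, 3, 2, 5]) (.leaf [1, 2, 3, 4, 5, 6, 7, 3, 2, 1, 4, 3, 2, 5, 8, 7, 3, 2, 1, 4, 3, 2, 5, 4, 7, 3, 2]) (.leaf [1, 2, 3, 4, 5, 6, 7, 3, 2, 1, 4, 3, 2, 5, 8, 7, 3, 2, 1, 4, 3, 2, 5, 4, 6, 7, 3, 4, 5, 8, 7, 3, 2])) (.node (.leaf [1, 2, 3, 4, 5, 6, 7, 3, 2, 1, 4, 3, 2, 5, 8, 7, 3, 2]) (.leaf [1, 2, 3, 4, 5,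 6, 7, 3, 2, 1, 4, 3, 2, 5, 4, 3, 8, 7, 3, 2, 4, 3, 5, 6]) (.leaf [1, 2, 3, 4, 5, 6, 7, 3, 2, 1, 4, 3, 2, 5, 8, 7, 3, 2, 1, 4, 3, 2, 5, 4, 3, 7, 3, 8]) (.leaf [])) (.node (.leaf [1, 2, 3, 4, 5, 6, 7, 3, 2, 4, 3, 8, 7, 3, 2, 1, 0, 4, 5]) (.leaf [1, 2, 3, 4, 5, 6, 7, 3, 2, 1, 4, 3, 2, 5, 8, 7, 3, 2, 1, 0, 4, 3, 2, 5, 6]) (.leaf [1, 2, 3, 4, 5, 6, 7, 3, 2, 1, 4, 3, 2, 5, 8, 7, 3, 2, 1, 4, 3, 2, 5, 4, 7, 3, 2, 1, 4]) (.leaf []))) (.node (.node (.leaf [1, 2, 3, 4, 5, 6, 7, 3, 2, 4, 3, 8, 7]) (.leaf [1, 2, 3, 4, 5, 6, 7, 3, 2, 1, 4, 5, 8, 7, 3, 2, 1, 0, 4, 3, 5]) (.leaf [1, 2, 3, 4, 5, 6, 7, 3, 2, 1, 4, 3, 5, 4, 8, 7, 3, 2, 1, 4, 3, 2, 7, 3, 4,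 5]) (.leaf [1, 2, 3, 4, 5, 6, 7, 3, 2, 1, 4, 3, 2, 5, 4, 8, 7, 3, 2, 1, 0, 4, 3, 5, 4, 7, 3, 2, 8, 7, 3])) (.node (.leaf [1, 2, 3, 4, 5, 7, 3, 2, 4, 3, 8, 7, 3, 4, 5, 6]) (.leaf [1, 0, 2, 3, 4, 5, 6, 7, 3, 2, 4, 3, 5, 4, 7, 8, 7, 3, 2, 4, 3, 5, 6]) (.leaf [1, 2, 3, 4, 5, 6, 7, 3, 2, 1, 4, 3, 5, 4, 8, 7, 3, 2, 1, 4, 3, 2, 7, 3, 4, 5, 6]) (.leaf [])) (.node (.leaf [1, 2, 3, 4, 5, 6, 7, 3, 2, 4, 3, 5, 4, 7, 3, 2, 8, 7]) (.leaf [1, 2, 3, 4, 5, 6, 7, 3, 2, 1, 4, 3, 2, 8, 7, 3, 2, 1, 4, 3, 5, 4, 6, 5]) (.leaf [1, 2, 3, 4, 5, 6, 7, 3, 2, 1, 4, 3, 5, 4, 8, 7, 3, 2, 1, 4, 3, 2, 5, 4, 7, 3, 2, 4]) (.leaf [])) (.node (.leaf [1, 2, 3, 4, 5, 6, 7, 3,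 2, 1, 4, 3, 2, 5, 8, 7, 3, 4, 5, 6]) (.leaf [1, 2, 3, 4, 5, 6, 7, 3, 2, 1, 4, 3, 5, 4, 8, 7, 3, 2, 1, 4, 3, 2, 5, 7, 3]) (.leaf [1, 2, 3, 4, 5, 6, 7, 3, 2, 1, 4, 3, 5, 4, 8, 7, 3, 2, 4, 3, 5, 4, 7, 3, 2, 1, 0, 8, 7]) (.leaf [])))) (.node (.node (.node (.leaf [1, 0, 2, 1, 3, 2, 7, 3, 8]) (.leaf [1, 2, 3, 4, 5, 6, 7, 3, 2, 1, 4, 8, 7, 3, 2, 1, 0, 4, 3, 5]) (.leaf [1, 2, 3, 4, 5, 6, 7, 3, 2, 1, 4, 5, 8, 7, 3, 2, 1, 4, 3, 2, 7, 3, 4, 5, 6]) (.leaf [1, 2, 3, 4, 5, 6, 7, 3, 2, 1, 4, 3, 2, 5, 4, 8, 7, 3, 2, 1, 0, 4, 3, 2, 5, 4, 7, 3, 8, 7])) (.node (.leaf [1, 0, 2, 3, 4, 5, 6, 7, 3, 2, 4, 3, 5, 7, 8]) (.leaf [1, 0, 2, 3, 4, 5, 6, 7, 3, 2, 4, 3,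 5, 7, 8, 7, 3, 2, 4, 3, 5, 7]) (.leaf [1, 2, 3, 4, 5, 6, 7, 3, 2, 1, 4, 3, 2, 5, 4, 3, 8, 7, 3, 2, 1, 0, 4, 3, 2, 1, 7]) (.leaf [1, 2, 3, 4, 5, 6, 7, 3, 2, 1, 4, 3, 5, 4, 8, 7, 3, 2, 1, 4, 3, 2, 5, 4, 7, 3, 4, 5, 6, 8, 7])) (.node (.leaf [1, 2, 3, 4, 5, 7, 3, 2, 1, 4, 3, 7, 8, 7, 3, 4, 5]) (.leaf [1, 2, 3, 4, 5, 6, 7, 3, 2, 1, 4, 3, 5, 4, 8, 7, 3, 2, 1, 4, 3, 2, 7]) (.leaf [1, 2, 3, 4, 5, 6, 7, 3, 2, 1, 4, 3, 2, 5, 4, 3, 8, 7, 3, 2, 1, 4, 3, 2, 7, 3, 4, 8]) (.leaf [])) (.node (.leaf [1, 2, 3, 4, 5, 6, 7, 3, 2, 1, 4, 3, 2, 5, 4, 7, 8, 7, 3]) (.leaf [1, 2, 3, 4, 5, 6, 7, 3, 2, 1, 4, 3, 5, 8, 7, 3, 2, 4, 3, 5, 4, 6, 7, 8]) (.leaf [1, 2, 3,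 4, 5, 6, 7, 3, 2, 1, 4, 3, 2, 5, 4, 3, 8, 7, 3, 2, 4, 3, 5, 4, 7, 3, 2, 1, 8]) (.leaf []))) (.node (.node (.leaf [1, 2, 3, 4, 5, 6, 7, 3, 8, 7]) (.leaf [1, 0, 2, 3, 4, 5, 6, 7, 3, 2, 4, 3, 5, 7, 8, 7, 3, 2, 1, 4, 3]) (.leaf [1, 2, 3, 4, 5, 6, 7, 3, 2, 1, 4, 3, 2, 5, 4, 8, 7, 3, 2, 1, 4, 3, 5, 4, 7, 8]) (.leaf [1, 2, 3, 4, 5, 6, 7, 3, 2, 1, 4, 3, 2, 5, 8, 7, 3, 2, 1, 4, 3, 2, 5, 4, 6, 5, 7, 3, 8, 7])) (.node (.leaf [1, 2, 3, 4, 5, 7, 3, 2, 4, 3, 7, 8, 7, 3, 2]) (.leaf [1, 2, 3, 4, 5, 6, 7, 3, 2, 1, 4, 3, 5, 4, 8, 7, 3, 2, 1, 0, 4, 3]) (.leaf [1, 2, 3, 4, 5, 6, 7, 3, 2, 1, 4, 3, 2, 5, 4, 8, 7, 3, 2, 4, 3, 5, 4, 6, 7, 3, 2]) (.leaf [1, 2,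 3, 4, 5, 6, 7, 3, 2, 1, 4, 3, 2, 5, 8, 7, 3, 2, 1, 4, 3, 2, 5, 4, 6, 5, 7, 3, 4, 8, 7, 3])) (.node (.leaf [1, 2, 3, 4, 5, 6, 7, 3, 4, 5, 8, 7, 3, 2, 4, 3, 7]) (.leaf [1, 2, 3, 4, 5, 6, 7, 3, 2, 1, 4, 5, 8, 7, 3, 2, 1, 4, 3, 2, 5, 7, 8]) (.leaf [1, 2, 3, 4, 5, 6, 7, 3, 2, 1, 4, 3, 2, 5, 4, 8, 7, 3, 2, 4, 3, 5, 4, 6, 5, 7, 3, 8]) (.leaf [])) (.node (.leaf [1, 2, 3, 4, 5, 7, 3, 2, 1, 4, 3, 8, 7, 3, 2, 1, 4, 5, 6]) (.leaf [1, 2, 3, 4, 5, 6, 7, 3, 2, 1, 4, 3, 2, 5, 4, 7, 8, 7, 3, 2, 1, 4, 3, 2, 5]) (.leaf [1, 2, 3, 4, 5, 6, 7, 3, 2, 1, 4, 3, 2, 5, 4, 8, 7, 3, 2, 4, 3, 5, 4, 7, 3, 2, 1, 0, 8]) (.leaf []))) (.node (.node (.leaf [1, 2, 3, 4, 5,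 7, 3, 2, 4, 3, 7, 8]) (.leaf [1, 2, 3, 4, 5, 6, 7, 3, 2, 1, 4, 3, 5, 4, 7, 3, 8, 7, 3, 4, 5]) (.leaf [1, 2, 3, 4, 5, 6, 7, 3, 2, 1, 4, 3, 2, 5, 8, 7, 3, 2, 4, 3, 5, 4, 7, 3, 2, 8]) (.leaf [1, 2, 3, 4, 5, 6, 7, 3, 2, 1, 4, 3, 5, 8, 7, 3, 2, 1, 4, 3, 2, 5, 4, 3, 7, 3, 4, 5, 8, 7])) (.node (.leaf [1, 2, 3, 4, 5, 6, 7, 3, 2, 1, 4, 3, 5, 4, 7, 8]) (.leaf [1, 2, 3, 4, 5, 6, 7, 3, 2, 1, 4, 5, 8, 7, 3, 2, 4, 3, 5, 4, 7, 3]) (.leaf [1, 2, 3, 4, 5, 6, 7, 3, 2, 1, 4, 3, 2, 5, 8, 7, 3, 2, 4, 3, 5, 4, 6, 7, 3, 2, 8]) (.leaf [])) (.node (.leaf [1, 2, 3, 4, 5, 6, 7, 3, 2, 1, 4, 3, 5, 4, 7, 3, 8, 7]) (.leaf [1, 2, 3, 4, 5, 6, 7, 3, 2, 1, 4, 3, 2, 5, 4,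 8, 7, 3, 2, 1, 4, 3, 5, 6]) (.leaf [1, 2, 3, 4, 5, 6, 7, 3, 2, 1, 4, 3, 2, 5, 8, 7, 3, 2, 1, 4, 3, 2, 5, 7, 3, 4, 8, 7]) (.leaf [])) (.node (.leaf [1, 2, 3, 4, 5, 6, 7, 3, 4, 5, 8, 7, 3, 2, 1, 0, 4, 3, 2]) (.leaf [1, 2, 3, 4, 5, 6, 7, 3, 2, 1, 4, 3, 2, 5, 8, 7, 3, 2, 1, 4, 3, 5, 4, 6, 5]) (.leaf [1, 2, 3, 4, 5, 6, 7, 3, 2, 1, 4, 3, 5, 4, 7, 3, 8, 7, 3, 2, 4, 3, 5, 4, 6, 7, 3, 8, 7]) (.leaf []))) (.node (.node (.leaf [1, 0, 2, 3, 4, 5, 6, 7, 3, 2, 4, 3, 7, 8]) (.leaf [1, 2, 3, 4, 5, 6, 7, 3, 2, 1, 4, 8, 7, 3, 2, 1, 4, 3, 5, 4, 6]) (.leaf [1, 2, 3, 4, 5, 6, 7, 3, 2, 1, 4, 3, 5, 7, 8, 7, 3, 2, 1, 4, 3, 2, 5, 4, 6, 7]) (.leaf [1, 2, 3, 4, 5,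 6, 7, 3, 2, 1, 4, 3, 2, 5, 4, 8, 7, 3, 2, 1, 4, 3, 2, 5, 7, 3, 4, 8, 7, 3, 2])) (.node (.leaf [1, 0, 2, 3, 4, 5, 6, 7, 3, 2, 4, 3, 5, 4, 7, 8, 7]) (.leaf [1, 2, 3, 4, 5, 6, 7, 3, 2, 1, 4, 3, 2, 5, 4, 8, 7, 3, 2, 1, 0, 4, 5]) (.leaf [1, 2, 3, 4, 5, 6, 7, 3, 2, 1, 4, 3, 5, 7, 8, 7, 3, 2, 1, 4, 3, 2, 5, 4, 6, 7, 3]) (.leaf [])) (.node (.leaf [1, 2, 3, 4, 5, 6, 7, 3, 2, 4, 3, 7, 8, 7, 3, 2, 1, 4]) (.leaf [1, 2, 3, 4, 5, 6, 7, 3, 2, 1, 4, 3, 5, 4, 7, 8, 7, 3, 2, 4, 3, 5, 6, 7]) (.leaf [1, 2, 3, 4, 5, 6, 7, 3, 2, 1, 4, 3, 5, 7, 8, 7, 3, 2, 1, 4, 3, 2, 5, 4, 3, 7, 3, 8]) (.leaf [])) (.node (.leaf [1, 2, 3, 4, 5, 7, 3, 2, 1, 4, 3, 2, 8, 7, 3, 2,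 1, 0, 4, 5]) (.leaf [1, 2, 3, 4, 5, 6, 7, 3, 2, 1, 4, 3, 5, 7, 8, 7, 3, 2, 1, 0, 4, 3, 2, 5, 7]) (.leaf [1, 2, 3, 4, 5, 6, 7, 3, 2, 1, 4, 3, 5, 8, 7, 3, 2, 1, 4, 3, 2, 5, 4, 3, 7, 3, 4, 8, 7]) (.leaf [])))))
def pathTree13 : SporBound.Q (List ℕ) := (.node (.node (.node (.node (.leaf [1, 0, 2]) (.leaf [1, 2, 3, 4, 5, 6, 7, 3, 2, 1, 4, 3, 5, 4, 8, 7, 3, 4, 5, 6]) (.leaf [1, 2, 3, 4, 5, 6, 7, 3, 2, 1, 4, 3, 5, 8, 7, 3, 2, 1, 0, 4, 3, 2, 1, 5, 4]) (.leaf [1, 2, 3, 4, 5, 6, 7, 3, 2, 1, 4, 3, 2, 5, 4, 3, 8, 7, 3, 2, 1, 0, 4, 3, 2, 1, 7, 3, 2, 8])) (.node (.leaf [1, 2, 3, 4, 5, 6, 7, 3, 2, 1, 4, 3, 2, 5]) (.leaf [1, 2, 3, 4, 5, 6, 7, 3, 2, 4,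 3, 5, 4, 8, 7, 3, 2, 4, 3, 5, 7]) (.leaf [1, 2, 3, 4, 5, 6, 7, 3, 2, 1, 4, 3, 5, 8, 7, 3, 2, 1, 4, 3, 2, 5, 4, 3, 7, 8]) (.leaf [1, 2, 3, 4, 5, 6, 7, 3, 2, 1, 4, 3, 2, 5, 8, 7, 3, 2, 1, 0, 4, 3, 2, 5, 4, 6, 7, 3, 4, 5, 8])) (.node (.leaf [1, 0, 2, 3, 4, 5, 7, 3, 2, 4, 3, 8, 7, 3, 4, 5, 6]) (.leaf [1, 2, 3, 4, 5, 6, 7, 3, 2, 1, 4, 3, 2, 5, 7, 8, 7, 3, 2, 4, 3, 5, 4]) (.leaf [1, 2, 3, 4, 5, 6, 7, 3, 2, 1, 4, 3, 5, 8, 7, 3, 2, 1, 4, 3, 2, 5, 4, 7, 3, 2, 1]) (.leaf [])) (.node (.leaf [1, 2, 3, 4, 5, 6, 7, 3, 2, 4, 5, 8, 7, 3, 2, 1, 4, 3]) (.leaf [1, 2, 3, 4, 5, 6, 7, 3, 2, 1, 4, 3, 5, 4, 8, 7, 3, 2, 1, 4, 3, 5, 7, 8]) (.leaf [1, 2, 3, 4, 5,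 6, 7, 3, 2, 1, 4, 3, 5, 8, 7, 3, 2, 1, 4, 3, 2, 5, 4, 6, 7, 3, 4, 8]) (.leaf []))) (.node (.node (.leaf [1, 0, 2, 1, 3, 4, 5, 7, 3, 4]) (.leaf [1, 2, 3, 4, 5, 6, 7, 3, 2, 4, 3, 5, 4, 8, 7, 3, 2, 1, 4, 5]) (.leaf [1, 2, 3, 4, 5, 6, 7, 3, 2, 1, 4, 3, 2, 5, 4, 3, 8, 7, 3, 2, 1, 0, 4, 3, 2, 1]) (.leaf [1, 2, 3, 4, 5, 6, 7, 3, 2, 1, 4, 3, 2, 5, 4, 8, 7, 3, 2, 1, 4, 3, 2, 5, 4, 7, 3, 4, 5, 6])) (.node (.leaf [1, 0, 2, 3, 4, 5, 6, 7, 3, 4, 8, 7, 3, 2, 1]) (.leaf [1, 2, 3, 4, 5, 6, 7, 3, 2, 1, 4, 3, 2, 5, 4, 8, 7, 3, 2, 4, 3, 7]) (.leaf [1, 2, 3, 4, 5, 6, 7, 3, 2, 1, 4, 3, 2, 5, 4, 3, 8, 7, 3, 2, 4, 3, 5, 4, 7, 3, 8]) (.leaf [1, 2, 3, 4, 5, 6,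 7, 3, 2, 1, 4, 3, 2, 5, 4, 7, 8, 7, 3, 2, 1, 4, 3, 2, 5, 4, 3, 7, 3, 2, 8, 7])) (.node (.leaf [1, 2, 3, 4, 5, 7, 3, 2, 1, 4, 8, 7, 3, 2, 4, 3, 5]) (.leaf [1, 2, 3, 4, 5, 6, 7, 3, 2, 1, 4, 3, 5, 7, 8, 7, 3, 2, 1, 4, 3, 7, 8]) (.leaf [1, 2, 3, 4, 5, 6, 7, 3, 2, 1, 4, 3, 2, 5, 4, 7, 8, 7, 3, 2, 4, 3, 5, 4, 7, 3, 8, 7]) (.leaf [])) (.node (.leaf [1, 2, 3, 4, 5, 6, 7, 3, 2, 1, 4, 3, 2, 8, 7, 3, 4, 5, 6]) (.leaf [1, 2, 3, 4, 5, 6, 7, 3, 2, 1, 4, 5, 8, 7, 3, 2, 1, 4, 3, 2, 5, 4, 7, 3]) (.leaf [1, 2, 3, 4, 5, 6, 7, 3, 2, 1, 4, 3, 2, 5, 4, 8, 7, 3, 2, 1, 0, 4, 3, 2, 1, 7, 3, 2, 8]) (.leaf []))) (.node (.node (.leaf [1, 2, 3, 4, 5, 6, 7, 3, 2, 1,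 4]) (.leaf [1, 2, 3, 4, 5, 6, 7, 3, 2, 1, 4, 3, 2, 5, 4, 3, 8, 7, 3, 2, 4]) (.leaf [1, 2, 3, 4, 5, 6, 7, 3, 2, 1, 4, 3, 2, 5, 7, 8, 7, 3, 2, 1, 0, 4, 3, 2, 7, 8]) (.leaf [1, 2, 3, 4, 5, 6, 7, 3, 2, 1, 4, 3, 2, 5, 8, 7, 3, 2, 1, 4, 3, 2, 5, 7, 3, 4, 5, 6, 8, 7])) (.node (.leaf [1, 2, 3, 4, 5, 6, 7, 3, 4, 8, 7, 3, 2, 1, 0]) (.leaf [1, 2, 3, 4, 5, 6, 7, 3, 2, 1, 4, 3, 5, 7, 8, 7, 3, 2, 4, 3, 5, 6]) (.leaf [1, 2, 3, 4, 5, 6, 7, 3, 2, 1, 4, 3, 2, 5, 7, 8, 7, 3, 2, 1, 0, 4, 3, 5, 4, 7, 8]) (.leaf [1, 2, 3, 4, 5, 6, 7, 3, 2, 1, 4, 3, 5, 4, 8, 7, 3, 2, 1, 4, 3, 2, 5, 4, 6, 5, 7, 3, 4, 8, 7, 3])) (.node (.leaf [1, 0, 2, 3, 4, 5, 6, 7, 3, 2, 4, 3,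 8, 7, 3, 2, 4, 3]) (.leaf [1, 2, 3, 4, 5, 6, 7, 3, 2, 4, 3, 5, 4, 8, 7, 3, 2, 1, 0, 4, 3, 2, 1]) (.leaf [1, 2, 3, 4, 5, 6, 7, 3, 2, 1, 4, 3, 2, 5, 7, 8, 7, 3, 2, 1, 0, 4, 3, 2, 5, 7, 3, 4]) (.leaf [])) (.node (.leaf [1, 2, 3, 4, 5, 7, 3, 2, 1, 4, 8, 7, 3, 2, 1, 0, 4, 3, 7]) (.leaf [1, 2, 3, 4, 5, 6, 7, 3, 2, 1, 4, 3, 2, 5, 4, 8, 7, 3, 2, 1, 4, 3, 2, 7, 3]) (.leaf [1, 2, 3, 4, 5, 6, 7, 3, 2, 1, 4, 3, 2, 5, 7, 8, 7, 3, 2, 1, 4, 3, 2, 5, 7, 3, 4, 5, 8]) (.leaf []))) (.node (.node (.leaf [1, 0, 2, 3, 4, 5, 6, 7, 3, 2, 4, 8, 7]) (.leaf [1, 2, 3, 4, 5, 6, 7, 3, 2, 1, 4, 3, 5, 8, 7, 3, 2, 1, 0, 4, 3]) (.leaf [1, 2, 3, 4, 5, 6, 7, 3, 2, 1, 4, 3,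 5, 4, 7, 8, 7, 3, 2, 1, 4, 3, 5, 4, 7, 8]) (.leaf [1, 2, 3, 4, 5, 6, 7, 3, 2, 1, 4, 3, 2, 5, 4, 3, 8, 7, 3, 2, 1, 4, 3, 2, 7, 3, 4, 8, 7, 3, 2])) (.node (.leaf [1, 2, 3, 4, 5, 7, 3, 2, 1, 4, 8, 7, 3, 2, 1, 0]) (.leaf [1, 2, 3, 4, 5, 6, 7, 3, 2, 4, 3, 5, 4, 8, 7, 3, 2, 1, 4, 3, 2, 5]) (.leaf [1, 2, 3, 4, 5, 6, 7, 3, 2, 1, 4, 3, 5, 4, 7, 8, 7, 3, 2, 1, 4, 3, 5, 4, 7, 3, 8]) (.leaf [])) (.node (.leaf [1, 2, 3, 4, 5, 7, 3, 2, 1, 4, 3, 7, 8, 7, 3, 2, 1, 0]) (.leaf [1, 2, 3, 4, 5, 6, 7, 3, 2, 1, 4, 3, 2, 5, 7, 8, 7, 3, 2, 1, 4, 3, 5, 7]) (.leaf [1, 2, 3, 4, 5, 6, 7, 3, 2, 1, 4, 3, 5, 4, 7, 8, 7, 3, 2, 1, 4, 3, 5, 4, 6, 7, 3, 8]) (.leaf [])) (.node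 (.leaf [1, 0, 2, 3, 4, 5, 6, 7, 3, 2, 4, 3, 5, 8, 7, 3, 2, 4, 3, 5]) (.leaf [1, 2, 3, 4, 5, 6, 7, 3, 2, 1, 4, 3, 5, 4, 7, 3, 8, 7, 3, 2, 4, 3, 5, 4, 6]) (.leaf [1, 2, 3, 4, 5, 6, 7, 3, 2, 1, 4, 3, 5, 4, 8, 7, 3, 2, 1, 0, 4, 3, 2, 5, 4, 6, 5, 7, 8]) (.leaf [])))) (.node (.node (.node (.leaf [1, 0, 2, 1, 3, 4]) (.leaf [1, 2, 3, 4, 5, 6, 7, 3, 2, 1, 4, 3, 7, 8, 7, 3, 2, 4, 3, 7]) (.leaf [1, 2, 3, 4, 5, 6, 7, 3, 2, 1, 4, 3, 5, 8, 7, 3, 2, 1, 4, 3, 2, 5, 7, 3, 4]) (.leaf [1, 2, 3, 4, 5, 6, 7, 3, 2, 1, 4, 3, 2, 5, 4, 3, 8, 7, 3, 2, 4, 3, 5, 4, 7, 3, 2, 1, 0, 8])) (.node (.leaf [1, 2, 3, 4, 5, 7, 3, 2, 1, 4, 8, 7, 3, 4]) (.leaf [1, 2, 3, 4, 5,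 6, 7, 3, 2, 4, 3, 5, 8, 7, 3, 2, 1, 4, 3, 2, 7]) (.leaf [1, 2, 3, 4, 5, 6, 7, 3, 2, 1, 4, 3, 8, 7, 3, 2, 1, 0, 4, 3, 5, 4, 7, 3, 2, 1]) (.leaf [1, 2, 3, 4, 5, 6, 7, 3, 2, 1, 4, 3, 2, 5, 8, 7, 3, 2, 1, 4, 3, 2, 5, 4, 7, 3, 2, 1, 4, 8, 7])) (.node (.leaf [1, 0, 2, 1, 3, 4, 5, 6, 7, 3, 4, 5, 8, 7, 3, 2, 4, 3]) (.leaf [1, 2, 3, 4, 5, 6, 7, 3, 2, 1, 4, 3, 2, 5, 8, 7, 3, 2, 4, 3, 5, 7, 8]) (.leaf [1, 2, 3, 4, 5, 6, 7, 3, 2, 1, 4, 3, 8, 7, 3, 2, 1, 4, 3, 2, 5, 4, 7, 3, 2, 1, 0]) (.leaf [])) (.node (.leaf [1, 0, 2, 3, 4, 5, 6, 7, 3, 2, 4, 3, 5, 4, 8, 7, 3, 2, 4]) (.leaf [1, 2, 3, 4, 5, 6, 7, 3, 2, 1, 4, 3, 5, 7, 8, 7, 3, 2, 1, 4, 3, 2, 7, 8]) (.leaf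 [1, 2, 3, 4, 5, 6, 7, 3, 2, 1, 4, 5, 8, 7, 3, 2, 1, 0, 4, 3, 2, 5, 4, 7, 3, 2, 8, 7]) (.leaf []))) (.node (.node (.leaf [1, 2, 3, 4, 5, 6, 7, 3, 4]) (.leaf [1, 2, 3, 4, 5, 6, 7, 3, 2, 4, 3, 5, 8, 7, 3, 2, 4, 3, 5, 4]) (.leaf [1, 2, 3, 4, 5, 6, 7, 3, 2, 1, 4, 3, 2, 5, 4, 3, 8, 7, 3, 2, 4, 3, 5, 6, 7, 8]) (.leaf [1, 2, 3, 4, 5, 6, 7, 3, 2, 1, 4, 3, 2, 5, 7, 3, 8, 7, 3, 2, 1, 4, 3, 2, 7, 3, 4, 8, 7, 3])) (.node (.leaf [1, 2, 3, 4, 5, 6, 7, 3, 2, 1, 4, 3, 5, 4, 7]) (.leaf [1, 2, 3, 4, 5, 6, 7, 3, 2, 1, 4, 3, 2, 5, 8, 7, 3, 2, 4, 3, 5, 4]) (.leaf [1, 2, 3, 4, 5, 6, 7, 3, 2, 1, 4, 3, 2, 5, 4, 8, 7, 3, 2, 1, 0, 4, 3, 2, 5, 4, 7]) (.leaf [1, 2,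 3, 4, 5, 6, 7, 3, 2, 1, 4, 3, 2, 5, 4, 8, 7, 3, 2, 1, 0, 4, 3, 2, 5, 4, 7, 3, 4, 5, 8, 7])) (.node (.leaf [1, 2, 3, 4, 5, 6, 7, 3, 2, 4, 3, 5, 8, 7, 3, 4, 5]) (.leaf [1, 2, 3, 4, 5, 6, 7, 3, 2, 1, 4, 3, 5, 8, 7, 3, 2, 1, 4, 3, 2, 7, 8]) (.leaf [1, 2, 3, 4, 5, 6, 7, 3, 2, 1, 4, 3, 2, 5, 4, 8, 7, 3, 2, 1, 0, 4, 3, 2, 5, 7, 3, 8]) (.leaf [])) (.node (.leaf [1, 2, 3, 4, 5, 6, 7, 3, 2, 1, 4, 3, 5, 4, 8, 7, 3, 4, 5]) (.leaf [1, 2, 3, 4, 5, 6, 7, 3, 2, 4, 3, 5, 4, 7, 8, 7, 3, 2, 1, 4, 3, 2, 5, 4]) (.leaf [1, 2, 3, 4, 5, 6, 7, 3, 2, 1, 4, 3, 2, 5, 4, 8, 7, 3, 2, 1, 0, 4, 3, 5, 4, 6, 5, 7, 8]) (.leaf []))) (.node (.node (.leaf [1, 2, 3, 4, 5, 7,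 3, 4, 8, 7, 3]) (.leaf [1, 2, 3, 4, 5, 6, 7, 3, 2, 1, 4, 3, 2, 5, 8, 7, 3, 2, 1, 0, 4]) (.leaf [1, 2, 3, 4, 5, 6, 7, 3, 2, 1, 4, 3, 2, 5, 8, 7, 3, 2, 1, 0, 4, 3, 2, 5, 4, 7]) (.leaf [1, 2, 3, 4, 5, 6, 7, 3, 2, 1, 4, 3, 5, 4, 8, 7, 3, 2, 1, 0, 4, 3, 2, 5, 4, 6, 7, 3, 2, 8])) (.node (.leaf [1, 0, 2, 3, 4, 5, 6, 7, 3, 2, 4, 8, 7, 3, 2, 1]) (.leaf [1, 2, 3, 4, 5, 6, 7, 3, 2, 1, 4, 3, 5, 8, 7, 3, 2, 4, 3, 5, 7, 8]) (.leaf [1, 2, 3, 4, 5, 6, 7, 3, 2, 1, 4, 3, 2, 5, 8, 7, 3, 2, 1, 0, 4, 3, 2, 5, 4, 7, 3]) (.leaf [1, 2, 3, 4, 5, 6, 7, 3, 2, 1, 4, 3, 2, 5, 4, 8, 7, 3, 2, 1, 0, 4, 3, 2, 5, 4, 3, 7, 3, 4, 8, 7, 3])) (.node (.leaf [1, 0, 2, 3, 4, 5,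 6, 7, 3, 2, 4, 8, 7, 3, 2, 1, 4, 5]) (.leaf [1, 2, 3, 4, 5, 6, 7, 3, 2, 4, 3, 5, 8, 7, 3, 2, 1, 4, 3, 2, 5, 4, 7]) (.leaf [1, 2, 3, 4, 5, 6, 7, 3, 2, 1, 4, 3, 2, 5, 8, 7, 3, 2, 1, 0, 4, 3, 2, 1, 5, 4, 7, 8]) (.leaf [])) (.node (.leaf [1, 2, 3, 4, 5, 6, 7, 3, 2, 4, 3, 5, 7, 8, 7, 3, 2, 4, 3]) (.leaf [1, 2, 3, 4, 5, 6, 7, 3, 2, 1, 4, 3, 2, 5, 7, 8, 7, 3, 2, 1, 0, 4, 3, 2, 5]) (.leaf [1, 2, 3, 4, 5, 6, 7, 3, 2, 1, 4, 3, 2, 5, 8, 7, 3, 2, 1, 0, 4, 3, 2, 5, 4, 7, 3, 4, 8]) (.leaf []))) (.node (.node (.leaf [1, 2, 3, 4, 5, 6, 7, 3, 2, 1, 4, 3, 8]) (.leaf [1, 2, 3, 4, 5, 6, 7, 3, 2, 1, 4, 3, 7, 8, 7, 3, 2, 4, 3, 5, 4]) (.leaf [1, 2, 3, 4, 5, 6,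 7, 3, 2, 1, 4, 3, 5, 4, 8, 7, 3, 2, 1, 0, 4, 3, 5, 4, 6, 5]) (.leaf [1, 2, 3, 4, 5, 6, 7, 3, 2, 1, 4, 3, 2, 5, 4, 8, 7, 3, 2, 1, 0, 4, 3, 2, 1, 5, 4, 7, 3, 2, 8])) (.node (.leaf [1, 2, 3, 4, 5, 6, 7, 3, 2, 4, 3, 5, 7, 8, 7, 3]) (.leaf [1, 2, 3, 4, 5, 6, 7, 3, 2, 4, 3, 5, 7, 8, 7, 3, 2, 1, 4, 3, 5, 7]) (.leaf [1, 2, 3, 4, 5, 6, 7, 3, 2, 1, 4, 3, 5, 4, 8, 7, 3, 2, 1, 0, 4, 3, 5, 4, 6, 7, 3]) (.leaf [])) (.node (.leaf [1, 2, 3, 4, 5, 6, 7, 3, 2, 1, 4, 8, 7, 3, 2, 1, 0, 4]) (.leaf [1, 2, 3, 4, 5, 6, 7, 3, 2, 1, 4, 3, 2, 5, 8, 7, 3, 2, 1, 4, 3, 5, 4, 6]) (.leaf [1, 2, 3, 4, 5, 6, 7, 3, 2, 1, 4, 3, 5, 4, 8, 7, 3, 2, 1, 0, 4, 3, 2, 5, 4, 7, 3,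 4]) (.leaf [])) (.node (.leaf [1, 2, 3, 4, 5, 6, 7, 3, 2, 1, 4, 3, 2, 5, 4, 3, 8, 7, 3, 4]) (.leaf [1, 2, 3, 4, 5, 6, 7, 3, 2, 1, 4, 3, 5, 4, 8, 7, 3, 2, 1, 0, 4, 3, 2, 1, 5]) (.leaf [1, 2, 3, 4, 5, 6, 7, 3, 2, 1, 4, 3, 5, 4, 8, 7, 3, 2, 1, 4, 3, 2, 5, 4, 6, 7, 3, 8, 7]) (.leaf [])))) (.node (.node (.node (.leaf [1, 0, 2, 3, 4, 5, 7, 3]) (.leaf [1, 2, 3, 4, 5, 7, 3, 2, 1, 4, 3, 7, 8, 7, 3, 2, 4, 3, 5, 6]) (.leaf [1, 2, 3, 4, 5, 6, 7, 3, 2, 1, 4, 5, 8, 7, 3, 2, 1, 0, 4, 3, 2, 5, 4, 7, 3]) (.leaf [1, 2, 3, 4, 5, 6, 7, 3, 2, 1, 4, 3, 2, 5, 4, 8, 7, 3, 2, 1, 0, 4, 3, 2, 1, 5, 4, 7, 3, 8])) (.node (.leaf [1, 2, 3, 4, 5, 7, 3, 2, 4, 3, 8, 7,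 3, 4]) (.leaf [1, 2, 3, 4, 5, 6, 7, 3, 4, 5, 8, 7, 3, 2, 1, 4, 3, 2, 7, 3, 4]) (.leaf [1, 2, 3, 4, 5, 6, 7, 3, 2, 1, 4, 5, 8, 7, 3, 2, 1, 4, 3, 2, 5, 4, 7, 3, 4, 5]) (.leaf [1, 2, 3, 4, 5, 6, 7, 3, 2, 1, 4, 3, 5, 4, 8, 7, 3, 2, 1, 0, 4, 3, 2, 5, 4, 3, 7, 3, 2, 8, 7])) (.node (.leaf [1, 2, 3, 4, 5, 7, 3, 2, 1, 4, 3, 2, 8, 7, 3, 2, 4]) (.leaf [1, 2, 3, 4, 5, 6, 7, 3, 2, 1, 4, 3, 5, 4, 7, 3, 8, 7, 3, 2, 4, 3, 7]) (.leaf [1, 2, 3, 4, 5, 6, 7, 3, 2, 1, 4, 5, 8, 7, 3, 2, 1, 4, 3, 2, 5, 6, 7, 3, 4, 5, 8]) (.leaf [])) (.node (.leaf [1, 0, 2, 3, 4, 5, 6, 7, 3, 2, 4, 3, 8, 7, 3, 2, 1, 4, 3]) (.leaf [1, 2, 3, 4, 5, 6, 7, 3, 2, 1, 4, 3, 5, 8, 7, 3,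 2, 1, 0, 4, 3, 5, 6, 7]) (.leaf [1, 2, 3, 4, 5, 6, 7, 3, 2, 1, 4, 3, 2, 5, 4, 3, 8, 7, 3, 2, 1, 0, 4, 3, 2, 7, 3, 8, 7]) (.leaf []))) (.node (.node (.leaf [1, 0, 2, 1, 3, 2, 4, 3, 5, 6]) (.leaf [1, 2, 3, 4, 5, 6, 7, 3, 2, 4, 5, 8, 7, 3, 2, 1, 4, 3, 5, 6]) (.leaf [1, 2, 3, 4, 5, 6, 7, 3, 2, 1, 4, 3, 2, 5, 4, 8, 7, 3, 2, 1, 0, 4, 3, 5, 4, 6]) (.leaf [1, 2, 3, 4, 5, 6, 7, 3, 2, 1, 4, 3, 2, 5, 8, 7, 3, 2, 1, 0, 4, 3, 2, 5, 4, 3, 7, 3, 4, 8])) (.node (.leaf [1, 2, 3, 4, 5, 6, 7, 3, 2, 1, 8, 7, 3, 4, 5]) (.leaf [1, 2, 3, 4, 5, 6, 7, 3, 2, 1, 4, 3, 2, 8, 7, 3, 2, 1, 4, 3, 5, 6]) (.leaf [1, 2, 3, 4, 5, 6, 7, 3, 2, 1, 4, 3, 2, 5, 4, 8, 7, 3, 2,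 1, 4, 3, 2, 5, 4, 7, 8]) (.leaf [1, 2, 3, 4, 5, 6, 7, 3, 2, 1, 4, 3, 2, 5, 4, 8, 7, 3, 2, 1, 4, 3, 2, 5, 7, 3, 4, 8, 7, 3, 2, 1])) (.node (.leaf [1, 2, 3, 4, 5, 7, 3, 2, 4, 3, 8, 7, 3, 2, 1, 4, 5]) (.leaf [1, 2, 3, 4, 5, 6, 7, 3, 2, 1, 4, 3, 8, 7, 3, 2, 1, 4, 3, 2, 5, 4, 7]) (.leaf [1, 2, 3, 4, 5, 6, 7, 3, 2, 1, 4, 3, 2, 5, 4, 8, 7, 3, 2, 1, 4, 3, 2, 5, 4, 7, 3, 8]) (.leaf [])) (.node (.leaf [1, 2, 3, 4, 5, 6, 7, 3, 2, 1, 4, 3, 8, 7, 3, 2, 1, 4, 5]) (.leaf [1, 2, 3, 4, 5, 6, 7, 3, 2, 4, 5, 8, 7, 3, 2, 1, 4, 3, 2, 5, 7, 3, 4, 5]) (.leaf [1, 2, 3, 4, 5, 6, 7, 3, 2, 1, 4, 3, 2, 5, 4, 8, 7, 3, 2, 1, 4, 3, 2, 5, 6, 7, 3, 8, 7]) (.leaf [])))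 (.node (.node (.leaf [1, 0, 2, 1, 3, 2, 4, 3, 5, 4, 6, 5]) (.leaf [1, 2, 3, 4, 5, 6, 7, 3, 2, 1, 4, 3, 2, 8, 7, 3, 2, 1, 4, 5, 6]) (.leaf [1, 2, 3, 4, 5, 6, 7, 3, 2, 1, 4, 3, 2, 5, 8, 7, 3, 2, 1, 4, 3, 2, 5, 6, 7, 8]) (.leaf [1, 2, 3, 4, 5, 6, 7, 3, 2, 1, 4, 3, 5, 4, 8, 7, 3, 2, 1, 4, 3, 2, 5, 4, 7, 3, 2, 4, 8, 7])) (.node (.leaf [1, 2, 3, 4, 5, 6, 7, 3, 2, 1, 4, 3, 2, 5, 4, 8]) (.leaf [1, 2, 3, 4, 5, 6, 7, 3, 2, 1, 4, 5, 8, 7, 3, 2, 1, 0, 4, 3, 2, 7]) (.leaf [1, 2, 3, 4, 5, 6, 7, 3, 2, 1, 4, 3, 2, 5, 8, 7, 3, 2, 1, 4, 3, 2, 5, 4, 7, 3, 4]) (.leaf [1, 2, 3, 4, 5, 6, 7, 3, 2, 1, 4, 3, 2, 5, 8, 7, 3, 2, 1, 4, 3, 2, 5, 4, 6, 7, 3, 4, 5, 8,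 7, 3, 4])) (.node (.leaf [1, 2, 3, 4, 5, 6, 7, 3, 2, 1, 4, 3, 2, 5, 8, 7, 3, 4]) (.leaf [1, 2, 3, 4, 5, 6, 7, 3, 2, 1, 4, 3, 2, 5, 4, 3, 8, 7, 3, 2, 4, 3, 5, 7]) (.leaf [1, 2, 3, 4, 5, 6, 7, 3, 2, 1, 4, 3, 2, 5, 8, 7, 3, 2, 1, 4, 3, 2, 5, 4, 6, 5, 7, 3]) (.leaf [])) (.node (.leaf [1, 2, 3, 4, 5, 6, 7, 3, 2, 4, 3, 8, 7, 3, 2, 1, 4, 3, 2]) (.leaf [1, 2, 3, 4, 5, 6, 7, 3, 2, 1, 4, 3, 2, 5, 8, 7, 3, 2, 1, 0, 4, 3, 2, 5, 7]) (.leaf [1, 2, 3, 4, 5, 6, 7, 3, 2, 1, 4, 3, 2, 5, 8, 7, 3, 2, 1, 4, 3, 2, 5, 4, 7, 3, 2, 1, 8]) (.leaf []))) (.node (.node (.leaf [1, 2, 3, 4, 5, 7, 3, 2, 4, 3, 7, 8, 7]) (.leaf [1, 2, 3, 4, 5, 6, 7, 3, 2, 1, 4, 5, 8, 7,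 3, 2, 1, 0, 4, 3, 7]) (.leaf [1, 2, 3, 4, 5, 6, 7, 3, 2, 1, 4, 3, 5, 4, 8, 7, 3, 2, 1, 4, 3, 2, 7, 3, 4, 8]) (.leaf [1, 2, 3, 4, 5, 6, 7, 3, 2, 1, 4, 3, 2, 5, 4, 8, 7, 3, 2, 1, 4, 3, 2, 5, 4, 3, 6, 7, 3, 8, 7])) (.node (.leaf [1, 2, 3, 4, 5, 6, 7, 3, 2, 4, 5, 8, 7, 3, 2, 1]) (.leaf [1, 0, 2, 3, 4, 5, 6, 7, 3, 2, 4, 3, 5, 4, 8, 7, 3, 2, 1, 4, 3, 2, 5]) (.leaf [1, 2, 3, 4, 5, 6, 7, 3, 2, 1, 4, 3, 5, 4, 8, 7, 3, 2, 1, 4, 3, 2, 7, 3, 4, 5, 8]) (.leaf [])) (.node (.leaf [1, 2, 3, 4, 5, 6, 7, 3, 2, 4, 3, 5, 4, 7, 3, 8, 7, 3]) (.leaf [1, 2, 3, 4, 5, 6, 7, 3, 2, 1, 4, 3, 2, 8, 7, 3, 2, 1, 4, 3, 5, 4, 7, 3]) (.leaf [1, 2, 3, 4, 5, 6, 7, 3, 2, 1,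 4, 3, 5, 4, 8, 7, 3, 2, 1, 4, 3, 2, 5, 4, 7, 3, 2, 8]) (.leaf [])) (.node (.leaf [1, 2, 3, 4, 5, 6, 7, 3, 2, 1, 4, 3, 2, 7, 3, 8, 7, 3, 2, 1]) (.leaf [1, 2, 3, 4, 5, 6, 7, 3, 2, 1, 4, 3, 5, 4, 8, 7, 3, 2, 1, 4, 3, 2, 5, 7, 8]) (.leaf [1, 2, 3, 4, 5, 6, 7, 3, 2, 1, 4, 3, 5, 7, 8, 7, 3, 2, 1, 0, 4, 3, 2, 5, 4, 7, 3, 8, 7]) (.leaf [])))) (.node (.node (.node (.leaf [1, 0, 2, 3, 4, 5, 6]) (.leaf [1, 2, 3, 4, 5, 6, 7, 3, 2, 1, 4, 8, 7, 3, 2, 1, 0, 4, 3, 7]) (.leaf [1, 2, 3, 4, 5, 6, 7, 3, 2, 1, 4, 5, 8, 7, 3, 2, 1, 4, 3, 2, 7, 3, 4, 5, 8]) (.leaf [1, 2, 3, 4, 5, 6, 7, 3, 2, 1, 4, 3, 2, 5, 4, 8, 7, 3, 2, 1, 0, 4, 3, 2, 5, 7, 3, 4, 5, 8])) (.node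 (.leaf [1, 0, 2, 3, 4, 5, 6, 7, 3, 2, 4, 3, 5, 8, 7]) (.leaf [1, 0, 2, 3, 4, 5, 6, 7, 3, 2, 4, 3, 5, 8, 7, 3, 2, 1, 0, 4, 3, 5]) (.leaf [1, 2, 3, 4, 5, 6, 7, 3, 2, 1, 4, 3, 2, 5, 4, 3, 8, 7, 3, 2, 1, 0, 4, 3, 2, 5, 7]) (.leaf [1, 2, 3, 4, 5, 6, 7, 3, 2, 1, 4, 3, 5, 7, 8, 7, 3, 2, 1, 4, 3, 2, 5, 4, 7, 3, 2, 4, 8, 7, 3])) (.node (.leaf [1, 2, 3, 4, 5, 7, 3, 2, 1, 4, 3, 8, 7, 3, 2, 1, 0]) (.leaf [1, 2, 3, 4, 5, 6, 7, 3, 2, 1, 4, 3, 5, 4, 8, 7, 3, 2, 1, 4, 3, 5, 4]) (.leaf [1, 2, 3, 4, 5, 6, 7, 3, 2, 1, 4, 3, 2, 5, 4, 3, 8, 7, 3, 2, 1, 4, 3, 2, 7, 3, 8, 7]) (.leaf [])) (.node (.leaf [1, 2, 3, 4, 5, 6, 7, 3, 2, 1, 4, 3, 2, 5, 4, 8, 7, 3, 2])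 (.leaf [1, 2, 3, 4, 5, 6, 7, 3, 2, 1, 4, 3, 5, 8, 7, 3, 2, 4, 3, 5, 4, 7, 3, 2]) (.leaf [1, 2, 3, 4, 5, 6, 7, 3, 2, 1, 4, 3, 2, 5, 4, 3, 8, 7, 3, 2, 4, 3, 5, 4, 7, 3, 2, 8, 7]) (.leaf []))) (.node (.node (.leaf [1, 0, 2, 3, 4, 5, 7, 3, 2, 4, 3]) (.leaf [1, 0, 2, 3, 4, 5, 6, 7, 3, 2, 4, 3, 5, 7, 8, 7, 3, 2, 1, 4, 5]) (.leaf [1, 2, 3, 4, 5, 6, 7, 3, 2, 1, 4, 3, 2, 5, 4, 8, 7, 3, 2, 1, 4, 3, 5, 6, 7, 8]) (.leaf [1, 2, 3, 4, 5, 6, 7, 3, 2, 1, 4, 3, 2, 5, 8, 7, 3, 2, 1, 4, 3, 2, 5, 4, 6, 7, 3, 4, 5, 6])) (.node (.leaf [1, 2, 3, 4, 5, 7, 3, 2, 4, 3, 7, 8, 7, 3, 4]) (.leaf [1, 2, 3, 4, 5, 6, 7, 3, 2, 1, 4, 3, 5, 4, 8, 7, 3, 2, 1, 0, 4, 5]) (.leaf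 [1, 2, 3, 4, 5, 6, 7, 3, 2, 1, 4, 3, 2, 5, 4, 8, 7, 3, 2, 4, 3, 5, 4, 6, 7, 3, 8]) (.leaf [1, 2, 3, 4, 5, 6, 7, 3, 2, 1, 4, 3, 2, 5, 8, 7, 3, 2, 1, 4, 3, 2, 5, 4, 6, 7, 3, 4, 5, 6, 8, 7])) (.node (.leaf [1, 0, 2, 3, 4, 5, 6, 7, 3, 2, 4, 3, 5, 4, 7, 3, 2, 1]) (.leaf [1, 2, 3, 4, 5, 6, 7, 3, 2, 1, 4, 5, 8, 7, 3, 2, 1, 4, 3, 2, 7, 3, 4]) (.leaf [1, 2, 3, 4, 5, 6, 7, 3, 2, 1, 4, 3, 2, 5, 4, 8, 7, 3, 2, 4, 3, 5, 4, 6, 7, 3, 2, 1]) (.leaf [])) (.node (.leaf [1, 2, 3, 4, 5, 7, 3, 2, 1, 4, 3, 8, 7, 3, 2, 4, 3, 5, 6]) (.leaf [1, 2, 3, 4, 5, 6, 7, 3, 2, 1, 4, 3, 2, 5, 4, 7, 8, 7, 3, 2, 1, 4, 3, 2, 7]) (.leaf [1, 2, 3, 4, 5, 6, 7, 3, 2, 1, 4, 3, 2,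 5, 4, 8, 7, 3, 2, 4, 3, 5, 4, 7, 3, 2, 1, 8, 7]) (.leaf []))) (.node (.node (.leaf [1, 2, 3, 4, 5, 7, 3, 2, 4, 3, 8, 7]) (.leaf [1, 2, 3, 4, 5, 6, 7, 3, 2, 1, 4, 3, 5, 4, 7, 8, 7, 3, 2, 1, 4]) (.leaf [1, 2, 3, 4, 5, 6, 7, 3, 2, 1, 4, 3, 2, 7, 8, 7, 3, 2, 1, 4, 3, 2, 5, 4, 3, 7]) (.leaf [1, 2, 3, 4, 5, 6, 7, 3, 2, 1, 4, 3, 5, 8, 7, 3, 2, 1, 4, 3, 2, 5, 4, 6, 7, 3, 4, 5, 8, 7])) (.node (.leaf [1, 2, 3, 4, 5, 6, 7, 3, 2, 1, 4, 3, 5, 4, 8, 7]) (.leaf [1, 2, 3, 4, 5, 6, 7, 3, 2, 1, 4, 5, 8, 7, 3, 2, 4, 3, 5, 4, 7, 8]) (.leaf [1, 2, 3, 4, 5, 6, 7, 3, 2, 1, 4, 3, 2, 5, 8, 7, 3, 2, 4, 3, 5, 4, 7, 3, 2, 1, 0]) (.leaf [])) (.node (.leaf [1, 2, 3,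 4, 5, 6, 7, 3, 2, 1, 4, 3, 5, 4, 7, 8, 7, 3]) (.leaf [1, 2, 3, 4, 5, 6, 7, 3, 2, 1, 4, 3, 2, 5, 4, 8, 7, 3, 2, 1, 4, 3, 5, 7]) (.leaf [1, 2, 3, 4, 5, 6, 7, 3, 2, 1, 4, 3, 2, 5, 8, 7, 3, 2, 1, 4, 3, 2, 7, 3, 4, 5, 6, 8]) (.leaf [])) (.node (.leaf [1, 2, 3, 4, 5, 6, 7, 3, 4, 5, 8, 7, 3, 2, 1, 4, 3, 2, 7]) (.leaf [1, 2, 3, 4, 5, 6, 7, 3, 2, 1, 4, 3, 2, 5, 8, 7, 3, 2, 1, 4, 3, 5, 4, 6, 7]) (.leaf [1, 2, 3, 4, 5, 6, 7, 3, 2, 1, 4, 3, 5, 4, 7, 3, 8, 7, 3, 2, 4, 3, 5, 4, 7, 3, 2, 1, 8]) (.leaf []))) (.node (.node (.leaf [1, 0, 2, 3, 4, 5, 6, 7, 3, 2, 4, 3, 8, 7]) (.leaf [1, 2, 3, 4, 5, 6, 7, 3, 2, 1, 4, 8, 7, 3, 2, 1, 4, 3, 5, 4, 7]) (.leaf [1,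 2, 3, 4, 5, 6, 7, 3, 2, 1, 4, 3, 5, 7, 8, 7, 3, 2, 1, 4, 3, 2, 5, 4, 7, 3]) (.leaf [1, 2, 3, 4, 5, 6, 7, 3, 2, 1, 4, 3, 2, 5, 4, 8, 7, 3, 2, 1, 4, 3, 5, 4, 7, 3, 2, 1, 0, 8, 7])) (.node (.leaf [1, 0, 2, 3, 4, 5, 6, 7, 3, 2, 4, 3, 5, 4, 8, 7, 3]) (.leaf [1, 2, 3, 4, 5, 6, 7, 3, 2, 1, 4, 3, 2, 5, 4, 8, 7, 3, 2, 1, 4, 3, 2]) (.leaf [1, 2, 3, 4, 5, 6, 7, 3, 2, 1, 4, 3, 5, 7, 8, 7, 3, 2, 1, 4, 3, 2, 5, 4, 6, 7, 8]) (.leaf [])) (.node (.leaf [1, 2, 3, 4, 5, 6, 7, 3, 2, 4, 3, 7, 8, 7, 3, 2, 4, 3]) (.leaf [1, 2, 3, 4, 5, 6, 7, 3, 2, 1, 4, 3, 5, 4, 7, 8, 7, 3, 2, 4, 3, 5, 7, 8]) (.leaf [1, 2, 3, 4, 5, 6, 7, 3, 2, 1, 4, 3, 5, 7, 8, 7, 3, 2, 1, 4,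 3, 2, 5, 4, 6, 7, 3, 8]) (.leaf [])) (.node (.leaf [1, 2, 3, 4, 5, 7, 3, 2, 1, 4, 3, 2, 8, 7, 3, 2, 1, 4, 3, 2]) (.leaf [1, 2, 3, 4, 5, 6, 7, 3, 2, 1, 4, 3, 5, 7, 8, 7, 3, 2, 1, 0, 4, 3, 2, 7, 8]) (.leaf [1, 2, 3, 4, 5, 6, 7, 3, 2, 1, 4, 3, 5, 8, 7, 3, 2, 1, 4, 3, 2, 5, 4, 6, 7, 3, 4, 5, 8]) (.leaf [])))))
def pathTree14 : SporBound.Q (List ℕ) := (.node (.node (.node (.node (.leaf [1, 0]) (.leaf [1, 2, 3, 4, 5, 6, 7, 3, 2, 1, 4, 3, 5, 7, 8, 7, 3, 2, 1, 0]) (.leaf [1, 2, 3, 4, 5, 6, 7, 3, 2, 1, 4, 3, 5, 8, 7, 3, 2, 1, 0, 4, 3, 2, 1, 5, 6]) (.leaf [1, 2, 3, 4, 5, 6, 7, 3, 2, 1, 4, 3, 2, 5, 4, 3, 8, 7, 3, 2, 1, 0, 4, 3, 2, 1, 7, 3, 4, 8]))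 (.node (.leaf [1, 2, 3, 4, 5, 6, 7, 3, 2, 1, 4, 3, 2, 7]) (.leaf [1, 2, 3, 4, 5, 6, 7, 3, 2, 4, 3, 5, 4, 8, 7, 3, 2, 4, 3, 7, 8]) (.leaf [1, 2, 3, 4, 5, 6, 7, 3, 2, 1, 4, 3, 5, 8, 7, 3, 2, 1, 4, 3, 2, 5, 4, 6, 7, 3]) (.leaf [1, 2, 3, 4, 5, 6, 7, 3, 2, 1, 4, 3, 2, 5, 8, 7, 3, 2, 1, 0, 4, 3, 2, 5, 4, 6, 7, 3, 4, 8, 7])) (.node (.leaf [1, 0, 2, 3, 4, 5, 6, 7, 3, 2, 4, 5, 8, 7, 3, 2, 1]) (.leaf [1, 2, 3, 4, 5, 6, 7, 3, 2, 1, 4, 3, 2, 5, 7, 8, 7, 3, 2, 4, 3, 5, 7]) (.leaf [1, 2, 3, 4, 5, 6, 7, 3, 2, 1, 4, 3, 5, 8, 7, 3, 2, 1, 4, 3, 2, 5, 4, 7, 3, 2, 4]) (.leaf [])) (.node (.leaf [1, 2, 3, 4, 5, 6, 7, 3, 2, 4, 5, 8, 7, 3, 2, 1, 4, 5]) (.leaf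 [1, 2, 3, 4, 5, 6, 7, 3, 2, 1, 4, 3, 5, 4, 8, 7, 3, 2, 4, 3, 5, 4, 6, 5]) (.leaf [1, 2, 3, 4, 5, 6, 7, 3, 2, 1, 4, 3, 5, 8, 7, 3, 2, 1, 4, 3, 2, 5, 4, 6, 7, 3, 8, 7]) (.leaf []))) (.node (.node (.leaf [1, 0, 2, 1, 3, 4, 5, 6, 7, 3]) (.leaf [1, 2, 3, 4, 5, 6, 7, 3, 2, 4, 3, 5, 4, 8, 7, 3, 2, 4, 3, 5]) (.leaf [1, 2, 3, 4, 5, 6, 7, 3, 2, 1, 4, 3, 2, 5, 4, 3, 8, 7, 3, 2, 1, 0, 4, 3, 2, 5]) (.leaf [1, 2, 3, 4, 5, 6, 7, 3, 2, 1, 4, 3, 2, 5, 4, 8, 7, 3, 2, 1, 4, 3, 2, 5, 4, 7, 3, 4, 5, 8])) (.node (.leaf [1, 0, 2, 3, 4, 5, 7, 3, 4, 8, 7, 3, 2, 1, 0]) (.leaf [1, 2, 3, 4, 5, 6, 7, 3, 2, 1, 4, 3, 2, 5, 4, 8, 7, 3, 2, 4, 5, 6]) (.leaf [1, 2, 3, 4,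 5, 6, 7, 3, 2, 1, 4, 3, 2, 5, 4, 7, 8, 7, 3, 2, 1, 4, 3, 2, 5, 4, 3]) (.leaf [1, 2, 3, 4, 5, 6, 7, 3, 2, 1, 4, 3, 2, 5, 4, 7, 8, 7, 3, 2, 1, 4, 3, 2, 5, 4, 3, 7, 3, 4, 8, 7])) (.node (.leaf [1, 2, 3, 4, 5, 7, 3, 2, 1, 4, 8, 7, 3, 2, 4, 3, 7]) (.leaf [1, 2, 3, 4, 5, 6, 7, 3, 2, 1, 4, 3, 5, 7, 8, 7, 3, 2, 4, 3, 5, 4, 6]) (.leaf [1, 2, 3, 4, 5, 6, 7, 3, 2, 1, 4, 3, 2, 5, 4, 8, 7, 3, 2, 1, 0, 4, 3, 2, 1, 5, 4, 6]) (.leaf [])) (.node (.leaf [1, 2, 3, 4, 5, 7, 3, 2, 1, 4, 3, 2, 7, 3, 8, 7, 3, 2, 1]) (.leaf [1, 2, 3, 4, 5, 6, 7, 3, 2, 1, 4, 5, 8, 7, 3, 2, 1, 4, 3, 2, 5, 4, 7, 8]) (.leaf [1, 2, 3, 4, 5, 6, 7, 3, 2, 1, 4, 3, 2, 5, 4, 8, 7, 3, 2,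 1, 0, 4, 3, 2, 1, 7, 3, 8, 7]) (.leaf []))) (.node (.node (.leaf [1, 2, 3, 4, 5, 7, 3, 2, 1, 4, 8]) (.leaf [1, 2, 3, 4, 5, 6, 7, 3, 2, 1, 4, 3, 2, 5, 4, 3, 8, 7, 3, 4, 5]) (.leaf [1, 2, 3, 4, 5, 6, 7, 3, 2, 1, 4, 3, 2, 5, 7, 8, 7, 3, 2, 1, 0, 4, 3, 5, 4, 7]) (.leaf [1, 2, 3, 4, 5, 6, 7, 3, 2, 1, 4, 3, 2, 5, 8, 7, 3, 2, 1, 4, 3, 2, 5, 7, 3, 4, 5, 8, 7, 3])) (.node (.leaf [1, 0, 2, 3, 4, 5, 6, 7, 3, 2, 4, 3, 5, 4, 7, 3]) (.leaf [1, 2, 3, 4, 5, 6, 7, 3, 2, 1, 4, 3, 5, 7, 8, 7, 3, 2, 4, 3, 5, 7]) (.leaf [1, 2, 3, 4, 5, 6, 7, 3, 2, 1, 4, 3, 2, 5, 7, 8, 7, 3, 2, 1, 4, 3, 2, 5, 4, 3, 7]) (.leaf [1, 2, 3, 4, 5, 6, 7, 3, 2, 1, 4, 3, 5, 4, 8, 7,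 3, 2, 1, 4, 3, 2, 5, 4, 7, 3, 2, 1, 4, 8, 7, 3])) (.node (.leaf [1, 0, 2, 3, 4, 5, 6, 7, 3, 2, 4, 3, 8, 7, 3, 2, 4, 5]) (.leaf [1, 2, 3, 4, 5, 6, 7, 3, 2, 4, 3, 5, 4, 8, 7, 3, 2, 1, 0, 4, 3, 2, 5]) (.leaf [1, 2, 3, 4, 5, 6, 7, 3, 2, 1, 4, 3, 2, 5, 7, 8, 7, 3, 2, 1, 0, 4, 3, 2, 5, 7, 3, 8]) (.leaf [])) (.node (.leaf [1, 2, 3, 4, 5, 7, 3, 2, 1, 4, 8, 7, 3, 2, 1, 0, 4, 5, 6]) (.leaf [1, 2, 3, 4, 5, 6, 7, 3, 2, 1, 4, 3, 2, 5, 4, 8, 7, 3, 2, 1, 4, 3, 2, 7, 8]) (.leaf [1, 2, 3, 4, 5, 6, 7, 3, 2, 1, 4, 3, 2, 5, 7, 8, 7, 3, 2, 1, 4, 3, 2, 5, 7, 3, 4, 8, 7]) (.leaf []))) (.node (.node (.leaf [1, 0, 2, 3, 4, 5, 7, 3, 2, 4, 8, 7, 3]) (.leaf [1, 2,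 3, 4, 5, 6, 7, 3, 2, 1, 4, 3, 5, 8, 7, 3, 2, 1, 0, 4, 5]) (.leaf [1, 2, 3, 4, 5, 6, 7, 3, 2, 1, 4, 3, 5, 4, 7, 8, 7, 3, 2, 1, 4, 3, 5, 6, 7, 8]) (.leaf [1, 2, 3, 4, 5, 6, 7, 3, 2, 1, 4, 3, 2, 5, 4, 3, 8, 7, 3, 2, 1, 4, 3, 5, 4, 7, 3, 2, 1, 8, 7])) (.node (.leaf [1, 2, 3, 4, 5, 7, 3, 2, 1, 4, 8, 7, 3, 2, 1, 4]) (.leaf [1, 2, 3, 4, 5, 6, 7, 3, 2, 4, 3, 5, 4, 8, 7, 3, 2, 1, 4, 3, 2, 7]) (.leaf [1, 2, 3, 4, 5, 6, 7, 3, 2, 1, 4, 3, 5, 4, 7, 8, 7, 3, 2, 4, 3, 5, 4, 6, 7, 3, 8]) (.leaf [])) (.node (.leaf [1, 2, 3, 4, 5, 7, 3, 2, 1, 4, 3, 7, 8, 7, 3, 2, 1, 4]) (.leaf [1, 2, 3, 4, 5, 6, 7, 3, 2, 1, 4, 3, 2, 5, 7, 8, 7, 3, 2, 1, 4, 3, 7, 8]) (.leaf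 [1, 2, 3, 4, 5, 6, 7, 3, 2, 1, 4, 3, 5, 4, 7, 8, 7, 3, 2, 1, 4, 3, 5, 4, 7, 3, 2, 1]) (.leaf [])) (.node (.leaf [1, 0, 2, 3, 4, 5, 6, 7, 3, 2, 4, 3, 5, 8, 7, 3, 2, 4, 3, 7]) (.leaf [1, 2, 3, 4, 5, 6, 7, 3, 2, 1, 4, 3, 5, 4, 7, 3, 8, 7, 3, 2, 4, 3, 5, 4, 7]) (.leaf [1, 2, 3, 4, 5, 6, 7, 3, 2, 1, 4, 3, 5, 4, 8, 7, 3, 2, 1, 0, 4, 3, 2, 5, 4, 6, 7, 3, 2]) (.leaf [])))) (.node (.node (.node (.leaf [1, 0, 2, 1, 3, 4, 7, 8]) (.leaf [1, 2, 3, 4, 5, 6, 7, 3, 2, 1, 4, 3, 7, 8, 7, 3, 2, 4, 5, 6]) (.leaf [1, 2, 3, 4, 5, 6, 7, 3, 2, 1, 4, 3, 5, 8, 7, 3, 2, 1, 4, 3, 2, 5, 7, 3, 8]) (.leaf [1, 2, 3, 4, 5, 6, 7, 3, 2, 1, 4, 3, 2, 5, 4, 3, 8, 7, 3, 2, 4,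 3, 5, 4, 7, 3, 2, 1, 8, 7])) (.node (.leaf [1, 2, 3, 4, 5, 6, 7, 3, 2, 1, 8, 7, 3, 2]) (.leaf [1, 2, 3, 4, 5, 6, 7, 3, 2, 4, 3, 5, 8, 7, 3, 2, 1, 4, 3, 5, 4]) (.leaf [1, 2, 3, 4, 5, 6, 7, 3, 2, 1, 4, 3, 8, 7, 3, 2, 1, 4, 3, 2, 5, 4, 3, 7, 3, 2]) (.leaf [1, 2, 3, 4, 5, 6, 7, 3, 2, 1, 4, 3, 2, 5, 8, 7, 3, 2, 1, 4, 3, 2, 5, 4, 7, 3, 2, 4, 5, 6, 8])) (.node (.leaf [1, 2, 3, 4, 5, 6, 7, 3, 2, 1, 4, 3, 2, 5, 4, 3, 8]) (.leaf [1, 2, 3, 4, 5, 6, 7, 3, 2, 1, 4, 3, 2, 7, 8, 7, 3, 2, 1, 0, 4, 3, 5]) (.leaf [1, 2, 3, 4, 5, 6, 7, 3, 2, 1, 4, 5, 8, 7, 3, 2, 1, 0, 4, 3, 2, 5, 4, 6, 7, 3, 8]) (.leaf [])) (.node (.leaf [1, 0, 2, 3, 4, 5, 6, 7, 3, 2, 4,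 3, 5, 4, 8, 7, 3, 4, 5]) (.leaf [1, 2, 3, 4, 5, 6, 7, 3, 2, 1, 4, 3, 5, 7, 8, 7, 3, 2, 1, 4, 3, 5, 4, 6]) (.leaf [1, 2, 3, 4, 5, 6, 7, 3, 2, 1, 4, 5, 8, 7, 3, 2, 1, 4, 3, 2, 5, 4, 6, 7, 3, 4, 5, 8]) (.leaf []))) (.node (.node (.leaf [1, 2, 3, 4, 5, 7, 3, 4, 8]) (.leaf [1, 2, 3, 4, 5, 6, 7, 3, 2, 4, 3, 5, 8, 7, 3, 2, 4, 3, 5, 6]) (.leaf [1, 2, 3, 4, 5, 6, 7, 3, 2, 1, 4, 3, 2, 5, 4, 7, 8, 7, 3, 2, 1, 4, 3, 2, 5, 4]) (.leaf [1, 2, 3, 4, 5, 6, 7, 3, 2, 1, 4, 3, 2, 5, 7, 8, 7, 3, 2, 1, 0, 4, 3, 2, 1, 5, 4, 7, 3, 8])) (.node (.leaf [1, 2, 3, 4, 5, 6, 7, 3, 2, 1, 4, 3, 5, 4, 8]) (.leaf [1, 2, 3, 4, 5, 6, 7, 3, 2, 1, 4, 3, 2, 5, 8, 7, 3, 2, 4,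 3, 5, 6]) (.leaf [1, 2, 3, 4, 5, 6, 7, 3, 2, 1, 4, 3, 2, 5, 4, 8, 7, 3, 2, 1, 0, 4, 3, 2, 5, 6, 7]) (.leaf [1, 2, 3, 4, 5, 6, 7, 3, 2, 1, 4, 3, 2, 5, 4, 8, 7, 3, 2, 1, 0, 4, 3, 2, 5, 4, 7, 3, 4, 8, 7, 3])) (.node (.leaf [1, 2, 3, 4, 5, 6, 7, 3, 2, 4, 3, 7, 8, 7, 3, 2, 1]) (.leaf [1, 2, 3, 4, 5, 6, 7, 3, 2, 1, 4, 3, 5, 8, 7, 3, 2, 1, 4, 3, 5, 4, 6]) (.leaf [1, 2, 3, 4, 5, 6, 7, 3, 2, 1, 4, 3, 2, 5, 4, 8, 7, 3, 2, 1, 0, 4, 3, 2, 7, 3, 4, 5]) (.leaf [])) (.node (.leaf [1, 2, 3, 4, 5, 6, 7, 3, 2, 1, 4, 3, 5, 7, 8, 7, 3, 2, 1]) (.leaf [1, 2, 3, 4, 5, 6, 7, 3, 2, 4, 3, 5, 4, 7, 8, 7, 3, 2, 1, 4, 3, 2, 5, 6]) (.leaf [1, 2, 3, 4, 5, 6, 7, 3, 2,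 1, 4, 3, 2, 5, 4, 8, 7, 3, 2, 1, 0, 4, 3, 5, 4, 7, 3, 2, 8]) (.leaf []))) (.node (.node (.leaf [1, 0, 2, 3, 4, 5, 6, 7, 3, 2, 4, 3]) (.leaf [1, 2, 3, 4, 5, 6, 7, 3, 2, 1, 4, 3, 2, 5, 8, 7, 3, 2, 1, 4, 3]) (.leaf [1, 2, 3, 4, 5, 6, 7, 3, 2, 1, 4, 3, 2, 5, 8, 7, 3, 2, 1, 0, 4, 3, 2, 5, 6, 7]) (.leaf [1, 2, 3, 4, 5, 6, 7, 3, 2, 1, 4, 3, 5, 4, 8, 7, 3, 2, 1, 0, 4, 3, 2, 5, 4, 6, 7, 3, 8, 7])) (.node (.leaf [1, 0, 2, 3, 4, 5, 6, 7, 3, 2, 4, 8, 7, 3, 2, 4]) (.leaf [1, 2, 3, 4, 5, 6, 7, 3, 2, 1, 4, 3, 7, 8, 7, 3, 2, 1, 0, 4, 3, 5]) (.leaf [1, 2, 3, 4, 5, 6, 7, 3, 2, 1, 4, 3, 2, 5, 8, 7, 3, 2, 1, 0, 4, 3, 2, 5, 4, 7, 8]) (.leaf [1, 2, 3, 4, 5,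 6, 7, 3, 2, 1, 4, 3, 2, 5, 4, 8, 7, 3, 2, 1, 0, 4, 3, 2, 5, 4, 7, 3, 4, 5, 8, 7, 3])) (.node (.leaf [1, 0, 2, 3, 4, 5, 6, 7, 3, 2, 4, 8, 7, 3, 2, 4, 5, 6]) (.leaf [1, 2, 3, 4, 5, 6, 7, 3, 2, 4, 3, 5, 8, 7, 3, 2, 1, 4, 3, 2, 5, 6, 7]) (.leaf [1, 2, 3, 4, 5, 6, 7, 3, 2, 1, 4, 3, 2, 5, 8, 7, 3, 2, 1, 0, 4, 3, 2, 1, 5, 6, 7, 8]) (.leaf [])) (.node (.leaf [1, 2, 3, 4, 5, 6, 7, 3, 2, 4, 3, 5, 7, 8, 7, 3, 2, 4, 5]) (.leaf [1, 2, 3, 4, 5, 6, 7, 3, 2, 1, 4, 3, 2, 5, 7, 8, 7, 3, 2, 1, 0, 4, 3, 2, 7]) (.leaf [1, 2, 3, 4, 5, 6, 7, 3, 2, 1, 4, 3, 2, 5, 8, 7, 3, 2, 1, 0, 4, 3, 2, 5, 4, 7, 3, 8, 7]) (.leaf []))) (.node (.node (.leaf [1, 2, 3, 4, 5, 7,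 3, 2, 1, 4, 3, 7, 8]) (.leaf [1, 2, 3, 4, 5, 6, 7, 3, 2, 1, 4, 3, 7, 8, 7, 3, 2, 4, 3, 5, 6]) (.leaf [1, 2, 3, 4, 5, 6, 7, 3, 2, 1, 4, 3, 5, 4, 8, 7, 3, 2, 1, 0, 4, 3, 5, 4, 6, 7]) (.leaf [1, 2, 3, 4, 5, 6, 7, 3, 2, 1, 4, 3, 2, 5, 4, 8, 7, 3, 2, 1, 0, 4, 3, 2, 1, 5, 4, 7, 3, 4, 8])) (.node (.leaf [1, 2, 3, 4, 5, 6, 7, 3, 2, 4, 3, 5, 8, 7, 3, 2]) (.leaf [1, 2, 3, 4, 5, 6, 7, 3, 2, 4, 3, 5, 8, 7, 3, 2, 1, 0, 4, 3, 2, 5]) (.leaf [1, 2, 3, 4, 5, 6, 7, 3, 2, 1, 4, 3, 5, 4, 8, 7, 3, 2, 1, 0, 4, 3, 5, 4, 6, 7, 8]) (.leaf [])) (.node (.leaf [1, 2, 3, 4, 5, 6, 7, 3, 2, 1, 4, 8, 7, 3, 2, 1, 4, 3]) (.leaf [1, 2, 3, 4, 5, 6, 7, 3, 2, 1, 4, 3, 2, 5,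 8, 7, 3, 2, 1, 4, 3, 5, 4, 7]) (.leaf [1, 2, 3, 4, 5, 6, 7, 3, 2, 1, 4, 3, 5, 4, 8, 7, 3, 2, 1, 0, 4, 3, 2, 5, 4, 7, 3, 8]) (.leaf [])) (.node (.leaf [1, 2, 3, 4, 5, 6, 7, 3, 2, 1, 4, 3, 2, 5, 4, 7, 8, 7, 3, 2]) (.leaf [1, 2, 3, 4, 5, 6, 7, 3, 2, 1, 4, 3, 5, 4, 8, 7, 3, 2, 1, 0, 4, 3, 2, 1, 7]) (.leaf [1, 2, 3, 4, 5, 6, 7, 3, 2, 1, 4, 3, 5, 4, 8, 7, 3, 2, 1, 4, 3, 2, 5, 4, 7, 3, 2, 1, 0]) (.leaf [])))) (.node (.node (.node (.leaf [1, 0, 2, 3, 4, 7, 3, 8]) (.leaf [1, 2, 3, 4, 5, 7, 3, 2, 1, 4, 3, 8, 7, 3, 2, 1, 0, 4, 3, 7]) (.leaf [1, 2, 3, 4, 5, 6, 7, 3, 2, 1, 4, 5, 8, 7, 3, 2, 1, 0, 4, 3, 2, 5, 4, 7, 8]) (.leaf [1, 2, 3, 4, 5, 6, 7, 3,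 2, 1, 4, 3, 2, 5, 4, 8, 7, 3, 2, 1, 0, 4, 3, 2, 1, 5, 7, 3, 4, 8])) (.node (.leaf [1, 2, 3, 4, 5, 6, 7, 3, 2, 4, 5, 8, 7, 3]) (.leaf [1, 0, 2, 3, 4, 5, 6, 7, 3, 2, 4, 3, 5, 4, 7, 3, 8, 7, 3, 4, 5, 6]) (.leaf [1, 2, 3, 4, 5, 6, 7, 3, 2, 1, 4, 5, 8, 7, 3, 2, 1, 4, 3, 2, 5, 4, 7, 3, 4, 8]) (.leaf [1, 2, 3, 4, 5, 6, 7, 3, 2, 1, 4, 3, 5, 4, 8, 7, 3, 2, 1, 0, 4, 3, 2, 5, 4, 6, 5, 7, 3, 8, 7])) (.node (.leaf [1, 2, 3, 4, 5, 7, 3, 2, 1, 4, 3, 2, 8, 7, 3, 4, 5]) (.leaf [1, 2, 3, 4, 5, 6, 7, 3, 2, 1, 4, 3, 5, 4, 7, 3, 8, 7, 3, 2, 4, 5, 6]) (.leaf [1, 2, 3, 4, 5, 6, 7, 3, 2, 4, 3, 5, 8, 7, 3, 2, 1, 4, 3, 2, 5, 4, 3, 7, 3, 4, 5]) (.leaf [])) (.node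 (.leaf [1, 0, 2, 3, 4, 5, 6, 7, 3, 2, 4, 3, 8, 7, 3, 2, 1, 4, 5]) (.leaf [1, 2, 3, 4, 5, 6, 7, 3, 2, 1, 4, 3, 5, 8, 7, 3, 2, 1, 0, 4, 3, 5, 7, 8]) (.leaf [1, 2, 3, 4, 5, 6, 7, 3, 2, 1, 4, 3, 2, 5, 4, 3, 8, 7, 3, 2, 1, 0, 4, 3, 5, 4, 7, 3, 8]) (.leaf []))) (.node (.node (.leaf [1, 0, 2, 1, 3, 2, 4, 3, 5, 4]) (.leaf [1, 2, 3, 4, 5, 6, 7, 3, 2, 4, 5, 8, 7, 3, 2, 1, 4, 3, 5, 7]) (.leaf [1, 2, 3, 4, 5, 6, 7, 3, 2, 1, 4, 3, 2, 5, 4, 8, 7, 3, 2, 1, 0, 4, 3, 5, 4, 7]) (.leaf [1, 2, 3, 4, 5, 6, 7, 3, 2, 1, 4, 3, 2, 5, 8, 7, 3, 2, 1, 0, 4, 3, 2, 5, 4, 3, 7, 3, 8, 7])) (.node (.leaf [1, 2, 3, 4, 5, 7, 3, 2, 1, 8, 7, 3, 2, 4, 3]) (.leaf [1, 2, 3, 4,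 5, 6, 7, 3, 2, 1, 4, 3, 2, 8, 7, 3, 2, 1, 4, 3, 5, 7]) (.leaf [1, 2, 3, 4, 5, 6, 7, 3, 2, 1, 4, 3, 2, 5, 4, 8, 7, 3, 2, 1, 4, 3, 2, 5, 6, 7, 3]) (.leaf [1, 2, 3, 4, 5, 6, 7, 3, 2, 1, 4, 3, 2, 5, 4, 8, 7, 3, 2, 1, 4, 3, 5, 4, 7, 3, 2, 8, 7, 3, 4, 5])) (.node (.leaf [1, 2, 3, 4, 5, 7, 3, 2, 4, 3, 8, 7, 3, 2, 4, 3, 5]) (.leaf [1, 2, 3, 4, 5, 6, 7, 3, 2, 1, 4, 3, 8, 7, 3, 2, 1, 4, 3, 5, 4, 7, 3]) (.leaf [1, 2, 3, 4, 5, 6, 7, 3, 2, 1, 4, 3, 2, 5, 4, 8, 7, 3, 2, 1, 4, 3, 2, 5, 6, 7, 3, 8]) (.leaf [])) (.node (.leaf [1, 2, 3, 4, 5, 6, 7, 3, 2, 1, 4, 3, 8, 7, 3, 2, 4, 3, 5]) (.leaf [1, 2, 3, 4, 5, 6, 7, 3, 2, 1, 4, 3, 2, 5, 4, 3, 8, 7, 3, 2, 1,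 0, 4, 3, 2]) (.leaf [1, 2, 3, 4, 5, 6, 7, 3, 2, 1, 4, 3, 2, 5, 4, 8, 7, 3, 2, 1, 4, 3, 2, 5, 7, 3, 4, 5, 6]) (.leaf []))) (.node (.node (.leaf [1, 2, 3, 4, 5, 7, 3, 2, 1, 4, 3, 2]) (.leaf [1, 2, 3, 4, 5, 6, 7, 3, 2, 1, 4, 3, 2, 8, 7, 3, 2, 4, 3, 5, 4]) (.leaf [1, 2, 3, 4, 5, 6, 7, 3, 2, 1, 4, 3, 2, 5, 8, 7, 3, 2, 1, 4, 3, 2, 5, 7, 3, 4]) (.leaf [1, 2, 3, 4, 5, 6, 7, 3, 2, 1, 4, 3, 5, 4, 8, 7, 3, 2, 1, 4, 3, 2, 5, 4, 7, 3, 2, 8, 7, 3])) (.node (.leaf [1, 2, 3, 4, 5, 6, 7, 3, 2, 1, 4, 3, 2, 5, 7, 3]) (.leaf [1, 2, 3, 4, 5, 6, 7, 3, 2, 1, 4, 5, 8, 7, 3, 2, 1, 0, 4, 3, 5, 4]) (.leaf [1, 2, 3, 4, 5, 6, 7, 3, 2, 1, 4, 3, 2, 5, 8, 7, 3, 2, 1,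 4, 3, 2, 5, 4, 7, 3, 8]) (.leaf [1, 2, 3, 4, 5, 6, 7, 3, 2, 1, 4, 3, 2, 5, 8, 7, 3, 2, 1, 4, 3, 2, 5, 4, 7, 3, 2, 4, 5, 6, 8, 7, 3])) (.node (.leaf [1, 2, 3, 4, 5, 6, 7, 3, 2, 1, 4, 3, 2, 7, 3, 8, 7, 3]) (.leaf [1, 2, 3, 4, 5, 6, 7, 3, 2, 1, 4, 3, 2, 5, 4, 3, 8, 7, 3, 2, 4, 3, 7, 8]) (.leaf [1, 2, 3, 4, 5, 6, 7, 3, 2, 1, 4, 3, 2, 5, 8, 7, 3, 2, 1, 4, 3, 2, 5, 4, 6, 5, 7, 8]) (.leaf [])) (.node (.leaf [1, 2, 3, 4, 5, 6, 7, 3, 2, 4, 3, 8, 7, 3, 2, 1, 4, 3, 5]) (.leaf [1, 2, 3, 4, 5, 6, 7, 3, 2, 1, 4, 3, 2, 5, 8, 7, 3, 2, 1, 0, 4, 3, 2, 7, 3]) (.leaf [1, 2, 3, 4, 5, 6, 7, 3, 2, 1, 4, 3, 2, 5, 8, 7, 3, 2, 1, 4, 3, 2, 5, 4, 7, 3, 2, 4, 5]) (.leaf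 []))) (.node (.node (.leaf [1, 2, 3, 4, 5, 7, 3, 2, 4, 3, 8, 7, 3]) (.leaf [1, 2, 3, 4, 5, 6, 7, 3, 2, 1, 4, 5, 8, 7, 3, 2, 1, 0, 4, 5, 6]) (.leaf [1, 2, 3, 4, 5, 6, 7, 3, 2, 1, 4, 3, 5, 4, 8, 7, 3, 2, 1, 4, 3, 5, 4, 6, 5, 7]) (.leaf [1, 2, 3, 4, 5, 6, 7, 3, 2, 1, 4, 3, 2, 5, 4, 8, 7, 3, 2, 1, 4, 3, 2, 5, 4, 3, 7, 3, 2, 1, 8])) (.node (.leaf [1, 2, 3, 4, 5, 6, 7, 3, 2, 4, 5, 8, 7, 3, 2, 4]) (.leaf [1, 0, 2, 3, 4, 5, 6, 7, 3, 2, 4, 3, 5, 4, 8, 7, 3, 2, 1, 4, 3, 5, 4]) (.leaf [1, 2, 3, 4, 5, 6, 7, 3, 2, 1, 4, 3, 5, 4, 8, 7, 3, 2, 1, 4, 3, 5, 4, 6, 5, 7, 8]) (.leaf [])) (.node (.leaf [1, 2, 3, 4, 5, 6, 7, 3, 2, 4, 3, 5, 4, 7, 8, 7, 3, 2])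 (.leaf [1, 2, 3, 4, 5, 6, 7, 3, 2, 1, 4, 3, 2, 8, 7, 3, 2, 4, 3, 5, 4, 6, 7, 3]) (.leaf [1, 2, 3, 4, 5, 6, 7, 3, 2, 1, 4, 3, 5, 4, 8, 7, 3, 2, 1, 4, 3, 2, 5, 4, 7, 3, 4, 5]) (.leaf [])) (.node (.leaf [1, 2, 3, 4, 5, 6, 7, 3, 2, 1, 4, 3, 2, 7, 8, 7, 3, 2, 1, 0]) (.leaf [1, 2, 3, 4, 5, 6, 7, 3, 2, 1, 4, 3, 5, 4, 8, 7, 3, 2, 1, 4, 3, 2, 7, 3, 4]) (.leaf [1, 2, 3, 4, 5, 6, 7, 3, 2, 1, 4, 3, 5, 7, 8, 7, 3, 2, 1, 4, 3, 2, 5, 4, 3, 7, 3, 8, 7]) (.leaf [])))) (.node (.node (.node (.leaf [1, 2, 3, 4, 7, 3, 2, 1]) (.leaf [1, 2, 3, 4, 5, 6, 7, 3, 2, 1, 4, 8, 7, 3, 2, 1, 0, 4, 5, 6]) (.leaf [1, 2, 3, 4, 5, 6, 7, 3, 2, 1, 4, 5, 8, 7, 3, 2, 1, 4, 3,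 5, 4, 7, 3, 2, 1]) (.leaf [1, 2, 3, 4, 5, 6, 7, 3, 2, 1, 4, 3, 2, 5, 4, 8, 7, 3, 2, 1, 0, 4, 3, 2, 5, 7, 3, 4, 8, 7])) (.node (.leaf [1, 0, 2, 3, 4, 5, 6, 7, 3, 2, 4, 3, 7, 8, 7]) (.leaf [1, 0, 2, 3, 4, 5, 6, 7, 3, 2, 4, 3, 5, 8, 7, 3, 2, 4, 3, 5, 4, 7]) (.leaf [1, 2, 3, 4, 5, 6, 7, 3, 2, 1, 4, 3, 2, 5, 4, 3, 8, 7, 3, 2, 1, 0, 4, 3, 2, 7, 3]) (.leaf [1, 2, 3, 4, 5, 6, 7, 3, 2, 1, 4, 3, 5, 8, 7, 3, 2, 1, 4, 3, 2, 5, 4, 3, 7, 3, 2, 1, 0, 8, 7])) (.node (.leaf [1, 2, 3, 4, 5, 7, 3, 2, 1, 4, 3, 8, 7, 3, 2, 1, 4]) (.leaf [1, 2, 3, 4, 5, 6, 7, 3, 2, 1, 4, 3, 5, 4, 8, 7, 3, 2, 1, 4, 3, 5, 6]) (.leaf [1, 2, 3, 4, 5, 6, 7, 3, 2, 1, 4, 3, 2, 5, 4,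 3, 8, 7, 3, 2, 1, 4, 3, 5, 4, 7, 3, 2]) (.leaf [])) (.node (.leaf [1, 2, 3, 4, 5, 6, 7, 3, 2, 1, 4, 3, 2, 5, 4, 8, 7, 3, 4]) (.leaf [1, 2, 3, 4, 5, 6, 7, 3, 2, 1, 4, 3, 5, 8, 7, 3, 2, 4, 3, 5, 4, 7, 3, 8]) (.leaf [1, 2, 3, 4, 5, 6, 7, 3, 2, 1, 4, 3, 2, 5, 4, 7, 8, 7, 3, 2, 1, 4, 3, 2, 5, 4, 3, 7, 3]) (.leaf []))) (.node (.node (.leaf [1, 0, 2, 3, 4, 5, 6, 7, 3, 2, 4]) (.leaf [1, 0, 2, 3, 4, 5, 6, 7, 3, 2, 4, 3, 5, 7, 8, 7, 3, 2, 4, 3, 5]) (.leaf [1, 2, 3, 4, 5, 6, 7, 3, 2, 1, 4, 3, 2, 5, 4, 8, 7, 3, 2, 4, 3, 5, 4, 6, 5, 7]) (.leaf [1, 2, 3, 4, 5, 6, 7, 3, 2, 1, 4, 3, 2, 5, 8, 7, 3, 2, 1, 4, 3, 2, 5, 4, 6, 7, 3, 4, 5, 8])) (.node (.leaf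 [1, 2, 3, 4, 5, 7, 3, 2, 4, 3, 8, 7, 3, 2, 1]) (.leaf [1, 2, 3, 4, 5, 6, 7, 3, 2, 1, 4, 3, 5, 4, 8, 7, 3, 2, 1, 4, 3, 2]) (.leaf [1, 2, 3, 4, 5, 6, 7, 3, 2, 1, 4, 3, 2, 5, 4, 8, 7, 3, 2, 4, 3, 5, 4, 7, 3, 2, 1]) (.leaf [1, 2, 3, 4, 5, 6, 7, 3, 2, 1, 4, 3, 2, 5, 8, 7, 3, 2, 1, 4, 3, 2, 5, 4, 6, 7, 3, 4, 5, 8, 7, 3])) (.node (.leaf [1, 0, 2, 3, 4, 5, 6, 7, 3, 2, 4, 3, 5, 4, 7, 3, 2, 8]) (.leaf [1, 2, 3, 4, 5, 6, 7, 3, 2, 1, 4, 5, 8, 7, 3, 2, 1, 4, 3, 2, 7, 3, 8]) (.leaf [1, 2, 3, 4, 5, 6, 7, 3, 2, 1, 4, 3, 2, 5, 4, 8, 7, 3, 2, 4, 3, 5, 4, 6, 7, 3, 2, 8]) (.leaf [])) (.node (.leaf [1, 2, 3, 4, 5, 6, 7, 3, 2, 1, 4, 5, 8, 7, 3, 2, 1, 0, 4])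 (.leaf [1, 2, 3, 4, 5, 6, 7, 3, 2, 1, 4, 3, 2, 5, 4, 7, 8, 7, 3, 2, 1, 4, 3, 5, 4]) (.leaf [1, 2, 3, 4, 5, 6, 7, 3, 2, 1, 4, 3, 2, 5, 7, 3, 8, 7, 3, 2, 1, 0, 4, 3, 2, 1, 7, 3, 8]) (.leaf []))) (.node (.node (.leaf [1, 2, 3, 4, 5, 6, 7, 3, 2, 4, 5, 8]) (.leaf [1, 2, 3, 4, 5, 6, 7, 3, 2, 1, 4, 3, 5, 4, 7, 8, 7, 3, 2, 4, 3]) (.leaf [1, 2, 3, 4, 5, 6, 7, 3, 2, 1, 4, 3, 2, 8, 7, 3, 2, 1, 4, 3, 2, 5, 4, 3, 7, 8]) (.leaf [1, 2, 3, 4, 5, 6, 7, 3, 2, 1, 4, 3, 5, 8, 7, 3, 2, 1, 4, 3, 2, 5, 4, 7, 3, 2, 1, 0, 8, 7])) (.node (.leaf [1, 2, 3, 4, 5, 6, 7, 3, 2, 1, 4, 3, 5, 7, 8, 7]) (.leaf [1, 2, 3, 4, 5, 6, 7, 3, 2, 1, 4, 5, 8, 7, 3, 2, 4, 3, 5, 6, 7,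 8]) (.leaf [1, 2, 3, 4, 5, 6, 7, 3, 2, 1, 4, 3, 2, 5, 8, 7, 3, 2, 4, 3, 5, 4, 7, 3, 2, 1, 8]) (.leaf [])) (.node (.leaf [1, 2, 3, 4, 5, 6, 7, 3, 2, 1, 4, 3, 5, 4, 8, 7, 3, 2]) (.leaf [1, 2, 3, 4, 5, 6, 7, 3, 2, 1, 4, 3, 2, 5, 4, 8, 7, 3, 2, 1, 4, 3, 7, 8]) (.leaf [1, 2, 3, 4, 5, 6, 7, 3, 2, 1, 4, 3, 2, 5, 8, 7, 3, 2, 1, 4, 3, 2, 7, 3, 4, 5, 8, 7]) (.leaf [])) (.node (.leaf [1, 0, 2, 3, 4, 5, 6, 7, 3, 2, 4, 3, 5, 4, 7, 3, 8, 7, 3, 4]) (.leaf [1, 2, 3, 4, 5, 6, 7, 3, 2, 1, 4, 3, 2, 5, 8, 7, 3, 2, 1, 4, 3, 5, 4, 7, 3]) (.leaf [1, 2, 3, 4, 5, 6, 7, 3, 2, 1, 4, 3, 5, 4, 7, 3, 8, 7, 3, 2, 4, 3, 5, 4, 7, 3, 2, 8, 7]) (.leaf []))) (.node (.node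 (.leaf [1, 0, 2, 3, 4, 5, 7, 3, 2, 4, 3, 7, 8, 7]) (.leaf [1, 2, 3, 4, 5, 6, 7, 3, 2, 1, 4, 8, 7, 3, 2, 4, 3, 5, 4, 7, 3]) (.leaf [1, 2, 3, 4, 5, 6, 7, 3, 2, 1, 4, 3, 5, 7, 8, 7, 3, 2, 1, 4, 3, 2, 5, 4, 7, 8]) (.leaf [1, 2, 3, 4, 5, 6, 7, 3, 2, 1, 4, 3, 2, 5, 4, 8, 7, 3, 2, 1, 4, 3, 5, 4, 7, 3, 2, 1, 8, 7, 3])) (.node (.leaf [1, 0, 2, 3, 4, 5, 6, 7, 3, 2, 4, 3, 5, 7, 8, 7, 3]) (.leaf [1, 2, 3, 4, 5, 6, 7, 3, 2, 1, 4, 3, 2, 5, 4, 8, 7, 3, 2, 1, 4, 3, 5]) (.leaf [1, 2, 3, 4, 5, 6, 7, 3, 2, 1, 4, 3, 5, 7, 8, 7, 3, 2, 1, 4, 3, 2, 5, 4, 7, 3, 2]) (.leaf [])) (.node (.leaf [1, 2, 3, 4, 5, 6, 7, 3, 2, 4, 3, 7, 8, 7, 3, 2, 4, 5]) (.leaf [1, 2,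 3, 4, 5, 6, 7, 3, 2, 1, 4, 3, 5, 4, 8, 7, 3, 2, 1, 0, 4, 3, 2, 1]) (.leaf [1, 2, 3, 4, 5, 6, 7, 3, 2, 1, 4, 3, 5, 7, 8, 7, 3, 2, 1, 4, 3, 2, 5, 4, 7, 3, 2, 4]) (.leaf [])) (.node (.leaf [1, 2, 3, 4, 5, 7, 3, 2, 1, 4, 3, 2, 8, 7, 3, 2, 1, 4, 3, 5]) (.leaf [1, 2, 3, 4, 5, 6, 7, 3, 2, 1, 4, 3, 5, 7, 8, 7, 3, 2, 1, 0, 4, 3, 5, 4, 7]) (.leaf [1, 2, 3, 4, 5, 6, 7, 3, 2, 1, 4, 3, 5, 8, 7, 3, 2, 1, 4, 3, 2, 5, 4, 6, 7, 3, 4, 8, 7]) (.leaf [])))))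
def pathTree15 : SporBound.Q (List ℕ) := (.node (.node (.node (.node (.leaf [1, 0, 2, 3]) (.leaf [1, 2, 3, 4, 5, 6, 7, 3, 2, 1, 4, 3, 5, 7, 8, 7, 3, 2, 1, 4]) (.leaf [1, 2, 3, 4, 5, 6, 7, 3, 2, 1, 4, 3, 5, 8, 7, 3, 2, 1, 0, 4, 3, 2, 5, 4, 7]) (.leaf [1, 2, 3, 4, 5, 6, 7, 3, 2, 1, 4, 3, 2, 5, 4, 3, 8, 7, 3, 2, 1, 0, 4, 3, 2, 1, 7, 3, 8, 7])) (.node (.leaf [1, 2, 3, 4, 5, 6, 7, 3, 2, 1, 4, 3, 2, 8]) (.leaf [1, 2, 3, 4, 5, 6, 7, 3, 2, 4, 3, 5, 7, 8, 7, 3, 2, 1, 0, 4, 3]) (.leaf [1, 2, 3, 4, 5, 6, 7, 3, 2, 1, 4, 3, 5, 8, 7, 3, 2, 1, 4, 3, 2, 5, 4, 6, 7, 8]) (.leaf [1, 2, 3, 4, 5, 6, 7, 3, 2, 1, 4, 3, 2, 5, 8, 7, 3, 2, 1, 0, 4, 3, 2, 5, 4, 7,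 3, 2, 4, 8, 7])) (.node (.leaf [1, 0, 2, 3, 4, 5, 6, 7, 3, 2, 4, 5, 8, 7, 3, 2, 4]) (.leaf [1, 2, 3, 4, 5, 6, 7, 3, 2, 1, 4, 3, 2, 5, 7, 8, 7, 3, 2, 4, 3, 7, 8]) (.leaf [1, 2, 3, 4, 5, 6, 7, 3, 2, 1, 4, 3, 5, 8, 7, 3, 2, 1, 4, 3, 2, 5, 4, 7, 3, 2, 8]) (.leaf [])) (.node (.leaf [1, 2, 3, 4, 5, 6, 7, 3, 2, 4, 5, 8, 7, 3, 2, 4, 3, 5]) (.leaf [1, 2, 3, 4, 5, 6, 7, 3, 2, 1, 4, 3, 5, 4, 8, 7, 3, 2, 4, 3, 5, 4, 6, 7]) (.leaf [1, 2, 3, 4, 5, 6, 7, 3, 2, 1, 4, 3, 5, 8, 7, 3, 2, 1, 4, 3, 2, 5, 4, 7, 3, 2, 1, 0]) (.leaf []))) (.node (.node (.leaf [1, 0, 2, 1, 3, 4, 5, 7, 3, 8]) (.leaf [1, 2, 3, 4, 5, 6, 7, 3, 2, 4, 3, 5, 4, 8, 7, 3, 2, 4, 3, 7]) (.leaf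 [1, 2, 3, 4, 5, 6, 7, 3, 2, 1, 4, 3, 2, 5, 4, 3, 8, 7, 3, 2, 1, 0, 4, 3, 2, 7]) (.leaf [1, 2, 3, 4, 5, 6, 7, 3, 2, 1, 4, 3, 2, 5, 4, 8, 7, 3, 2, 1, 4, 3, 2, 5, 4, 7, 3, 4, 8, 7])) (.node (.leaf [1, 0, 2, 1, 3, 4, 5, 6, 7, 3, 4, 5, 8, 7, 3, 2]) (.leaf [1, 2, 3, 4, 5, 6, 7, 3, 2, 1, 4, 3, 2, 5, 7, 3, 8, 7, 3, 2, 1, 0]) (.leaf [1, 2, 3, 4, 5, 6, 7, 3, 2, 1, 4, 3, 2, 5, 4, 7, 8, 7, 3, 2, 1, 4, 3, 2, 5, 4, 7]) (.leaf [1, 2, 3, 4, 5, 6, 7, 3, 2, 1, 4, 3, 2, 5, 4, 7, 8, 7, 3, 2, 1, 4, 3, 2, 5, 4, 7, 3, 2, 4, 8, 7])) (.node (.leaf [1, 2, 3, 4, 5, 7, 3, 2, 1, 4, 8, 7, 3, 2, 4, 5, 6]) (.leaf [1, 2, 3, 4, 5, 6, 7, 3, 2, 1, 4, 3, 5, 7, 8, 7, 3, 2,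 4, 3, 5, 4, 7]) (.leaf [1, 2, 3, 4, 5, 6, 7, 3, 2, 1, 4, 3, 2, 5, 4, 8, 7, 3, 2, 1, 0, 4, 3, 2, 1, 5, 4, 7]) (.leaf [])) (.node (.leaf [1, 2, 3, 4, 5, 7, 3, 2, 1, 4, 3, 2, 7, 8, 7, 3, 2, 1, 0]) (.leaf [1, 2, 3, 4, 5, 6, 7, 3, 2, 1, 4, 5, 8, 7, 3, 2, 1, 4, 3, 2, 5, 6, 7, 3]) (.leaf [1, 2, 3, 4, 5, 6, 7, 3, 2, 1, 4, 3, 2, 5, 4, 8, 7, 3, 2, 1, 0, 4, 3, 2, 5, 4, 3, 6, 7]) (.leaf []))) (.node (.node (.leaf [1, 2, 3, 4, 5, 6, 7, 3, 2, 1, 8]) (.leaf [1, 2, 3, 4, 5, 6, 7, 3, 2, 1, 4, 3, 2, 5, 4, 7, 8, 7, 3, 2, 1]) (.leaf [1, 2, 3, 4, 5, 6, 7, 3, 2, 1, 4, 3, 2, 5, 7, 8, 7, 3, 2, 1, 0, 4, 3, 5, 7, 8]) (.leaf [1, 2, 3, 4, 5, 6, 7, 3, 2, 1, 4, 3, 2,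 5, 8, 7, 3, 2, 1, 4, 3, 2, 5, 7, 3, 4, 8, 7, 3, 2])) (.node (.leaf [1, 0, 2, 3, 4, 5, 6, 7, 3, 2, 4, 3, 5, 4, 7, 8]) (.leaf [1, 2, 3, 4, 5, 6, 7, 3, 2, 1, 4, 3, 5, 7, 8, 7, 3, 2, 4, 3, 7, 8]) (.leaf [1, 2, 3, 4, 5, 6, 7, 3, 2, 1, 4, 3, 2, 5, 7, 8, 7, 3, 2, 1, 4, 3, 2, 5, 4, 7, 3]) (.leaf [1, 2, 3, 4, 5, 6, 7, 3, 2, 1, 4, 3, 5, 4, 8, 7, 3, 2, 1, 4, 3, 2, 5, 4, 7, 3, 2, 4, 5, 8, 7, 3])) (.node (.leaf [1, 0, 2, 3, 4, 5, 6, 7, 3, 2, 4, 3, 8, 7, 3, 4, 5, 6]) (.leaf [1, 2, 3, 4, 5, 6, 7, 3, 2, 4, 3, 5, 4, 8, 7, 3, 2, 1, 0, 4, 3, 2, 7]) (.leaf [1, 2, 3, 4, 5, 6, 7, 3, 2, 1, 4, 3, 2, 5, 7, 8, 7, 3, 2, 1, 0, 4, 3, 2, 7, 3, 8, 7]) (.leaf [])) (.node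 (.leaf [1, 2, 3, 4, 5, 7, 3, 2, 1, 4, 8, 7, 3, 2, 1, 4, 3, 5, 6]) (.leaf [1, 2, 3, 4, 5, 6, 7, 3, 2, 1, 4, 3, 2, 5, 4, 8, 7, 3, 2, 1, 4, 3, 5, 4, 6]) (.leaf [1, 2, 3, 4, 5, 6, 7, 3, 2, 1, 4, 3, 2, 5, 7, 8, 7, 3, 2, 1, 4, 3, 2, 7, 3, 4, 5, 6, 8]) (.leaf []))) (.node (.node (.leaf [1, 0, 2, 3, 4, 5, 6, 7, 3, 2, 8, 7, 3]) (.leaf [1, 2, 3, 4, 5, 6, 7, 3, 2, 1, 4, 3, 5, 8, 7, 3, 2, 1, 4, 3, 2]) (.leaf [1, 2, 3, 4, 5, 6, 7, 3, 2, 1, 4, 3, 5, 4, 7, 8, 7, 3, 2, 4, 3, 5, 4, 6, 7, 3]) (.leaf [1, 2, 3, 4, 5, 6, 7, 3, 2, 1, 4, 3, 2, 5, 4, 3, 8, 7, 3, 2, 4, 3, 5, 4, 6, 7, 3, 2, 1, 8, 7])) (.node (.leaf [1, 2, 3, 4, 5, 7, 3, 2, 1, 4, 8, 7, 3, 2, 4, 3])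 (.leaf [1, 2, 3, 4, 5, 6, 7, 3, 2, 4, 3, 5, 4, 8, 7, 3, 2, 1, 4, 3, 5, 4]) (.leaf [1, 2, 3, 4, 5, 6, 7, 3, 2, 1, 4, 3, 5, 4, 7, 8, 7, 3, 2, 4, 3, 5, 4, 7, 3, 2, 1]) (.leaf [])) (.node (.leaf [1, 2, 3, 4, 5, 7, 3, 2, 1, 4, 3, 7, 8, 7, 3, 2, 4, 3]) (.leaf [1, 2, 3, 4, 5, 6, 7, 3, 2, 1, 4, 3, 2, 5, 7, 8, 7, 3, 2, 4, 3, 5, 4, 7]) (.leaf [1, 2, 3, 4, 5, 6, 7, 3, 2, 1, 4, 3, 5, 4, 7, 8, 7, 3, 2, 1, 4, 3, 5, 4, 7, 3, 2, 8]) (.leaf [])) (.node (.leaf [1, 0, 2, 3, 4, 5, 6, 7, 3, 2, 4, 3, 5, 8, 7, 3, 2, 4, 5, 6]) (.leaf [1, 2, 3, 4, 5, 6, 7, 3, 2, 1, 4, 3, 5, 4, 7, 3, 8, 7, 3, 2, 4, 3, 5, 6, 7]) (.leaf [1, 2, 3, 4, 5, 6, 7, 3, 2, 1, 4, 3, 5, 4, 8,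 7, 3, 2, 1, 0, 4, 3, 2, 5, 4, 6, 7, 3, 8]) (.leaf [])))) (.node (.node (.node (.leaf [1, 0, 2, 1, 3, 2, 4, 5, 7]) (.leaf [1, 2, 3, 4, 5, 6, 7, 3, 2, 1, 4, 3, 8, 7, 3, 2, 1, 0, 4, 3]) (.leaf [1, 2, 3, 4, 5, 6, 7, 3, 2, 1, 4, 3, 5, 8, 7, 3, 2, 1, 4, 3, 2, 7, 3, 4, 5]) (.leaf [1, 2, 3, 4, 5, 6, 7, 3, 2, 1, 4, 3, 2, 5, 4, 3, 8, 7, 3, 2, 4, 3, 5, 4, 7, 3, 2, 8, 7, 3])) (.node (.leaf [1, 2, 3, 4, 5, 6, 7, 3, 2, 1, 8, 7, 3, 4]) (.leaf [1, 2, 3, 4, 5, 6, 7, 3, 2, 4, 3, 5, 8, 7, 3, 2, 1, 4, 3, 5, 6]) (.leaf [1, 2, 3, 4, 5, 6, 7, 3, 2, 1, 4, 3, 8, 7, 3, 2, 1, 4, 3, 2, 5, 4, 3, 7, 3, 8]) (.leaf [1, 2, 3, 4, 5, 6, 7, 3, 2, 1, 4, 3, 2, 5, 8, 7, 3, 2,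 1, 4, 3, 2, 5, 4, 7, 3, 2, 4, 5, 8, 7])) (.node (.leaf [1, 2, 3, 4, 5, 6, 7, 3, 2, 1, 4, 3, 2, 5, 4, 7, 8]) (.leaf [1, 2, 3, 4, 5, 6, 7, 3, 2, 1, 4, 3, 2, 7, 8, 7, 3, 2, 1, 4, 3, 2, 5]) (.leaf [1, 2, 3, 4, 5, 6, 7, 3, 2, 1, 4, 5, 8, 7, 3, 2, 1, 0, 4, 3, 2, 5, 4, 7, 3, 2, 1]) (.leaf [])) (.node (.leaf [1, 0, 2, 3, 4, 5, 6, 7, 3, 2, 4, 3, 5, 7, 8, 7, 3, 2, 1]) (.leaf [1, 2, 3, 4, 5, 6, 7, 3, 2, 1, 4, 3, 5, 7, 8, 7, 3, 2, 1, 4, 3, 5, 4, 7]) (.leaf [1, 2, 3, 4, 5, 6, 7, 3, 2, 1, 4, 5, 8, 7, 3, 2, 1, 4, 3, 2, 5, 4, 6, 7, 3, 4, 8, 7]) (.leaf []))) (.node (.node (.leaf [1, 2, 3, 4, 5, 6, 7, 3, 8]) (.leaf [1, 2, 3, 4, 5, 6, 7, 3, 2, 4, 3, 5, 8,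 7, 3, 2, 4, 3, 5, 7]) (.leaf [1, 2, 3, 4, 5, 6, 7, 3, 2, 1, 4, 3, 2, 5, 4, 7, 8, 7, 3, 2, 1, 4, 3, 2, 5, 7]) (.leaf [1, 2, 3, 4, 5, 6, 7, 3, 2, 1, 4, 3, 2, 5, 7, 8, 7, 3, 2, 1, 0, 4, 3, 2, 5, 4, 7, 3, 4, 8])) (.node (.leaf [1, 2, 3, 4, 5, 6, 7, 3, 2, 1, 4, 3, 5, 7, 8]) (.leaf [1, 2, 3, 4, 5, 6, 7, 3, 2, 1, 4, 3, 2, 5, 8, 7, 3, 2, 4, 3, 5, 7]) (.leaf [1, 2, 3, 4, 5, 6, 7, 3, 2, 1, 4, 3, 2, 5, 4, 8, 7, 3, 2, 1, 0, 4, 3, 2, 5, 7, 3]) (.leaf [1, 2, 3, 4, 5, 6, 7, 3, 2, 1, 4, 3, 2, 5, 4, 8, 7, 3, 2, 1, 0, 4, 3, 2, 5, 7, 3, 4, 5, 8, 7, 3])) (.node (.leaf [1, 2, 3, 4, 5, 6, 7, 3, 2, 4, 3, 7, 8, 7, 3, 2, 4]) (.leaf [1, 2, 3, 4, 5, 6, 7, 3, 2, 1,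 4, 3, 5, 8, 7, 3, 2, 1, 4, 3, 5, 4, 7]) (.leaf [1, 2, 3, 4, 5, 6, 7, 3, 2, 1, 4, 3, 2, 5, 4, 8, 7, 3, 2, 1, 0, 4, 3, 2, 7, 3, 4, 8]) (.leaf [])) (.node (.leaf [1, 2, 3, 4, 5, 6, 7, 3, 2, 1, 4, 3, 5, 7, 8, 7, 3, 2, 4]) (.leaf [1, 2, 3, 4, 5, 6, 7, 3, 2, 4, 3, 5, 4, 8, 7, 3, 2, 1, 0, 4, 3, 2, 1, 5]) (.leaf [1, 2, 3, 4, 5, 6, 7, 3, 2, 1, 4, 3, 2, 5, 4, 8, 7, 3, 2, 1, 0, 4, 3, 5, 4, 7, 3, 8, 7]) (.leaf []))) (.node (.node (.leaf [1, 0, 2, 3, 4, 5, 7, 3, 2, 4, 3, 7]) (.leaf [1, 2, 3, 4, 5, 6, 7, 3, 2, 1, 4, 3, 2, 5, 8, 7, 3, 2, 1, 4, 5]) (.leaf [1, 2, 3, 4, 5, 6, 7, 3, 2, 1, 4, 3, 2, 5, 8, 7, 3, 2, 1, 0, 4, 3, 2, 5, 7, 3]) (.leaf [1, 2, 3, 4,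 5, 6, 7, 3, 2, 1, 4, 3, 5, 4, 8, 7, 3, 2, 1, 0, 4, 3, 2, 5, 4, 7, 3, 2, 4, 8])) (.node (.leaf [1, 0, 2, 3, 4, 5, 6, 7, 3, 2, 4, 8, 7, 3, 4, 5]) (.leaf [1, 2, 3, 4, 5, 6, 7, 3, 2, 1, 4, 3, 7, 8, 7, 3, 2, 1, 4, 3, 2, 5]) (.leaf [1, 2, 3, 4, 5, 6, 7, 3, 2, 1, 4, 3, 2, 5, 8, 7, 3, 2, 1, 0, 4, 3, 2, 5, 6, 7, 3]) (.leaf [1, 2, 3, 4, 5, 6, 7, 3, 2, 1, 4, 3, 2, 5, 4, 8, 7, 3, 2, 1, 4, 3, 2, 5, 4, 3, 7, 3, 2, 1, 8, 7, 3])) (.node (.leaf [1, 0, 2, 3, 4, 5, 7, 3, 2, 4, 8, 7, 3, 2, 1, 0, 4, 5]) (.leaf [1, 2, 3, 4, 5, 6, 7, 3, 2, 4, 3, 5, 8, 7, 3, 2, 1, 4, 3, 2, 5, 7, 3]) (.leaf [1, 2, 3, 4, 5, 6, 7, 3, 2, 1, 4, 3, 2, 5, 8, 7, 3, 2, 1, 0, 4, 3, 2, 5,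 4, 3, 7, 3]) (.leaf [])) (.node (.leaf [1, 2, 3, 4, 5, 6, 7, 3, 2, 4, 3, 5, 7, 8, 7, 3, 4, 5, 6]) (.leaf [1, 2, 3, 4, 5, 6, 7, 3, 2, 1, 4, 3, 2, 5, 7, 8, 7, 3, 2, 1, 0, 4, 3, 5, 4]) (.leaf [1, 2, 3, 4, 5, 6, 7, 3, 2, 1, 4, 3, 2, 5, 8, 7, 3, 2, 1, 0, 4, 3, 2, 5, 6, 7, 3, 4, 5]) (.leaf []))) (.node (.node (.leaf [1, 2, 3, 4, 5, 7, 3, 2, 1, 4, 3, 8, 7]) (.leaf [1, 2, 3, 4, 5, 6, 7, 3, 2, 1, 4, 3, 7, 8, 7, 3, 2, 4, 3, 5, 7]) (.leaf [1, 2, 3, 4, 5, 6, 7, 3, 2, 1, 4, 3, 5, 4, 8, 7, 3, 2, 1, 0, 4, 3, 5, 4, 7, 3]) (.leaf [1, 2, 3, 4, 5, 6, 7, 3, 2, 1, 4, 3, 2, 5, 4, 8, 7, 3, 2, 1, 0, 4, 3, 2, 1, 5, 4, 7, 3, 8, 7])) (.node (.leaf [1, 2, 3, 4, 5,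 6, 7, 3, 2, 4, 3, 5, 8, 7, 3, 4]) (.leaf [1, 2, 3, 4, 5, 6, 7, 3, 2, 4, 3, 5, 8, 7, 3, 2, 1, 4, 3, 2, 5, 4]) (.leaf [1, 2, 3, 4, 5, 6, 7, 3, 2, 1, 4, 3, 5, 4, 8, 7, 3, 2, 1, 0, 4, 3, 5, 4, 7, 3, 2]) (.leaf [])) (.node (.leaf [1, 2, 3, 4, 5, 6, 7, 3, 2, 1, 4, 8, 7, 3, 2, 1, 4, 5]) (.leaf [1, 2, 3, 4, 5, 6, 7, 3, 2, 1, 4, 3, 2, 5, 8, 7, 3, 2, 1, 4, 3, 5, 6, 7]) (.leaf [1, 2, 3, 4, 5, 6, 7, 3, 2, 1, 4, 3, 5, 4, 8, 7, 3, 2, 1, 0, 4, 3, 2, 5, 7, 3, 4, 8]) (.leaf [])) (.node (.leaf [1, 2, 3, 4, 5, 6, 7, 3, 2, 1, 4, 3, 2, 5, 4, 7, 8, 7, 3, 4]) (.leaf [1, 2, 3, 4, 5, 6, 7, 3, 2, 1, 4, 3, 5, 4, 8, 7, 3, 2, 1, 0, 4, 3, 2, 5, 4]) (.leaf [1, 2, 3,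 4, 5, 6, 7, 3, 2, 1, 4, 3, 5, 4, 8, 7, 3, 2, 1, 4, 3, 2, 5, 4, 7, 3, 2, 1, 4]) (.leaf [])))) (.node (.node (.node (.leaf [1, 0, 2, 3, 7, 8]) (.leaf [1, 2, 3, 4, 5, 6, 7, 3, 2, 4, 3, 7, 8, 7, 3, 2, 1, 4, 3, 2]) (.leaf [1, 2, 3, 4, 5, 6, 7, 3, 2, 1, 4, 5, 8, 7, 3, 2, 1, 0, 4, 3, 2, 5, 6, 7, 8]) (.leaf [1, 2, 3, 4, 5, 6, 7, 3, 2, 1, 4, 3, 2, 5, 4, 8, 7, 3, 2, 1, 0, 4, 3, 2, 1, 5, 7, 3, 8, 7])) (.node (.leaf [1, 2, 3, 4, 5, 6, 7, 3, 2, 4, 8, 7, 3, 2]) (.leaf [1, 0, 2, 3, 4, 5, 6, 7, 3, 2, 4, 3, 5, 4, 7, 8, 7, 3, 2, 4, 3, 5]) (.leaf [1, 2, 3, 4, 5, 6, 7, 3, 2, 1, 4, 5, 8, 7, 3, 2, 1, 4, 3, 2, 5, 4, 7, 3, 8, 7]) (.leaf [1, 2, 3, 4, 5, 6, 7, 3,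 2, 1, 4, 3, 5, 4, 8, 7, 3, 2, 1, 0, 4, 3, 2, 5, 4, 6, 7, 3, 2, 8, 7])) (.node (.leaf [1, 2, 3, 4, 5, 6, 7, 3, 2, 1, 4, 3, 5, 4, 7, 3, 8]) (.leaf [1, 2, 3, 4, 5, 6, 7, 3, 2, 1, 4, 3, 5, 4, 7, 8, 7, 3, 2, 1, 4, 3, 2]) (.leaf [1, 2, 3, 4, 5, 6, 7, 3, 2, 4, 3, 5, 8, 7, 3, 2, 1, 4, 3, 2, 5, 4, 3, 7, 3, 4, 8]) (.leaf [])) (.node (.leaf [1, 0, 2, 3, 4, 5, 6, 7, 3, 2, 4, 3, 8, 7, 3, 2, 4, 3, 5]) (.leaf [1, 2, 3, 4, 5, 6, 7, 3, 2, 1, 4, 3, 5, 8, 7, 3, 2, 1, 4, 3, 2, 5, 4, 3]) (.leaf [1, 2, 3, 4, 5, 6, 7, 3, 2, 1, 4, 3, 2, 5, 4, 3, 8, 7, 3, 2, 1, 4, 3, 2, 5, 7, 3, 4, 5]) (.leaf []))) (.node (.node (.leaf [1, 2, 3, 4, 5, 7, 3, 2, 1, 4]) (.leaf [1,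 2, 3, 4, 5, 6, 7, 3, 2, 4, 5, 8, 7, 3, 2, 4, 3, 5, 6, 7]) (.leaf [1, 2, 3, 4, 5, 6, 7, 3, 2, 1, 4, 3, 2, 5, 4, 8, 7, 3, 2, 1, 0, 4, 3, 5, 6, 7]) (.leaf [1, 2, 3, 4, 5, 6, 7, 3, 2, 1, 4, 3, 2, 5, 8, 7, 3, 2, 1, 0, 4, 3, 2, 5, 4, 6, 7, 3, 4, 5])) (.node (.leaf [1, 2, 3, 4, 5, 7, 3, 2, 1, 8, 7, 3, 2, 4, 5]) (.leaf [1, 2, 3, 4, 5, 6, 7, 3, 2, 1, 4, 3, 2, 8, 7, 3, 2, 1, 4, 3, 7, 8]) (.leaf [1, 2, 3, 4, 5, 6, 7, 3, 2, 1, 4, 3, 2, 5, 4, 8, 7, 3, 2, 1, 4, 3, 2, 5, 6, 7, 8]) (.leaf [1, 2, 3, 4, 5, 6, 7, 3, 2, 1, 4, 3, 2, 5, 7, 8, 7, 3, 2, 1, 0, 4, 3, 2, 5, 4, 7, 3, 4, 8, 7, 3])) (.node (.leaf [1, 2, 3, 4, 5, 7, 3, 2, 4, 3, 8, 7, 3, 2, 4, 5, 6])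 (.leaf [1, 2, 3, 4, 5, 6, 7, 3, 2, 1, 4, 3, 8, 7, 3, 2, 4, 3, 5, 4, 7, 3, 2]) (.leaf [1, 2, 3, 4, 5, 6, 7, 3, 2, 1, 4, 3, 2, 5, 4, 8, 7, 3, 2, 1, 4, 3, 2, 5, 7, 3, 4, 5]) (.leaf [])) (.node (.leaf [1, 2, 3, 4, 5, 6, 7, 3, 2, 1, 4, 3, 8, 7, 3, 2, 4, 3, 7]) (.leaf [1, 2, 3, 4, 5, 6, 7, 3, 2, 1, 4, 3, 2, 5, 4, 3, 8, 7, 3, 2, 1, 0, 4, 3, 5]) (.leaf [1, 2, 3, 4, 5, 6, 7, 3, 2, 1, 4, 3, 2, 5, 4, 8, 7, 3, 2, 1, 4, 3, 2, 5, 7, 3, 4, 5, 8]) (.leaf []))) (.node (.node (.leaf [1, 2, 3, 4, 5, 6, 7, 3, 2, 1, 4, 3]) (.leaf [1, 2, 3, 4, 5, 6, 7, 3, 2, 1, 4, 3, 2, 8, 7, 3, 2, 4, 3, 5, 6]) (.leaf [1, 2, 3, 4, 5, 6, 7, 3, 2, 1, 4, 3, 2, 5, 8, 7, 3, 2, 1,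 4, 3, 2, 5, 7, 3, 8]) (.leaf [1, 2, 3, 4, 5, 6, 7, 3, 2, 1, 4, 3, 5, 4, 8, 7, 3, 2, 1, 4, 3, 2, 5, 4, 7, 3, 4, 5, 6, 8])) (.node (.leaf [1, 2, 3, 4, 5, 6, 7, 3, 2, 1, 4, 3, 2, 5, 7, 8]) (.leaf [1, 2, 3, 4, 5, 6, 7, 3, 2, 1, 4, 5, 8, 7, 3, 2, 1, 0, 4, 3, 5, 6]) (.leaf [1, 2, 3, 4, 5, 6, 7, 3, 2, 1, 4, 3, 2, 5, 8, 7, 3, 2, 1, 4, 3, 2, 5, 6, 7, 3, 4]) (.leaf [1, 2, 3, 4, 5, 6, 7, 3, 2, 1, 4, 3, 2, 5, 8, 7, 3, 2, 1, 4, 3, 2, 5, 4, 7, 3, 2, 4, 5, 8, 7, 3, 4])) (.node (.leaf [1, 2, 3, 4, 5, 6, 7, 3, 2, 1, 4, 3, 2, 7, 8, 7, 3, 2]) (.leaf [1, 2, 3, 4, 5, 6, 7, 3, 2, 1, 4, 3, 2, 5, 4, 7, 8, 7, 3, 2, 1, 4, 3, 2]) (.leaf [1, 2, 3, 4, 5, 6, 7, 3, 2,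 1, 4, 3, 2, 5, 8, 7, 3, 2, 1, 4, 3, 2, 5, 4, 6, 7, 3, 4]) (.leaf [])) (.node (.leaf [1, 2, 3, 4, 5, 6, 7, 3, 2, 4, 3, 8, 7, 3, 2, 1, 4, 5, 6]) (.leaf [1, 2, 3, 4, 5, 6, 7, 3, 2, 1, 4, 3, 2, 5, 8, 7, 3, 2, 1, 0, 4, 3, 2, 7, 8]) (.leaf [1, 2, 3, 4, 5, 6, 7, 3, 2, 1, 4, 3, 2, 5, 8, 7, 3, 2, 1, 4, 3, 2, 5, 4, 7, 3, 2, 4, 8]) (.leaf []))) (.node (.node (.leaf [1, 2, 3, 4, 5, 6, 7, 3, 2, 4, 5, 8, 7]) (.leaf [1, 2, 3, 4, 5, 6, 7, 3, 2, 1, 4, 5, 8, 7, 3, 2, 1, 4, 3, 2, 5]) (.leaf [1, 2, 3, 4, 5, 6, 7, 3, 2, 1, 4, 3, 5, 4, 8, 7, 3, 2, 1, 4, 3, 5, 4, 6, 7, 3]) (.leaf [1, 2, 3, 4, 5, 6, 7, 3, 2, 1, 4, 3, 2, 5, 4, 8, 7, 3, 2, 1, 4, 3, 2, 5, 4, 3, 7,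 3, 2, 8, 7])) (.node (.leaf [1, 2, 3, 4, 5, 6, 7, 3, 2, 4, 5, 8, 7, 3, 4, 5]) (.leaf [1, 0, 2, 3, 4, 5, 6, 7, 3, 2, 4, 3, 5, 4, 8, 7, 3, 2, 1, 4, 3, 5, 6]) (.leaf [1, 2, 3, 4, 5, 6, 7, 3, 2, 1, 4, 3, 5, 4, 8, 7, 3, 2, 1, 4, 3, 5, 4, 6, 7, 3, 2]) (.leaf [])) (.node (.leaf [1, 2, 3, 4, 5, 6, 7, 3, 2, 4, 3, 5, 4, 7, 8, 7, 3, 4]) (.leaf [1, 2, 3, 4, 5, 6, 7, 3, 2, 1, 4, 3, 2, 8, 7, 3, 2, 4, 3, 5, 4, 7, 3, 2]) (.leaf [1, 2, 3, 4, 5, 6, 7, 3, 2, 1, 4, 3, 5, 4, 8, 7, 3, 2, 1, 4, 3, 2, 5, 4, 7, 3, 4, 8]) (.leaf [])) (.node (.leaf [1, 2, 3, 4, 5, 6, 7, 3, 2, 1, 4, 3, 2, 7, 8, 7, 3, 2, 1, 4]) (.leaf [1, 2, 3, 4, 5, 6, 7, 3, 2, 1, 4, 3, 5, 4, 8, 7,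 3, 2, 1, 4, 3, 2, 7, 3, 8]) (.leaf [1, 2, 3, 4, 5, 6, 7, 3, 2, 1, 4, 3, 5, 7, 8, 7, 3, 2, 1, 4, 3, 2, 5, 4, 6, 7, 3, 8, 7]) (.leaf [])))) (.node (.node (.node (.leaf [1, 2, 3, 4, 5, 7, 3, 2]) (.leaf [1, 2, 3, 4, 5, 6, 7, 3, 2, 1, 4, 8, 7, 3, 2, 1, 4, 3, 5, 4]) (.leaf [1, 2, 3, 4, 5, 6, 7, 3, 2, 1, 4, 5, 8, 7, 3, 2, 1, 4, 3, 5, 4, 7, 3, 2, 8]) (.leaf [1, 2, 3, 4, 5, 6, 7, 3, 2, 1, 4, 3, 2, 5, 4, 8, 7, 3, 2, 1, 0, 4, 3, 2, 7, 3, 4, 5, 8, 7])) (.node (.leaf [1, 0, 2, 3, 4, 5, 6, 7, 3, 2, 4, 3, 8, 7, 3]) (.leaf [1, 0, 2, 3, 4, 5, 6, 7, 3, 2, 4, 3, 5, 8, 7, 3, 2, 4, 3, 5, 6, 7]) (.leaf [1, 2, 3, 4, 5, 6, 7, 3, 2, 1, 4, 3, 2, 5, 4, 3, 8, 7, 3,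 2, 1, 0, 4, 3, 2, 7, 8]) (.leaf [1, 2, 3, 4, 5, 6, 7, 3, 2, 1, 4, 3, 5, 8, 7, 3, 2, 1, 4, 3, 2, 5, 4, 3, 7, 3, 2, 1, 4, 8, 7])) (.node (.leaf [1, 2, 3, 4, 5, 7, 3, 2, 1, 4, 3, 8, 7, 3, 2, 4, 3]) (.leaf [1, 2, 3, 4, 5, 6, 7, 3, 2, 1, 4, 3, 5, 4, 8, 7, 3, 2, 1, 4, 3, 5, 7]) (.leaf [1, 2, 3, 4, 5, 6, 7, 3, 2, 1, 4, 3, 2, 5, 4, 3, 8, 7, 3, 2, 1, 4, 3, 5, 4, 7, 3, 8]) (.leaf [])) (.node (.leaf [1, 2, 3, 4, 5, 6, 7, 3, 2, 1, 4, 3, 2, 5, 7, 3, 8, 7, 3]) (.leaf [1, 2, 3, 4, 5, 6, 7, 3, 2, 1, 4, 3, 8, 7, 3, 2, 1, 0, 4, 3, 5, 4, 7, 3]) (.leaf [1, 2, 3, 4, 5, 6, 7, 3, 2, 1, 4, 3, 2, 5, 4, 7, 8, 7, 3, 2, 1, 4, 3, 2, 5, 4, 3, 7, 8]) (.leaf []))) (.node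 (.node (.leaf [1, 0, 2, 3, 4, 5, 7, 3, 2, 4, 8]) (.leaf [1, 0, 2, 3, 4, 5, 6, 7, 3, 2, 4, 3, 5, 7, 8, 7, 3, 2, 4, 3, 7]) (.leaf [1, 2, 3, 4, 5, 6, 7, 3, 2, 1, 4, 3, 2, 5, 4, 8, 7, 3, 2, 4, 3, 5, 4, 6, 7, 3]) (.leaf [1, 2, 3, 4, 5, 6, 7, 3, 2, 1, 4, 3, 2, 5, 8, 7, 3, 2, 1, 4, 3, 2, 5, 4, 6, 7, 3, 4, 8, 7])) (.node (.leaf [1, 2, 3, 4, 5, 7, 3, 2, 4, 3, 8, 7, 3, 2, 4]) (.leaf [1, 2, 3, 4, 5, 6, 7, 3, 2, 1, 4, 3, 5, 4, 8, 7, 3, 2, 1, 4, 3, 5]) (.leaf [1, 2, 3, 4, 5, 6, 7, 3, 2, 1, 4, 3, 2, 5, 4, 8, 7, 3, 2, 4, 3, 5, 4, 7, 3, 2, 8]) (.leaf [1, 2, 3, 4, 5, 6, 7, 3, 2, 1, 4, 3, 2, 5, 8, 7, 3, 2, 1, 4, 3, 2, 5, 4, 6, 7, 3, 4, 8, 7, 3, 2])) (.node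 (.leaf [1, 0, 2, 3, 4, 5, 6, 7, 3, 2, 4, 3, 5, 4, 7, 3, 8, 7]) (.leaf [1, 2, 3, 4, 5, 6, 7, 3, 2, 1, 4, 5, 8, 7, 3, 2, 1, 4, 3, 5, 4, 6, 7]) (.leaf [1, 2, 3, 4, 5, 6, 7, 3, 2, 1, 4, 3, 2, 5, 4, 8, 7, 3, 2, 4, 3, 5, 4, 6, 7, 3, 8, 7]) (.leaf [])) (.node (.leaf [1, 2, 3, 4, 5, 6, 7, 3, 2, 1, 4, 5, 8, 7, 3, 2, 1, 4, 3]) (.leaf [1, 2, 3, 4, 5, 6, 7, 3, 2, 1, 4, 3, 2, 5, 4, 7, 8, 7, 3, 2, 1, 4, 3, 5, 7]) (.leaf [1, 2, 3, 4, 5, 6, 7, 3, 2, 1, 4, 3, 2, 5, 7, 3, 8, 7, 3, 2, 1, 0, 4, 3, 2, 7, 3, 8, 7]) (.leaf []))) (.node (.node (.leaf [1, 2, 3, 4, 5, 6, 7, 3, 2, 4, 8, 7]) (.leaf [1, 2, 3, 4, 5, 6, 7, 3, 2, 1, 4, 3, 5, 4, 7, 8, 7, 3, 2, 4, 5]) (.leaf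 [1, 2, 3, 4, 5, 6, 7, 3, 2, 1, 4, 3, 2, 8, 7, 3, 2, 1, 4, 3, 5, 4, 7, 3, 2, 1]) (.leaf [1, 2, 3, 4, 5, 6, 7, 3, 2, 1, 4, 3, 5, 8, 7, 3, 2, 1, 4, 3, 2, 5, 4, 7, 3, 2, 1, 4, 5, 8])) (.node (.leaf [1, 2, 3, 4, 5, 6, 7, 3, 2, 1, 4, 3, 5, 8, 7, 3]) (.leaf [1, 2, 3, 4, 5, 6, 7, 3, 2, 1, 4, 8, 7, 3, 2, 1, 0, 4, 3, 5, 4, 6]) (.leaf [1, 2, 3, 4, 5, 6, 7, 3, 2, 1, 4, 3, 2, 7, 8, 7, 3, 2, 1, 4, 3, 2, 5, 4, 3, 7, 8]) (.leaf [])) (.node (.leaf [1, 2, 3, 4, 5, 6, 7, 3, 2, 1, 4, 3, 5, 4, 8, 7, 3, 4]) (.leaf [1, 2, 3, 4, 5, 6, 7, 3, 2, 1, 4, 3, 2, 5, 4, 8, 7, 3, 2, 4, 3, 5, 4, 6]) (.leaf [1, 2, 3, 4, 5, 6, 7, 3, 2, 1, 4, 3, 2, 5, 8, 7, 3, 2, 1, 4, 3, 5,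 4, 7, 3, 2, 1, 0]) (.leaf [])) (.node (.leaf [1, 0, 2, 3, 4, 5, 6, 7, 3, 2, 4, 3, 5, 4, 7, 8, 7, 3, 2, 4]) (.leaf [1, 2, 3, 4, 5, 6, 7, 3, 2, 1, 4, 3, 2, 5, 8, 7, 3, 2, 1, 4, 3, 5, 4, 7, 8]) (.leaf [1, 2, 3, 4, 5, 6, 7, 3, 2, 1, 4, 3, 5, 4, 7, 8, 7, 3, 2, 1, 4, 3, 2, 5, 4, 3, 7, 3, 8]) (.leaf []))) (.node (.node (.leaf [1, 0, 2, 3, 4, 5, 7, 3, 2, 4, 3, 8, 7, 3]) (.leaf [1, 2, 3, 4, 5, 6, 7, 3, 2, 1, 8, 7, 3, 2, 4, 3, 5, 4, 7, 3, 2]) (.leaf [1, 2, 3, 4, 5, 6, 7, 3, 2, 1, 4, 3, 5, 7, 8, 7, 3, 2, 1, 4, 3, 2, 5, 6, 7, 3]) (.leaf [1, 2, 3, 4, 5, 6, 7, 3, 2, 1, 4, 3, 2, 5, 4, 8, 7, 3, 2, 1, 4, 3, 5, 4, 7, 3, 2, 8, 7, 3, 4])) (.node (.leaf [1,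 0, 2, 3, 4, 5, 6, 7, 3, 2, 4, 3, 5, 8, 7, 3, 2]) (.leaf [1, 2, 3, 4, 5, 6, 7, 3, 2, 1, 4, 3, 2, 5, 4, 8, 7, 3, 2, 1, 4, 3, 7]) (.leaf [1, 2, 3, 4, 5, 6, 7, 3, 2, 1, 4, 3, 5, 7, 8, 7, 3, 2, 1, 4, 3, 2, 5, 4, 7, 3, 4]) (.leaf [])) (.node (.leaf [1, 2, 3, 4, 5, 6, 7, 3, 2, 4, 3, 7, 8, 7, 3, 4, 5, 6]) (.leaf [1, 2, 3, 4, 5, 6, 7, 3, 2, 1, 4, 3, 5, 4, 8, 7, 3, 2, 1, 0, 4, 3, 2, 5]) (.leaf [1, 2, 3, 4, 5, 6, 7, 3, 2, 1, 4, 3, 5, 7, 8, 7, 3, 2, 1, 4, 3, 2, 5, 4, 7, 3, 2, 8]) (.leaf [])) (.node (.leaf [1, 2, 3, 4, 5, 7, 3, 2, 1, 4, 3, 2, 8, 7, 3, 2, 1, 4, 3, 7]) (.leaf [1, 2, 3, 4, 5, 6, 7, 3, 2, 1, 4, 3, 5, 7, 8, 7, 3, 2, 1, 0, 4, 3, 5, 7, 8])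 (.leaf [1, 2, 3, 4, 5, 6, 7, 3, 2, 1, 4, 3, 5, 8, 7, 3, 2, 1, 4, 3, 2, 5, 4, 7, 3, 2, 1, 0, 8]) (.leaf [])))))
def pathTree : SporBound.Q (List ℕ) := (.node (.node pathTree0 pathTree4 pathTree8 pathTree12) (.node pathTree1 pathTree5 pathTree9 pathTree13) (.node pathTree2 pathTree6 pathTree10 pathTree14) (.node pathTree3 pathTree7 pathTree11 pathTree15))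

end CfsgLib.Recog.SporBound.Fi22Aut
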