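import Cfsg.Agent.Lib.Recog.SporBound.Fi22Aut.Data
import Cfsg.Agent.Lib.Recog.SporBound.Fi22Aut.PathData
import Cfsg.Agent.Lib.Recog.SporBound.OrbitChain
import Cfsg.Agent.Lib.ThreeTrans.CosetIndex.FiHat3510.Valid
import Cfsg.Agent.Lib.ThreeTrans.CosetIndex.FiHat3510.Orbits
import Cfsg.Agent.S1687

set_option autoImplicit false
set_option maxRecDepth 20000
set_option Elab.async false

/-! Kernel checks for the automorphism group of Fi22 (owner: helper6). -/

namespace CfsgLib.Recog.SporBound.Fi22Aut

open CfsgLib.ThreeTrans.CosetIndex
open CfsgLib.Recog.SporBound.OrbitChain (maskFrom)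
open Cfsg.Agent.S1687 (gens)

/-- The word to a row. -/
noncomputable def path (r : ℕ) : List ℕ := pathTree.get r

/-- The transposition of a row as a word. -/
noncomputable def pal (r : ℕ) : List ℕ := (path r).reverse ++ [0] ++ path r

/-- The transposition of `r` fixes `s`. -/
noncomputable def comB (r s : ℕ) : Bool :=
  Nat.beq (FiHat3510.data.tab (FiHat3510.data.trace s (path r).reverse) 0) (FiHat3510.data.trace s (path r).reverse)

/-- A power of the element of order 11 on the rows. -/
noncomputable def it (k : ℕ) (r : ℕ) : ℕ := Nat.rec (motive := fun _ => ℕ) r (fun _ v => yTree.get v) k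

theorem path_ok : ((List.range 3510).all fun r => Nat.beq (FiHat3510.data.trace 0 (path r)) r) = true := by
  decide +kernel

theorem y_ok : ((List.range 3510).all fun r => Nat.beq (FiHat3510.data.trace r yWord.reverse) (yTree.get r) &&
    (Nat.beq r 0 || !Nat.beq (yTree.get r) r)) = true := by decide +kernel

theorem y_eleven : ((List.range 3510).all fun r => Nat.beq (it 11 r) r) = true := by decide +kernel

theorem cyc_ok : ((List.range 11).all fun k => Nat.beq (it k 1) (cycData.getD k 0)) = true := by decide +kernel

/-- The rows generated by the cycle of row 1. -/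
noncomputable def closeFrom (steps : List (ℕ × ℕ)) (acc : ℕ) : ℕ :=
  List.rec (motive := fun _ => ℕ → ℕ) (fun acc => acc)
    (fun e _ ih acc => ih (cond (acc.testBit e.1)
      (Nat.lor acc (Nat.shiftLeft 1 (FiHat3510.data.trace e.1 (pal (cycData.getD e.2 1))))) acc)) steps acc

/-- The rows of the cycle. -/
def cycMask : ℕ := cycData.foldr (fun r acc => Nat.lor acc (Nat.shiftLeft 1 r)) 0

theorem close_ok : Nat.beq (closeFrom cycSteps cycMask) (2 ^ 3510 - 1) = true := by decide +kernel

/-- The three invariants of a row. -/
noncomputable def survB (r : ℕ) : Bool :=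
  comB r (it 3 r) && (!comB r (it 1 r) && comB (FiHat3510.data.trace (it 5 r) (pal r)) (it 6 r))

theorem surv_one : survB 1 = true := by decide +kernel

theorem surv_count : Nat.ble ((List.range 3510).countP fun r => FiHat3510.mask1.testBit r && survB r) 22 = true := by
  decide +kernel

/-- Adjacency in the diagram. -/
def adjB (j k : ℕ) : Bool :=
  [(0, 1), (1, 2), (2, 3), (3, 4), (3, 7), (4, 5), (5, 6), (7, 8)].any fun e =>
    (Nat.beq e.1 j && Nat.beq e.2 k) || (Nat.beq e.1 k && Nat.beq e.2 j)

/-- A row may follow a prefix. -/
noncomputable def validB (pre : List ℕ) (s : ℕ) : Bool :=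
  (List.range pre.length).all fun j =>
    !Nat.beq s (pre.getD j 0) && (comB (pre.getD j 0) s == !adjB j pre.length)

/-- The check of a node. -/
noncomputable def nodeOK (i : ℕ) : Bool :=
  let e := nodeData.getD i ([], [], [])
  Nat.blt e.1.length 9 && (e.1.all fun p => decide (p < 3510) && e.2.1.all fun w => Nat.beq (FiHat3510.data.trace p w) p) &&
    (e.2.2.all fun c => Nat.blt c.1 3510 &&
      (Nat.beq (maskFrom FiHat3510.data e.2.1 c.2.2 (Nat.shiftLeft 1 c.1)) c.2.1 &&
        (finalData.contains (e.1 ++ [c.1]) ||
          (List.range i).any fun j => (nodeData.getD j ([], [], [])).1 == e.1 ++ [c.1]))) &&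
    ((List.range 3510).all fun s => !validB e.1 s || e.2.2.any fun c => c.2.1.testBit s)

theorem nodes_ok : (List.range 22).all nodeOK = true := by decide +kernel

theorem node_root : nodeData.length = 22 ∧ (nodeData.getD 21 ([], [], [])).1 = [] ∧ finalData.length = 2 ∧
    finalData.all (fun f => Nat.beq f.length 9) = true := by decide +kernel

/-- The symmetry of the diagram. -/
def rv (x : ℕ) : ℕ := if x < 7 then 6 - x else x

theorem sig_rels : ((relWords Cfsg.Spor.Fi22.edges Cfsg.Spor.Fi22.extra gens).all fun w =>
    (relWords Cfsg.Spor.Fi22.edges Cfsg.Spor.Fi22.extra gens).contains (w.map rv) ||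
      (List.range 3510).all fun c => Nat.beq (FiHat3510.data.trace c (w.map rv).reverse) c) = true := by
  decide +kernel

theorem pal_six : ((List.range 3510).all fun c =>
    Nat.beq (FiHat3510.data.trace c (pal 173)) (FiHat3510.data.tab c 6)) = true := by decide +kernel

theorem pi_ok : ((List.range 3510).all fun r =>
    Nat.beq (FiHat3510.data.trace 173 ((path r).map rv)) (piTree.get r) &&
      Nat.beq (piTree.get (piTree.get r)) r) = true := by decide +kernel

theorem pi_fixed : (List.range 3510).countP (fun r => Nat.beq (piTree.get r) r) = 360 := by decide +kernel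

theorem tab_ne : ((List.range 9).all fun j => (List.range 9).all fun k => Nat.beq j k ||
    (List.range 3510).any fun c => !Nat.beq (FiHat3510.data.tab c j) (FiHat3510.data.tab c k)) = true := by
  decide +kernel

end CfsgLib.Recog.SporBound.Fi22Aut
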